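import Cfsg.Agent.Lib.FiTwentyTwoByTwo.Frame

/-!
# First consequences of the shape of the core
-/

set_option autoImplicit false
set_option linter.unusedSectionVars false

namespace Cfsg.Agent.FiTwentyTwoByTwo

open Subgroup Cfsg.Agent.ThreeTransp.U62Cent
open scoped commutatorElement

universe u'

variable {G : Type u'} [Group G]

/-- the centraliser of both central elements -/
abbrev cH (z u : G) : Subgroup G := centralizer ({z} : Set G) ⊓ centralizer ({u} : Set G)

theorem mem_cH {z u c : G} : c ∈ cH z u ↔ Commute c z ∧ Commute c u := and_congr mem_cent mem_cent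

theorem cH_le (z u : G) : cH z u ≤ centralizer ({z} : Set G) := inf_le_left

variable [Finite G] {z u : G}

namespace Frame

variable (F : Frame z u)

include F

theorem comm_zu : Commute u z := commute_of_O2c F.u_mem

theorem z_inv : z⁻¹ = z := inv_eq_of_mul_eq_one_right F.zz

theorem uz_sq : u * z * (u * z) = 1 := by rw [F.comm_zu.symm.mul_mul_mul_comm, F.uu, F.zz, one_mul]

theorem uzz : u * z * z = u := by rw [mul_assoc, F.zz, mul_one]

theorem perm {c : G} (hc : Commute c z) : c * u * c⁻¹ = u ∨ c * u * c⁻¹ = u * z := by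
  have hm := conj_O2c hc F.u_mem
  have hcent : ∀ y ∈ O2c z, Commute (c * u * c⁻¹) y := fun y hy => by
    have := conj_commute c (F.u_cent _ (conj_O2c hc.inv_left hy))
    rw [show c * (c⁻¹ * y * c⁻¹⁻¹) * c⁻¹ = y by group] at this
    exact this.symm
  rcases F.center _ hm hcent with e | e | e | e
  · exact absurd (by simpa using e) F.u_ne_one
  · refine absurd ?_ F.u_ne
    calc u = c⁻¹ * (c * u * c⁻¹) * c := by group
      _ = c⁻¹ * c * z := by rw [e, mul_assoc, hc.symm.eq, mul_assoc]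
      _ = z := by group
  · exact Or.inl e
  · exact Or.inr e

theorem cH_comm_uz {c : G} (h : c ∈ cH z u) : Commute c (u * z) :=
  (mem_cH.1 h).2.mul_right (mem_cH.1 h).1

theorem conj_cH {c h : G} (hc : Commute c z) (hh : h ∈ cH z u) : c * h * c⁻¹ ∈ cH z u := by
  obtain ⟨h1, h2⟩ := mem_cH.1 hh
  refine mem_cH.2 ⟨(hc.mul_left h1).mul_left hc.inv_left, ?_⟩
  rcases F.perm hc with e | e
  · have := conj_commute c h2
    rwa [e] at this
  · have := conj_commute c (F.cH_comm_uz hh)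
    have e2 : c * (u * z) * c⁻¹ = u := by
      calc c * (u * z) * c⁻¹ = (c * u * c⁻¹) * (c * z * c⁻¹) := by group
        _ = u * z * z := by rw [e, hc.eq, mul_inv_cancel_right]
        _ = u := F.uzz
    rwa [e2] at this

theorem J_le_cH : O2c z ≤ cH z u := fun _ hx => mem_cH.2 ⟨commute_of_O2c hx, F.u_cent _ hx⟩

/-- A normal 2-subgroup of `C(z) ∩ C(u)` lies in the core. -/
theorem le_J {P : Subgroup G} (hP : P ≤ cH z u) (hn : ∀ h ∈ cH z u, ∀ p ∈ P, h * p * h⁻¹ ∈ P)
    (h2 : IsPGroup 2 ↥P) : P ≤ O2c z := by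
  haveI : Fact (Nat.Prime 2) := ⟨Nat.prime_two⟩
  set N := (cH z u).subgroupOf (centralizer ({z} : Set G)) with hN
  haveI : N.Normal := ⟨fun n hn' g => mem_subgroupOf.2 (by
    simp only [coe_mul, InvMemClass.coe_inv]
    exact F.conj_cH (mem_cent.1 g.2) (mem_subgroupOf.1 hn'))⟩
  set Q := (P.subgroupOf (centralizer ({z} : Set G))).subgroupOf N with hQ
  haveI : Q.Normal := ⟨fun q hq g => mem_subgroupOf.2 (mem_subgroupOf.2 (by
    simp only [coe_mul, InvMemClass.coe_inv]
    exact hn _ (mem_subgroupOf.1 g.2) _ (mem_subgroupOf.1 (mem_subgroupOf.1 hq))))⟩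
  have hQ2 : IsPGroup 2 ↥Q := by
    refine h2.of_injective
      ({ toFun := fun q => (⟨((q : ↥N) : ↥(centralizer ({z} : Set G))),
            mem_subgroupOf.1 (mem_subgroupOf.1 q.2)⟩ : ↥P)
         map_one' := rfl
         map_mul' := fun _ _ => rfl } : ↥Q →* ↥P) fun a b h => ?_
    have h' := congrArg (fun x : ↥P => (x : G)) h
    exact Subtype.ext (Subtype.ext (Subtype.ext h'))
  intro x hx
  have hxN : (⟨x, cH_le z u (hP hx)⟩ : ↥(centralizer ({z} : Set G))) ∈ N := mem_subgroupOf.2 (hP hx)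
  exact ⟨⟨x, cH_le z u (hP hx)⟩, Cfsg.Agent.Cores.map_pCore_subtype_le 2 N
    ⟨⟨_, hxN⟩, Cfsg.Agent.Cores.le_pCore hQ2 (mem_subgroupOf.2 (mem_subgroupOf.2 hx)), rfl⟩, rfl⟩

theorem exists_comm : ∃ x ∈ O2c z, ∃ y ∈ O2c z, x * y = z * (y * x) := by
  obtain ⟨E, hE, hEx, -⟩ := F.compl
  obtain ⟨x, y, hxy⟩ := extra_nonabelian hEx
  exact ⟨x, hE x.2, y, hE y.2, (F.comm _ (hE x.2) _ (hE y.2)).resolve_left fun e => hxy (Subtype.ext e)⟩

theorem conj_z_ne_u (g : G) : g * z * g⁻¹ ≠ u := by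
  intro hg
  classical
  haveI : Fact (Nat.Prime 2) := ⟨Nat.prime_two⟩
  have hcard : Nat.card ↥(centralizer ({u} : Set G)) = Nat.card ↥(centralizer ({z} : Set G)) := by
    refine Nat.card_congr
      { toFun := fun c => ⟨g⁻¹ * c * g, mem_cent.2 (by
          have := conj_commute g⁻¹ (mem_cent.1 c.2)
          have e0 : g⁻¹ * u * g⁻¹⁻¹ = z := by rw [← hg]; group
          rwa [e0, inv_inv] at this)⟩
        invFun := fun c => ⟨g * c * g⁻¹, mem_cent.2 (hg ▸ conj_commute g (mem_cent.1 c.2))⟩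
        left_inv := fun c => Subtype.ext (by show g * (g⁻¹ * (c : G) * g) * g⁻¹ = c; group)
        right_inv := fun c => Subtype.ext (by show g⁻¹ * (g * (c : G) * g⁻¹) * g = c; group) }
  set D := centralizer ({u} : Set G) with hD
  set C := centralizer ({z} : Set G) with hC
  have hidx : ((cH z u).subgroupOf C).index ≤ 2 := by
    let f : ↥C ⧸ (cH z u).subgroupOf C → Bool :=
      Quotient.lift (fun c : ↥C => decide ((c : G) * u * (c : G)⁻¹ = u)) (by
        intro a b h
        have h' := mem_subgroupOf.1 (QuotientGroup.leftRel_apply.1 h)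
        have hb : ((a⁻¹ * b : ↥C) : G) * u * ((a⁻¹ * b : ↥C) : G)⁻¹ = u := by
          rw [(mem_cH.1 h').2.eq, mul_inv_cancel_right]
        have e : (b : G) * u * (b : G)⁻¹ = (a : G) * u * (a : G)⁻¹ := by
          calc (b : G) * u * (b : G)⁻¹
              = (a : G) * (((a⁻¹ * b : ↥C) : G) * u * ((a⁻¹ * b : ↥C) : G)⁻¹) * (a : G)⁻¹ := by
                simp [mul_assoc]
            _ = _ := by rw [hb]
        simp [e])
    have hf : Function.Injective f := by
      intro x y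
      refine Quotient.inductionOn₂ x y fun a b h => ?_
      have h' : ((a : G) * u * (a : G)⁻¹ = u) ↔ ((b : G) * u * (b : G)⁻¹ = u) := by
        simpa [f] using h
      have e : (a : G) * u * (a : G)⁻¹ = (b : G) * u * (b : G)⁻¹ := by
        rcases F.perm (mem_cent.1 a.2) with ea | ea
        · rw [ea, h'.1 ea]
        · rcases F.perm (mem_cent.1 b.2) with eb | eb
          · rw [eb, h'.2 eb]
          · rw [ea, eb]
      refine QuotientGroup.eq.2 (mem_subgroupOf.2 (mem_cH.2 ⟨mem_cent.1 (a⁻¹ * b).2, ?_⟩))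
      refine mul_inv_eq_iff_eq_mul.1 ?_
      calc ((a⁻¹ * b : ↥C) : G) * u * ((a⁻¹ * b : ↥C) : G)⁻¹
          = (a : G)⁻¹ * ((b : G) * u * (b : G)⁻¹) * (a : G) := by simp [mul_assoc]
        _ = u := by rw [← e]; group
    have := Nat.card_le_card_of_injective f hf
    rwa [Nat.card_eq_fintype_card (α := Bool), Fintype.card_bool] at this
  have hidx' : ((cH z u).subgroupOf D).index ≤ 2 := by
    have h1 := ((cH z u).subgroupOf C).card_mul_index
    have h2 := ((cH z u).subgroupOf D).card_mul_index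
    have e1 : Nat.card ↥((cH z u).subgroupOf C) = Nat.card ↥((cH z u).subgroupOf D) := by
      rw [Nat.card_congr (subgroupOfEquivOfLe inf_le_left).toEquiv,
        Nat.card_congr (subgroupOfEquivOfLe inf_le_right).toEquiv]
    rw [e1] at h1
    rw [hcard, ← h1] at h2
    exact (Nat.eq_of_mul_eq_mul_left Nat.card_pos h2).le.trans hidx
  haveI hnD : ((cH z u).subgroupOf D).Normal := by
    have h0 : ((cH z u).subgroupOf D).index ≠ 0 := Subgroup.index_ne_zero_of_finite
    rcases (show ((cH z u).subgroupOf D).index = 1 ∨ ((cH z u).subgroupOf D).index = 2 by omega) with h | h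
    · rw [index_eq_one.1 h]; infer_instance
    · exact normal_of_index_eq_two h
  have hnorm : ∀ c ∈ D, ∀ h ∈ cH z u, c * h * c⁻¹ ∈ cH z u := fun c hc h hh => by
    have := hnD.conj_mem ⟨h, inf_le_right (a := centralizer ({z} : Set G)) hh⟩ (mem_subgroupOf.2 hh) ⟨c, hc⟩
    exact mem_subgroupOf.1 this
  have hJ2 : IsPGroup 2 ↥(O2c z) := IsPGroup.of_card (n := 10) (by rw [F.card]; norm_num)
  have hfix : ∀ c ∈ D, Commute c z := by
    intro c hc
    have hle : (O2c z).map (MulAut.conj c).toMonoidHom ≤ O2c z := by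
      refine F.le_J ?_ ?_ (hJ2.map _)
      · rintro _ ⟨x, hx, rfl⟩
        exact hnorm c hc x (F.J_le_cH hx)
      · rintro h hh _ ⟨x, hx, rfl⟩
        refine ⟨(c⁻¹ * h * c) * x * (c⁻¹ * h * c)⁻¹, conj_O2c ?_ hx, ?_⟩
        · have := hnorm c⁻¹ (inv_mem hc) h hh
          rw [inv_inv] at this
          exact (mem_cH.1 this).1
        · show c * (c⁻¹ * h * c * x * (c⁻¹ * h * c)⁻¹) * c⁻¹ = h * (c * x * c⁻¹) * h⁻¹
          group
    obtain ⟨x, hx, y, hy, hxy⟩ := F.exists_comm
    refine mul_inv_eq_iff_eq_mul.1 ?_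
    have hz' : c * z * c⁻¹ = (c * x * c⁻¹) * (c * y * c⁻¹) * ((c * y * c⁻¹) * (c * x * c⁻¹))⁻¹ := by
      rw [show (c * x * c⁻¹) * (c * y * c⁻¹) * ((c * y * c⁻¹) * (c * x * c⁻¹))⁻¹ =
        c * (x * y * (y * x)⁻¹) * c⁻¹ by group, hxy, mul_inv_cancel_right]
    rcases F.comm _ (hle (mem_map_of_mem _ hx)) _ (hle (mem_map_of_mem _ hy)) with e | e
    · exfalso
      refine F.z_ne ?_
      have e' : (MulAut.conj c).toMonoidHom (x * y) = (MulAut.conj c).toMonoidHom (y * x) := by
        rw [map_mul, map_mul]; exact e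
      have := (MulAut.conj c).injective e'
      rw [this] at hxy
      exact mul_eq_right.1 hxy.symm
    · rw [hz', show c * x * c⁻¹ * (c * y * c⁻¹) = z * (c * y * c⁻¹ * (c * x * c⁻¹)) from e,
        mul_inv_cancel_right]
  have hDC : D = C := eq_of_le_of_card_ge (fun c hc => mem_cent.2 (hfix c hc)) hcard.ge
  have hO : O2c u = O2c z := by
    show (Cfsg.pCore 2 ↥D).map D.subtype = (Cfsg.pCore 2 ↥C).map C.subtype
    rw [hDC]
  obtain ⟨x, hx, y, hy, hxy⟩ := F.exists_comm
  have hx' : g * x * g⁻¹ ∈ O2c z := hO ▸ hg ▸ (mem_O2c_conj g z x).2 hx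
  have hy' : g * y * g⁻¹ ∈ O2c z := hO ▸ hg ▸ (mem_O2c_conj g z y).2 hy
  have e' : g * x * g⁻¹ * (g * y * g⁻¹) = u * (g * y * g⁻¹ * (g * x * g⁻¹)) := by
    rw [← hg, show g * x * g⁻¹ * (g * y * g⁻¹) = g * (x * y) * g⁻¹ by group, hxy]; group
  rcases F.comm _ hx' _ hy' with e | e <;> rw [e] at e'
  · exact F.u_ne_one (mul_eq_right.1 e'.symm)
  · exact F.u_ne (mul_right_cancel e').symm

theorem swap : Frame z (u * z) where
  zz := F.zz
  z_ne := F.z_ne
  uu := F.uz_sq
  u_ne_one := fun e => F.u_ne (by rw [mul_eq_one_iff_eq_inv.1 e, F.z_inv])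
  u_ne := fun e => F.u_ne_one (mul_eq_right.1 e)
  z_mem := F.z_mem
  u_mem := mul_mem F.u_mem F.z_mem
  u_cent := fun x hx => (F.u_cent x hx).mul_right (commute_of_O2c hx)
  card := F.card
  center := fun x hx h => by
    have := F.center x hx h
    unfold InZ at *
    rw [F.uzz]
    tauto
  sq := F.sq
  comm := F.comm
  cent := F.cent
  compl := by
    obtain ⟨E, h1, h2, h3, h4, h5, h6⟩ := F.compl
    refine ⟨E, h1, h2, h3, h4, fun h => h5 ?_, fun x hx => (h6 x hx).imp id fun h => ?_⟩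
    · have := mul_mem h h4
      rwa [F.uzz] at this
    · have := mul_mem h4 h
      rwa [← mul_assoc, ← F.comm_zu.eq] at this

theorem not_conj (g : G) : g * z * g⁻¹ ≠ u ∧ g * z * g⁻¹ ≠ u * z := ⟨F.conj_z_ne_u g, F.swap.conj_z_ne_u g⟩

/-- The core contains everything acting trivially modulo its centre. -/
theorem faith {c : G} (hc : Commute c z) (h : ∀ j ∈ O2c z, InZ z u (c * j * c⁻¹ * j⁻¹)) : c ∈ O2c z := by
  haveI : Fact (Nat.Prime 2) := ⟨Nat.prime_two⟩
  have hzc : ∀ {x}, x ∈ O2c z → InZ z u x → ∀ {y}, y ∈ O2c z → Commute x y := by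
    rintro x - (rfl | rfl | rfl | rfl) y hy
    exacts [Commute.one_left y, (commute_of_O2c hy).symm, (F.u_cent y hy).symm,
      (F.u_cent y hy).symm.mul_left (commute_of_O2c hy).symm]
  have hmul : ∀ {x y}, InZ z u x → InZ z u y → InZ z u (x * y) := fun {x y} hx hy => by
    have hxJ : ∀ {w}, InZ z u w → w ∈ O2c z := by
      rintro w (rfl | rfl | rfl | rfl)
      exacts [one_mem _, F.z_mem, F.u_mem, mul_mem F.u_mem F.z_mem]
    exact F.center _ (mul_mem (hxJ hx) (hxJ hy)) fun w hw =>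
      (hzc (hxJ hx) hx hw).mul_left (hzc (hxJ hy) hy hw)
  have hinv : ∀ {x}, InZ z u x → x * x = 1 := by
    rintro x (rfl | rfl | rfl | rfl)
    exacts [mul_one 1, F.zz, F.uu, F.uz_sq]
  have hconj : ∀ {d x : G}, Commute d z → InZ z u x → InZ z u (d * x * d⁻¹) := by
    rintro d x hd (rfl | rfl | rfl | rfl)
    · exact Or.inl (by simp)
    · exact Or.inr (Or.inl (by rw [hd.eq, mul_inv_cancel_right]))
    · rcases F.perm hd with e | e <;> rw [e]
      exacts [Or.inr (Or.inr (Or.inl rfl)), Or.inr (Or.inr (Or.inr rfl))]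
    · have e2 : d * (u * z) * d⁻¹ = d * u * d⁻¹ * z := by
        rw [← mul_assoc, mul_assoc (d * u) z, ← hd.inv_left.eq, ← mul_assoc]
      rcases F.perm hd with e | e <;> rw [e2, e]
      · exact Or.inr (Or.inr (Or.inr rfl))
      · exact Or.inr (Or.inr (Or.inl F.uzz))
  set C := centralizer ({z} : Set G) with hC
  let K0 : Subgroup ↥C :=
    { carrier := {d | ∀ j ∈ O2c z, InZ z u ((d : G) * j * (d : G)⁻¹ * j⁻¹)}
      one_mem' := fun j _ => Or.inl (by simp)
      mul_mem' := by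
        intro a b ha hb j hj
        have hbj := hb j hj
        have e : ((a * b : ↥C) : G) * j * ((a * b : ↥C) : G)⁻¹ * j⁻¹ =
            ((a : G) * ((b : G) * j * (b : G)⁻¹ * j⁻¹) * (a : G)⁻¹) * ((a : G) * j * (a : G)⁻¹ * j⁻¹) := by
          simp [mul_assoc]
        rw [e]
        exact hmul (hconj (mem_cent.1 a.2) hbj) (ha j hj)
      inv_mem' := by
        intro a ha j hj
        have hj' := conj_O2c (mem_cent.1 a.2).inv_left hj
        have h1 := ha _ hj'
        rw [inv_inv, show (a : G) * ((a : G)⁻¹ * j * (a : G)) * (a : G)⁻¹ = j by group] at h1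
        have e : ((a⁻¹ : ↥C) : G) * j * ((a⁻¹ : ↥C) : G)⁻¹ * j⁻¹ =
            (j * ((a : G)⁻¹ * j * (a : G))⁻¹)⁻¹ := by
          simp [mul_assoc]
        rw [e, inv_eq_of_mul_eq_one_right (hinv h1)]
        exact h1 }
  haveI : K0.Normal := ⟨fun n hn g j hj => by
    have hj' := conj_O2c (mem_cent.1 g.2).inv_left hj
    have h1 := hconj (mem_cent.1 g.2) (hn _ hj')
    rw [inv_inv] at h1
    convert h1 using 1
    simp [mul_assoc]⟩
  have h4 : ∀ d ∈ K0, ((d : G) * (d : G)) * ((d : G) * (d : G)) ∈ O2c z := by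
    intro d hd
    set q := (d : G) with hq
    have hqz : Commute q z := mem_cent.1 d.2
    have hq2u : ∀ {x}, InZ z u x → q * q * x * (q * q)⁻¹ = x := by
      have hu : q * q * u * (q * q)⁻¹ = u := by
        rcases F.perm hqz with e | e
        · rw [show q * q * u * (q * q)⁻¹ = q * (q * u * q⁻¹) * q⁻¹ by group, e, e]
        · calc q * q * u * (q * q)⁻¹ = q * (q * u * q⁻¹) * q⁻¹ := by group
            _ = q * (u * z) * q⁻¹ := by rw [e]
            _ = (q * u * q⁻¹) * (q * z * q⁻¹) := by group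
            _ = u := by rw [e, hqz.eq, mul_inv_cancel_right, F.uzz]
      have hzq : Commute (q * q) z := hqz.mul_left hqz
      have huq : Commute (q * q) u := mul_inv_eq_iff_eq_mul.1 hu
      rintro x (rfl | rfl | rfl | rfl)
      exacts [by simp, by rw [hzq.eq, mul_inv_cancel_right], hu,
        by rw [(huq.mul_right hzq).eq, mul_inv_cancel_right]]
    refine F.cent _ fun j hj => mul_inv_eq_iff_eq_mul.1 ?_
    set ζ := q * q * j * (q * q)⁻¹ * j⁻¹ with hζ
    have hζZ : InZ z u ζ := (mul_mem hd hd : d * d ∈ K0) j hj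
    calc q * q * (q * q) * j * (q * q * (q * q))⁻¹ = q * q * (ζ * j) * (q * q)⁻¹ := by rw [hζ]; group
      _ = (q * q * ζ * (q * q)⁻¹) * (ζ * j) := by rw [hζ]; group
      _ = j := by rw [hq2u hζZ, ← mul_assoc, hinv hζZ, one_mul]
  have h2 : IsPGroup 2 ↥K0 := fun d => ⟨4, by
    refine Subtype.ext (Subtype.ext ?_)
    show (((d : ↥C) : G)) ^ 2 ^ 4 = 1
    set w := ((d : ↥C) : G) * ((d : ↥C) : G) * (((d : ↥C) : G) * ((d : ↥C) : G)) with hw
    have hwJ : w ∈ O2c z := h4 d.1 d.2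
    have h1 : w * w * (w * w) = 1 := by
      rcases F.sq w hwJ with e | e <;> rw [e]
      exacts [one_mul 1, F.zz]
    rw [show (2 : ℕ) ^ 4 = ((1 + 1 + (1 + 1)) + (1 + 1 + (1 + 1))) + ((1 + 1 + (1 + 1)) + (1 + 1 + (1 + 1))) from rfl]
    simp only [pow_add, pow_one]
    exact h1⟩
  exact ⟨⟨c, mem_cent.2 hc⟩, Cfsg.Agent.Cores.le_pCore h2 h, rfl⟩

end Frame

end Cfsg.Agent.FiTwentyTwoByTwo
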