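import Cfsg.Agent.Lib.FiTwentyTwoByTwo.Pairs

/-!
# Lifting centralisers from the isometry group to `C(z, u)`
-/

set_option autoImplicit false
set_option linter.unusedSectionVars false

namespace Cfsg.Agent.FiTwentyTwoByTwo

open Subgroup Cfsg.Agent.ThreeTransp.U62Cent Cfsg.Agent.ThreeTransp.U62Cent.W8

/-- only `0` and `d` are orthogonal to everything orthogonal to `d` -/
theorem perp_perp {d w : W8} (h : ∀ x, bb d x = false → bb w x = false) : w = 0 ∨ w = d := by
  rcases bb_nondeg d with rfl | ⟨e, -, he⟩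
  · refine Or.inl ((bb_nondeg w).resolve_right ?_)
    rintro ⟨x, -, hx⟩
    rw [h x (by rw [← W8.add_self x, bb_add_left, Bool.xor_self])] at hx
    exact absurd hx (by decide)
  · have key : ∀ x, bb w x = (bb d x && bb w e) := by
      intro x
      cases hx : bb d x
      · rw [h x hx]; rfl
      · have h1 := h (x + e) (by rw [bb_add_right, hx, he]; rfl)
        rw [bb_add_right] at h1
        revert h1
        cases bb w x <;> cases bb w e <;> decide
    cases hw : bb w e
    · refine Or.inl ((bb_nondeg w).resolve_right ?_)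
      rintro ⟨x, -, hx⟩
      rw [key x, hw, Bool.and_false] at hx
      exact absurd hx (by decide)
    · refine Or.inr (W8.eq_of_add ((bb_nondeg _).resolve_right ?_))
      rintro ⟨x, -, hx⟩
      rw [bb_add_left, key x, hw, Bool.and_true, Bool.xor_self] at hx
      exact absurd hx (by decide)

/-- an isometry fixing the orthogonal of a singular vector is trivial -/
theorem eq_one_of_fix_perp {e : Bool} {t : Equiv.Perm W8} (ht : IsInv e t) {d : W8} (hq : qe e d = false)
    (h : ∀ y, bb d y = false → t y = y) : t = 1 := by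
  refine Equiv.ext fun y => ?_
  show t y = y
  cases hy : bb d y
  · exact h y hy
  rcases perp_perp (d := d) (w := t y + y) (fun x hx => by
    rw [bb_comm]; exact ht.perp_im (h x hx) y) with e' | e'
  · exact W8.eq_of_add e'
  · exfalso
    have h1 : t y = d + y := by rw [← e', add_assoc, W8.add_self, add_zero]
    have h2 := ht.iso.q y
    rw [h1, qe_add, hq, hy] at h2
    revert h2
    cases qe e y <;> decide

universe u'

variable {G : Type u'} [Group G] [Finite G] {z u : G}

namespace Co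

variable (K : Co z u)

include K

theorem zb_eq_one {t : Bool} (h : zb z t = (1 : G)) : t = false := by
  cases t
  · rfl
  · exact absurd h K.z_ne

theorem q_of_sq {x : G} (hx : x ∈ O2c z) (h : x * x = 1) : qe K.e (K.vec x) = false :=
  K.zb_eq_one (by rw [← K.sq hx, h])

theorem commute_iff_bb {x y : G} (hx : x ∈ O2c z) (hy : y ∈ O2c z) :
    Commute x y ↔ bb (K.vec x) (K.vec y) = false := by
  constructor
  · intro h
    refine K.zb_eq_one ?_
    have e := K.comm hx hy
    rw [h.eq] at e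
    exact mul_eq_right.1 e.symm
  · intro h
    show x * y = y * x
    rw [K.comm hx hy, h, zb_false, one_mul]

theorem fix_of_commute {c j : G} (hz : Commute c z) (hu : Commute c u) (hj : j ∈ O2c z)
    (h : Commute j c) : K.img c (K.vec j) = K.vec j := by
  rw [← K.vec_conj hz hu hj, h.symm.eq, mul_inv_cancel_right]

/-- If an involution of the core has the smaller centraliser in the core, the two agree modulo the centre. -/
theorem cent_in_J {x a : G} (hx : x ∈ O2c z) (hx2 : x * x = 1) (haz : Commute a z) (hau : Commute a u)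
    (ha2 : a * a = 1) (h : ∀ j ∈ O2c z, Commute j x → Commute j a) : InZ z u a ∨ InZ z u (x * a) := by
  have hJ : a ∈ O2c z := by
    refine (K.ker haz hau).1 (eq_one_of_fix_perp (K.img_isInv haz hau ha2) (K.q_of_sq hx hx2) ?_)
    intro y hy
    have := K.fix_of_commute haz hau (K.lift_mem y) (h _ (K.lift_mem y) ((K.commute_iff_bb (K.lift_mem y) hx).2
      (by rw [K.vec_lift, bb_comm]; exact hy)))
    rwa [K.vec_lift] at this
  rcases perp_perp (d := K.vec x) (w := K.vec a) (fun y hy => by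
    have hc := h _ (K.lift_mem y) ((K.commute_iff_bb (K.lift_mem y) hx).2
      (by rw [K.vec_lift, bb_comm]; exact hy))
    have := (K.commute_iff_bb hJ (K.lift_mem y)).1 hc.symm
    rwa [K.vec_lift] at this) with e | e
  · exact Or.inl ((K.vec_eq_zero hJ).1 e)
  · exact Or.inr ((K.vec_eq_zero (mul_mem hx hJ)).1 (by rw [K.vec_mul hx hJ, e, W8.add_self]))

/-- an element of order three commuting with the image of an involution `v` lifts into `C(v)` when the
fixed vectors lift into `C(v)` -/
theorem lift_commute {v : G} (hvz : Commute v z) (hvu : Commute v u) (hv2 : v * v = 1)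
    {h : Equiv.Perm W8} (hh : h ∈ K.I) (h3 : h * (h * h) = 1) (hcom : h * K.img v = K.img v * h)
    (hfix : ∀ j ∈ O2c z, K.img v (K.vec j) = K.vec j → Commute j v)
    (hsing : ∀ y, K.img v y = y → qe K.e y = false → y + h y + h (h y) = 0 → y ∈ imV (K.img v)) :
    ∃ c, Commute c z ∧ Commute c u ∧ Commute c v ∧ K.img c = h := by
  have hvi : v⁻¹ = v := inv_eq_of_mul_eq_one_right hv2
  obtain ⟨c, hcz, hcu, hc, hc3⟩ := K.lift_three hh h3
  set w := c * v * c⁻¹ with hw
  have hwz : Commute w z := (hcz.mul_left hvz).mul_left hcz.inv_left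
  have hwu : Commute w u := (hcu.mul_left hvu).mul_left hcu.inv_left
  set j := v * w with hj
  have hw2 : w * w = 1 := by
    rw [hw, show c * v * c⁻¹ * (c * v * c⁻¹) = c * (v * v) * c⁻¹ by group, hv2]; group
  have hjJ : j ∈ O2c z := by
    refine (K.ker (hvz.mul_left hwz) (hvu.mul_left hwu)).1 ?_
    rw [K.img_mul hvz hvu hwz hwu, hw, K.img_conj hcz hcu hvz hvu, hc, hcom, mul_inv_cancel_right,
      (K.img_isInv hvz hvu hv2).sq]
  have hinvj : v * j * v⁻¹ = j⁻¹ := by
    rw [hj, mul_inv_rev, hvi, inv_eq_of_mul_eq_one_right hw2, ← mul_assoc v v, hv2, one_mul]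
  set y := K.vec j with hy
  have hty : K.img v y = y := by rw [hy, ← K.vec_conj hvz hvu hjJ, hinvj, K.vec_inv hjJ]
  have hjv := hfix j hjJ hty
  have hj2 : j * j = 1 := by
    rw [hjv.symm.eq, mul_inv_cancel_right] at hinvj
    nth_rewrite 2 [hinvj]
    rw [mul_inv_cancel]
  have hsum : y + h y + h (h y) = 0 := by
    have h1 : j * (c * j * c⁻¹) * (c * (c * j * c⁻¹) * c⁻¹) = 1 := by
      calc j * (c * j * c⁻¹) * (c * (c * j * c⁻¹) * c⁻¹)
          = v * (w * w) * ((c * c) * (v * v) * (c * c)⁻¹) * ((c * (c * c)) * v * (c * (c * c))⁻¹) := by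
            rw [hj, hw]; group
        _ = 1 := by rw [hw2, hv2, hc3]; simp [hv2]
    have hm := conj_O2c hcz hjJ
    have h2 := congrArg K.vec h1
    rw [K.vec_mul (mul_mem hjJ hm) (conj_O2c hcz hm), K.vec_mul hjJ hm, K.vec_conj hcz hcu hm,
      K.vec_conj hcz hcu hjJ, hc, K.vec_one] at h2
    exact h2
  obtain ⟨kv, hkv⟩ := hsing y hty (K.q_of_sq hjJ hj2) hsum
  set k := K.lift kv with hk
  have hkJ : k ∈ O2c z := K.lift_mem kv
  have hkv' : K.img v kv + kv = y := hkv
  set m := mv v k with hm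
  have hmJ : m ∈ O2c z := mul_mem (conj_O2c hvz hkJ) (inv_mem hkJ)
  have hζ : InZ z u (m⁻¹ * j) := K.eq_mul_inZ hmJ hjJ (by
    rw [hm, K.vec_mv hvz hvu hkJ, hk, K.vec_lift, hkv'])
  set ζ := m⁻¹ * j with hζd
  set d := k⁻¹ * c with hd
  have hdz : Commute d z := (K.J_comm_z hkJ).inv_left.mul_left hcz
  have hdu : Commute d u := (K.J_comm_u hkJ).inv_left.mul_left hcu
  have hdimg : K.img d = h := by
    rw [hd, K.img_mul (K.J_comm_z hkJ).inv_left (K.J_comm_u hkJ).inv_left hcz hcu,
      K.img_J (inv_mem hkJ), one_mul, hc]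
  have hdv : d * v * d⁻¹ = v * ζ := by
    calc d * v * d⁻¹ = k⁻¹ * (v * j) * k := by
          rw [hd, show v * j = w by rw [hj, ← mul_assoc, hv2, one_mul], hw]; group
      _ = k⁻¹ * (v * (m * ζ)) * k := by rw [hζd]; group
      _ = k⁻¹ * ((v * v) * k * v⁻¹ * k⁻¹) * (ζ * k) := by rw [hm]; unfold mv; group
      _ = v * (k⁻¹ * (ζ * k)) := by rw [hv2, hvi]; group
      _ = v * ζ := by rw [← (K.inZ_comm' hζ hkJ).eq, inv_mul_cancel_left]
  have hζd : d * ζ * d⁻¹ = ζ := by rw [(K.inZ_comm hζ hdz hdu).eq, mul_inv_cancel_right]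
  set e := d * (d * d) with he
  have heJ : e ∈ O2c z := (K.ker (hdz.mul_left (hdz.mul_left hdz)) (hdu.mul_left (hdu.mul_left hdu))).1 (by
    rw [K.img_mul hdz hdu (hdz.mul_left hdz) (hdu.mul_left hdu), K.img_mul hdz hdu hdz hdu, hdimg, h3])
  have hev : e * v * e⁻¹ = v * ζ := by
    calc e * v * e⁻¹ = d * (d * (d * v * d⁻¹) * d⁻¹) * d⁻¹ := by rw [he]; group
      _ = d * (d * (v * ζ) * d⁻¹) * d⁻¹ := by rw [hdv]
      _ = d * ((d * v * d⁻¹) * (d * ζ * d⁻¹)) * d⁻¹ := by group
      _ = d * (v * (ζ * ζ)) * d⁻¹ := by rw [hdv, hζd, mul_assoc v]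
      _ = d * v * d⁻¹ := by rw [K.inZ_sq hζ, mul_one]
      _ = _ := hdv
  have hec : Commute e v := by
    refine hfix e heJ ?_
    have h1 : v * e * v⁻¹ = ζ * e := by
      rw [mul_inv_eq_iff_eq_mul] at hev
      calc v * e * v⁻¹ = v * e * v := by rw [hvi]
        _ = v * (e * v) := mul_assoc _ _ _
        _ = v * (v * ζ * e) := by rw [hev]
        _ = (v * v) * (ζ * e) := by group
        _ = _ := by rw [hv2, one_mul]
    rw [← K.vec_conj hvz hvu heJ, h1, K.vec_mul (K.inZ_mem hζ) heJ, (K.vec_eq_zero (K.inZ_mem hζ)).2 hζ,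
      zero_add]
  have hζ1 : ζ = 1 := by
    rw [hec.eq, mul_inv_cancel_right] at hev
    exact mul_eq_left.1 hev.symm
  refine ⟨d, hdz, hdu, ?_, hdimg⟩
  rw [hζ1, mul_one] at hdv
  exact mul_inv_eq_iff_eq_mul.1 hdv

end Co

end Cfsg.Agent.FiTwentyTwoByTwo
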