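import Cfsg.Agent.Lib.FiTwentyTwoByTwo.Witness

/-!
# Pairs `(v, a)` conjugate to `(u, z)` inside `C(z, u)`, and the action of involutions on the core
-/

set_option autoImplicit false
set_option linter.unusedSectionVars false

namespace Cfsg.Agent.FiTwentyTwoByTwo

open Subgroup Cfsg.Agent.ThreeTransp.U62Cent Cfsg.Agent.ThreeTransp.U62Cent.W8

universe u'

variable {G : Type u'} [Group G] [Finite G] {z u : G}

/-- the central element with given exponents -/
def zu (z u : G) (p q : Bool) : G := zb z p * zb u q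

/-- a conjugate `v` of `u` in `C(z, u)`, not central, with its partner `a` -/
structure Pr (z u v a : G) : Prop where
  ex : ∃ h, h * u * h⁻¹ = v ∧ h * z * h⁻¹ = a
  vz : Commute v z
  vu : Commute v u
  az : Commute a z
  au : Commute a u
  nz : ¬ InZ z u v

/-- the commutator of `c` with `x` -/
abbrev mv (c x : G) : G := c * x * c⁻¹ * x⁻¹

namespace Co

variable (K : Co z u)

include K

theorem zu_mul (p q p' q' : Bool) : zu z u p q * zu z u p' q' = zu z u (xor p p') (xor q q') := by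
  have hc : Commute (zb u q) (zb z p') := by
    cases q <;> cases p' <;> first | exact Commute.one_left _ | exact Commute.one_right _ | exact K.comm_zu
  unfold zu
  rw [mul_assoc, ← mul_assoc (zb u q), hc.eq, mul_assoc, zb_mul K.uu, ← mul_assoc, zb_mul K.zz]

theorem inZ_iff {x : G} : InZ z u x ↔ ∃ p q, x = zu z u p q := by
  constructor
  · rintro (rfl | rfl | rfl | rfl)
    exacts [⟨false, false, by simp [zu, zb]⟩, ⟨true, false, by simp [zu, zb]⟩,
      ⟨false, true, by simp [zu, zb]⟩, ⟨true, true, by simpa [zu, zb] using K.comm_zu.eq⟩]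
  · rintro ⟨_ | _, _ | _, rfl⟩ <;> simp [InZ, zu, zb, K.comm_zu.symm.eq]

theorem zu_inj {p q p' q' : Bool} (h : zu z u p q = zu z u p' q') : p = p' ∧ q = q' := by
  have h1 := congrArg (fun x => x * zu z u p' q') h
  simp only [K.zu_mul, Bool.xor_self] at h1
  have key : ∀ a b, zu z u a b = zu z u false false → a = false ∧ b = false := by
    intro a b e
    have e1 : zu z u false false = (1 : G) := by simp [zu, zb]
    rw [e1] at e
    cases a <;> cases b <;> simp only [zu, zb, if_true, if_false, Bool.false_eq_true, one_mul, mul_one] at e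
    · exact ⟨rfl, rfl⟩
    · exact absurd e K.u_ne_one
    · exact absurd e K.z_ne
    · exact absurd (K.comm_zu.eq.trans e) K.uz_ne_one
  obtain ⟨e1, e2⟩ := key _ _ h1
  exact ⟨by cases p <;> cases p' <;> simp_all, by cases q <;> cases q' <;> simp_all⟩

theorem inZ_mul {x y : G} (hx : InZ z u x) (hy : InZ z u y) : InZ z u (x * y) := by
  obtain ⟨p, q, rfl⟩ := K.inZ_iff.1 hx
  obtain ⟨p', q', rfl⟩ := K.inZ_iff.1 hy
  exact K.inZ_iff.2 ⟨_, _, K.zu_mul p q p' q'⟩

theorem inZ_sq {x : G} (hx : InZ z u x) : x * x = 1 := by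
  obtain ⟨p, q, rfl⟩ := K.inZ_iff.1 hx
  rw [K.zu_mul, Bool.xor_self, Bool.xor_self]
  simp [zu, zb]

theorem inZ_comm' {x y : G} (hx : InZ z u x) (hy : y ∈ O2c z) : Commute y x :=
  K.inZ_comm hx (K.J_comm_z hy) (K.J_comm_u hy)

theorem zb_inZ (t : Bool) : InZ z u (zb z t) := by cases t <;> simp [InZ, zb]

/-- commutators of core elements -/
theorem mv_J {x y : G} (hx : x ∈ O2c z) (hy : y ∈ O2c z) : mv x y = zb z (bb (K.vec x) (K.vec y)) := by
  show x * y * x⁻¹ * y⁻¹ = _
  rw [K.comm hx hy]; group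

/-- elements of the core fixed modulo the centre -/
theorem mv_mem {c x : G} (hz : Commute c z) (hu : Commute c u) (hx : x ∈ O2c z)
    (hf : K.img c (K.vec x) = K.vec x) : InZ z u (mv c x) := by
  refine (K.vec_eq_zero (mul_mem (conj_O2c hz hx) (inv_mem hx))).1 ?_
  rw [K.vec_mul (conj_O2c hz hx) (inv_mem hx), K.vec_inv hx, K.vec_conj hz hu hx, hf, W8.add_self]

theorem mv_mul_right {c x y : G} (hx : x ∈ O2c z) (h : InZ z u (mv c y)) :
    mv c (x * y) = mv c x * mv c y := by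
  calc mv c (x * y) = c * x * c⁻¹ * (mv c y * x⁻¹) := by unfold mv; group
    _ = c * x * c⁻¹ * (x⁻¹ * mv c y) := by rw [(K.inZ_comm' h hx).inv_left.eq]
    _ = _ := by unfold mv; group

theorem mv_mul_left {c d x : G} (hc : Commute c z) (hcu : Commute c u) (hd : InZ z u (mv d x)) :
    mv (c * d) x = mv d x * mv c x := by
  calc mv (c * d) x = c * mv d x * c⁻¹ * mv c x := by unfold mv; group
    _ = _ := by rw [(K.inZ_comm hd hc hcu).eq, mul_inv_cancel_right]

theorem mv_eq_of_vec {c x y : G} (hz : Commute c z) (hu : Commute c u) (hx : x ∈ O2c z) (hy : y ∈ O2c z)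
    (h : K.vec x = K.vec y) : mv c y = mv c x := by
  have h1 := K.eq_mul_inZ hx hy h
  have h2 : mv c (x⁻¹ * y) = 1 := by
    show c * (x⁻¹ * y) * c⁻¹ * (x⁻¹ * y)⁻¹ = 1
    rw [(K.inZ_comm h1 hz hu).eq, mul_inv_cancel_right, mul_inv_cancel]
  have h3 := K.mv_mul_right (c := c) hx (y := x⁻¹ * y) (by rw [h2]; exact Or.inl rfl)
  rwa [mul_inv_cancel_left, h2, mul_one] at h3

theorem mv_eq_one_iff {c x : G} : mv c x = 1 ↔ Commute c x := by
  show c * x * c⁻¹ * x⁻¹ = 1 ↔ _
  rw [mul_inv_eq_one, mul_inv_eq_iff_eq_mul]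
  rfl

/-- whether `c` moves the lifts of a vector by `u` -/
noncomputable def ub (c : G) (v : W8) : Bool := by
  classical
  exact decide (∃ p, mv c (K.lift v) = zu z u p true)

theorem ub_eq {c x : G} (hz : Commute c z) (hu : Commute c u) (hx : x ∈ O2c z) {p q : Bool}
    (h : mv c x = zu z u p q) : K.ub c (K.vec x) = q := by
  classical
  rw [K.mv_eq_of_vec hz hu (K.lift_mem _) hx (K.vec_lift _)] at h
  unfold ub
  cases q
  · refine decide_eq_false ?_
    rintro ⟨p', hp'⟩
    exact absurd (K.zu_inj (h.symm.trans hp')).2 (by decide)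
  · exact decide_eq_true ⟨p, h⟩

theorem ub_add {c : G} (hz : Commute c z) (hu : Commute c u) {v w : W8} (hv : K.img c v = v)
    (hw : K.img c w = w) : K.ub c (v + w) = xor (K.ub c v) (K.ub c w) := by
  have h1 := K.mv_mem hz hu (K.lift_mem v) (by rw [K.vec_lift, hv])
  have h2 := K.mv_mem hz hu (K.lift_mem w) (by rw [K.vec_lift, hw])
  obtain ⟨p, q, e1⟩ := K.inZ_iff.1 h1
  obtain ⟨p', q', e2⟩ := K.inZ_iff.1 h2
  have e := K.mv_mul_right (c := c) (K.lift_mem v) h2
  rw [e1, e2, K.zu_mul] at e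
  have h3 := K.ub_eq hz hu (mul_mem (K.lift_mem v) (K.lift_mem w)) e
  have h4 := K.ub_eq hz hu (K.lift_mem v) e1
  have h5 := K.ub_eq hz hu (K.lift_mem w) e2
  rw [K.vec_mul (K.lift_mem v) (K.lift_mem w), K.vec_lift, K.vec_lift] at h3
  rw [K.vec_lift] at h4 h5
  rw [h3, h4, h5]

theorem img_iso {c : G} (hz : Commute c z) (hu : Commute c u) : IsIso K.e false (K.img c) :=
  K.iso _ (K.img_mem hz hu)

theorem img_isInv {c : G} (hz : Commute c z) (hu : Commute c u) (h2 : c * c = 1) :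
    IsInv K.e (K.img c) := ⟨K.img_iso hz hu, by rw [← K.img_mul hz hu hz hu, h2, K.img_one]⟩

/-- the value on a commutator of an involution -/
theorem mv_comm {c k : G} (hz : Commute c z) (hc2 : c * c = 1) (hk : k ∈ O2c z) :
    mv c (mv c k) = zb z (qe K.e (K.vec (mv c k))) := by
  have hy : mv c k ∈ O2c z := mul_mem (conj_O2c hz hk) (inv_mem hk)
  have hinv : c⁻¹ = c := inv_eq_of_mul_eq_one_right hc2
  have h : c * mv c k * c⁻¹ = (mv c k)⁻¹ := by
    refine eq_inv_of_mul_eq_one_left ?_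
    calc c * mv c k * c⁻¹ * mv c k = (c * c) * k * (c⁻¹ * c⁻¹) * k⁻¹ := by
          unfold mv; group
      _ = 1 := by rw [hinv, hc2]; group
  show c * mv c k * c⁻¹ * (mv c k)⁻¹ = _
  rw [h, ← _root_.mul_inv_rev, K.sq hy]
  cases qe K.e (K.vec (mv c k)) <;> simp [zb, K.z_inv]

theorem vec_mv {c k : G} (hz : Commute c z) (hu : Commute c u) (hk : k ∈ O2c z) :
    K.vec (mv c k) = K.img c (K.vec k) + K.vec k := by
  rw [K.vec_mul (conj_O2c hz hk) (inv_mem hk), K.vec_inv hk, K.vec_conj hz hu hk]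

theorem ub_im {c : G} (hz : Commute c z) (hu : Commute c u) (hc2 : c * c = 1) (v : W8) :
    K.ub c (K.img c v + v) = false := by
  have hy : mv c (K.lift v) ∈ O2c z := mul_mem (conj_O2c hz (K.lift_mem v)) (inv_mem (K.lift_mem v))
  have h := K.ub_eq hz hu hy (p := qe K.e (K.vec (mv c (K.lift v)))) (q := false)
    (by rw [K.mv_comm hz hc2 (K.lift_mem v)]; simp [zu, zb])
  rwa [K.vec_mv hz hu (K.lift_mem v), K.vec_lift] at h

theorem ub_inv {c k : G} (hz : Commute c z) (hu : Commute c u) (hkz : Commute k z)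
    (hku : Commute k u) (hc : K.img k * K.img c = K.img c * K.img k) {v : W8} (hv : K.img c v = v) :
    K.ub c (K.img k v) = K.ub c v := by
  set x := K.lift v with hx
  have hxJ : x ∈ O2c z := K.lift_mem v
  have hk' : k * x * k⁻¹ ∈ O2c z := conj_O2c hkz hxJ
  set c' := k⁻¹ * c * k with hc'
  have hc'z : Commute c' z := (hkz.inv_left.mul_left hz).mul_left hkz
  have hc'u : Commute c' u := (hku.inv_left.mul_left hu).mul_left hku
  set j := c⁻¹ * c' with hj
  have hjJ : j ∈ O2c z := by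
    refine K.img_eq_mul_J hz hu hc'z hc'u ?_
    rw [hc', K.img_mul (hkz.inv_left.mul_left hz) (hku.inv_left.mul_left hu) hkz hku,
      K.img_mul hkz.inv_left hku.inv_left hz hu, K.img_inv hkz hku, mul_assoc, ← hc, inv_mul_cancel_left]
  obtain ⟨p, q, e⟩ := K.inZ_iff.1 (K.mv_mem hz hu hxJ (by rw [hx, K.vec_lift, hv]))
  have hjx : mv j x = zb z (bb (K.vec j) (K.vec x)) := K.mv_J hjJ hxJ
  have e' : mv c' x = zu z u (xor (bb (K.vec j) (K.vec x)) p) q := by
    rw [show c' = c * j by rw [hj]; group, K.mv_mul_left hz hu (by rw [hjx]; exact K.zb_inZ _), hjx, e,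
      show zb z (bb (K.vec j) (K.vec x)) = zu z u (bb (K.vec j) (K.vec x)) false by simp [zu, zb],
      K.zu_mul, Bool.false_xor]
  have e2 : mv c (k * x * k⁻¹) = zu z u (xor (bb (K.vec j) (K.vec x)) p) q := by
    calc mv c (k * x * k⁻¹) = k * mv c' x * k⁻¹ := by rw [hc']; unfold mv; group
      _ = _ := by
        rw [e', (K.inZ_comm (K.inZ_iff.2 ⟨_, _, rfl⟩) hkz hku).eq, mul_inv_cancel_right]
  have h1 := K.ub_eq hz hu hk' e2
  have h2 := K.ub_eq hz hu hxJ e
  rw [K.vec_conj hkz hku hxJ, hx, K.vec_lift] at h1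
  rw [hx, K.vec_lift] at h2
  rw [h1, h2]

/-- when no `u` is involved the commutator is a power of `z` -/
theorem mv_zb {c x : G} (hz : Commute c z) (hu : Commute c u) (hx : x ∈ O2c z)
    (hf : K.img c (K.vec x) = K.vec x) (hb : K.ub c (K.vec x) = false) : ∃ p, mv c x = zb z p := by
  obtain ⟨p, q, e⟩ := K.inZ_iff.1 (K.mv_mem hz hu hx hf)
  have := K.ub_eq hz hu hx e
  rw [hb] at this
  exact ⟨p, by rw [e, ← this]; simp [zu, zb]⟩

/-- the functional on fixed vectors -/
theorem ub_fix {c : G} (hz : Commute c z) (hu : Commute c u) (hc2 : c * c = 1) (hne : K.img c ≠ 1) :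
    ((K.e = true ∧ INat K.I) → ∀ v, K.img c v = v → K.ub c v = false) ∧
      (ISplit K.I → K.img c ∈ K.I → ∀ v ∈ sixV, K.img c v = v → K.ub c v = false) ∧
      (ISplit K.I → K.img c ∉ K.I → (fixV (K.img c) ∩ sixV).ncard = 8 →
        ∀ v ∈ sixV, K.img c v = v → K.ub c v = false) := by
  have hv := K.img_isInv hz hu hc2
  have hm := K.img_mem hz hu
  have hadd := fun v w (h1 : K.img c v = v) (h2 : K.img c w = w) => K.ub_add hz hu h1 h2
  have hinv : ∀ g ∈ K.I, g * K.img c = K.img c * g → ∀ v, K.img c v = v → K.ub c (g v) = K.ub c v := by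
    intro g hg hc v hv'
    obtain ⟨k, hkz, hku, rfl⟩ := (K.img_range g).1 (K.I_le hg)
    exact K.ub_inv hz hu hkz hku hc hv'
  refine ⟨fun ⟨he, hN⟩ => ?_, fun hS hI => ?_, fun hS hI h8 v hv6 hv' => ?_⟩
  · by_cases hI : K.img c ∈ K.I
    · exact psi_nat hN hI hv.sq hne hadd (K.ub_im hz hu hc2) hinv
    · intro v hv'
      have hS : N.Semi (K.img c) := ⟨hv.iso.add, he ▸ hv.iso.q, hv.self, K.semi he hN _ hm hI⟩
      rw [← hS.fix_im hv']
      exact K.ub_im hz hu hc2 _
  · exact psi_split hS hI hv.sq hne hadd (K.ub_im hz hu hc2) hinv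
  · rcases K.outer_six hS hm hI hv.sq with ⟨h32, -⟩ | ⟨-, him⟩
    · omega
    · obtain ⟨w, -, rfl⟩ := him v hv6 hv'
      exact K.ub_im hz hu hc2 _

/-- in the split shape inner elements do not move the plane by `u` -/
theorem ub_plane (hS : ISplit K.I) {p : W8} (hp : p ∈ vecs [0, 64, 128, 192]) {c : G}
    (hz : Commute c z) (hu : Commute c u) (hI : K.img c ∈ K.I) : K.ub c p = false := by
  classical
  haveI := hS.simple
  choose lf hlz hlu hlf using fun g : ↥K.I => (K.img_range (g : Equiv.Perm W8)).1 (K.I_le g.2)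
  have hfix : ∀ {d : G}, K.img d ∈ K.I → K.img d (K.vec (K.lift p)) = K.vec (K.lift p) := fun hd => by
    rw [K.vec_lift, hS.fix_plane hd hp]
  have hxJ := K.lift_mem p
  -- additivity
  have hmul : ∀ {c d : G}, Commute c z → Commute c u → K.img c ∈ K.I → Commute d z → Commute d u →
      K.img d ∈ K.I → K.ub (c * d) p = xor (K.ub c p) (K.ub d p) := by
    intro c d h1 h2 h3 h4 h5 h6
    obtain ⟨p1, q1, e1⟩ := K.inZ_iff.1 (K.mv_mem h1 h2 hxJ (hfix h3))
    obtain ⟨p2, q2, e2⟩ := K.inZ_iff.1 (K.mv_mem h4 h5 hxJ (hfix h6))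
    have e := K.mv_mul_left h1 h2 (K.mv_mem h4 h5 hxJ (hfix h6))
    rw [e1, e2, K.zu_mul] at e
    have a1 := K.ub_eq h1 h2 hxJ e1
    have a2 := K.ub_eq h4 h5 hxJ e2
    have a3 := K.ub_eq (h1.mul_left h4) (h2.mul_left h5) hxJ e
    rw [K.vec_lift] at a1 a2 a3
    rw [a1, a2, a3, Bool.xor_comm]
  have hJ : ∀ {j : G}, j ∈ O2c z → K.ub j p = false := fun {j} hj => by
    have := K.ub_eq (K.J_comm_z hj) (K.J_comm_u hj) hxJ (p := bb (K.vec j) (K.vec (K.lift p))) (q := false)
      (by rw [K.mv_J hj hxJ]; simp [zu, zb])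
    rwa [K.vec_lift] at this
  -- independence of the lift
  have hind : ∀ {c d : G}, Commute c z → Commute c u → K.img c ∈ K.I → Commute d z → Commute d u →
      K.img c = K.img d → K.ub d p = K.ub c p := by
    intro c d h1 h2 h3 h4 h5 e
    have hj := K.img_eq_mul_J h1 h2 h4 h5 e
    have := hmul h1 h2 h3 (K.J_comm_z hj) (K.J_comm_u hj) (by rw [K.img_J hj]; exact one_mem _)
    rwa [mul_inv_cancel_left, hJ hj, Bool.xor_false] at this
  let f : ↥K.I → Bool := fun g => K.ub (lf g) p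
  have hf : ∀ g h : ↥K.I, f (g * h) = xor (f g) (f h) := fun g h => by
    show K.ub (lf (g * h)) p = xor (K.ub (lf g) p) (K.ub (lf h) p)
    rw [← hmul (hlz g) (hlu g) (hlf g ▸ g.2) (hlz h) (hlu h) (hlf h ▸ h.2)]
    refine hind ((hlz g).mul_left (hlz h)) ((hlu g).mul_left (hlu h)) ?_ (hlz _) (hlu _) ?_
    · rw [K.img_mul (hlz g) (hlu g) (hlz h) (hlu h), hlf g, hlf h]; exact (g * h).2
    · rw [K.img_mul (hlz g) (hlu g) (hlz h) (hlu h), hlf g, hlf h, hlf (g * h)]; rfl
  have hf1 : f 1 = false := by simpa using hf 1 1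
  let Kf : Subgroup ↥K.I :=
    { carrier := {g | f g = false}
      one_mem' := hf1
      mul_mem' := fun {g h} hg hh => by
        show f (g * h) = false
        rw [hf, hg, hh]; rfl
      inv_mem' := fun {g} hg => by
        show f g⁻¹ = false
        have := hf g⁻¹ g
        rw [inv_mul_cancel, hf1, hg, Bool.xor_false] at this
        exact this.symm }
  have hn : Kf.Normal := ⟨fun n hn' g => by
    show f (g * n * g⁻¹) = false
    have h1 := hf g g⁻¹
    rw [mul_inv_cancel, hf1] at h1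
    rw [hf, hf, show f n = false from hn', Bool.xor_false, ← h1]⟩
  rcases hn.eq_bot_or_eq_top with hb | ht
  · exfalso
    have hinj : Function.Injective f := fun g h e => by
      have h1 : g * h⁻¹ ∈ Kf := by
        show f (g * h⁻¹) = false
        have := hf h h⁻¹
        rw [mul_inv_cancel, hf1] at this
        rw [hf, e, ← this]
      rw [hb, mem_bot, mul_inv_eq_one] at h1
      exact h1
    have := Nat.card_le_card_of_injective f hinj
    rw [hS.card, Nat.card_eq_fintype_card, Fintype.card_bool] at this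
    omega
  · have h1 : f ⟨K.img c, hI⟩ = false := by
      have : (⟨K.img c, hI⟩ : ↥K.I) ∈ Kf := ht ▸ mem_top _
      exact this
    rw [← h1]
    exact hind (hlz _) (hlu _) (by rw [hlf ⟨K.img c, hI⟩]; exact hI) hz hu (hlf ⟨K.img c, hI⟩)

/-- an element of order three above an element of order three of the simple group -/
theorem lift_three {g : Equiv.Perm W8} (hg : g ∈ K.I) (h3 : g * (g * g) = 1) :
    ∃ c, Commute c z ∧ Commute c u ∧ K.img c = g ∧ c * (c * c) = 1 := by
  obtain ⟨c, hz, hu, rfl⟩ := (K.img_range g).1 (K.I_le hg)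
  have hj : c * (c * c) ∈ O2c z := (K.ker (hz.mul_left (hz.mul_left hz)) (hu.mul_left (hu.mul_left hu))).1 (by
    rw [K.img_mul hz hu (hz.mul_left hz) (hu.mul_left hu), K.img_mul hz hu hz hu, h3])
  have h4 : (c * (c * c)) * (c * (c * c)) * ((c * (c * c)) * (c * (c * c))) = 1 := by
    rw [K.sq hj, zb_mul K.zz, Bool.xor_self]
    rfl
  refine ⟨(c * c) * (c * c), (hz.mul_left hz).mul_left (hz.mul_left hz),
    (hu.mul_left hu).mul_left (hu.mul_left hu), ?_, ?_⟩
  · rw [K.img_mul (hz.mul_left hz) (hu.mul_left hu) (hz.mul_left hz) (hu.mul_left hu),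
      K.img_mul hz hu hz hu]
    calc K.img c * K.img c * (K.img c * K.img c) = K.img c * (K.img c * (K.img c * K.img c)) := by group
      _ = _ := by rw [h3, mul_one]
  · rw [← h4]; group

theorem inZ_conj_u {c : G} (hc : Commute c z) : InZ z u (c * u * c⁻¹) := by
  rcases K.perm c hc with e | e <;> rw [e]
  · exact Or.inr (Or.inr (Or.inl rfl))
  · exact Or.inr (Or.inr (Or.inr rfl))

end Co

namespace Pr

variable {v a : G} (P : Pr z u v a) (K : Co z u)

include P K

theorem swap_va : ∃ h, h * (u * z) * h⁻¹ = v * a ∧ h * z * h⁻¹ = a := by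
  obtain ⟨h, h1, h2⟩ := P.ex
  exact ⟨h, by rw [← h1, ← h2]; group, h2⟩

theorem va : Commute v a := by
  obtain ⟨h, h1, h2⟩ := P.ex
  rw [← h1, ← h2]
  exact conj_commute h K.comm_zu

theorem v_sq : v * v = 1 := by
  obtain ⟨h, h1, -⟩ := P.ex
  rw [← h1, show h * u * h⁻¹ * (h * u * h⁻¹) = h * (u * u) * h⁻¹ by group, K.uu]; group

theorem a_sq : a * a = 1 := by
  obtain ⟨h, -, h2⟩ := P.ex
  rw [← h2, show h * z * h⁻¹ * (h * z * h⁻¹) = h * (z * z) * h⁻¹ by group, K.zz]; group

theorem va_sq : v * a * (v * a) = 1 := by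
  rw [(P.va K).symm.mul_mul_mul_comm, P.v_sq K, P.a_sq K, one_mul]

theorem a_nz : ¬ InZ z u a := by
  obtain ⟨h, h1, h2⟩ := P.ex
  rintro (rfl | rfl | rfl | rfl)
  · exact K.z_ne (by simpa using h2)
  · refine P.nz ?_
    rw [← h1]
    exact K.inZ_conj_u (mul_inv_eq_iff_eq_mul.1 h2)
  · exact (K.not_conj h).1 h2
  · exact (K.not_conj h).2 h2

theorem cent_v (h1 : TI z u) {c : G} (hcz : Commute c z) (hcu : Commute c u) (hc : Commute c v) :
    Commute c a := by
  obtain ⟨h, e1, e2⟩ := P.ex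
  have := K.commute_conj_of_TI h1 K.comm_zu.symm K.uu (h := h) (by rw [e1]; exact P.vz)
    (by rw [e2]; exact P.az) (by rw [e2]; exact P.au) hcz hcu (by rw [e1]; exact hc)
  rwa [e2] at this

theorem cent_va (h2 : TI z (u * z)) {c : G} (hcz : Commute c z) (hcu : Commute c u)
    (hc : Commute c (v * a)) : Commute c a := by
  obtain ⟨h, e1, e2⟩ := P.swap_va K
  have := K.commute_conj_of_TI h2 (K.comm_zu.symm.mul_right (Commute.refl z)) K.uz_sq (h := h)
    (by rw [e1]; exact P.vz.mul_left P.az) (by rw [e2]; exact P.az) (by rw [e2]; exact P.au) hcz hcu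
    (by rw [e1]; exact hc)
  rwa [e2] at this

theorem va_nz (h2 : TI z (u * z)) : ¬ InZ z u (v * a) := fun h =>
  P.a_nz K (K.inZ_of_centralizes fun j hj =>
    (P.cent_va K h2 (K.J_comm_z hj) (K.J_comm_u hj) (K.inZ_comm' h hj)).symm)

theorem perm_a {c : G} (hc : Commute c a) : c * v * c⁻¹ = v ∨ c * v * c⁻¹ = v * a := by
  obtain ⟨h, e1, e2⟩ := P.ex
  have hd : Commute (h⁻¹ * c * h) z := by
    have := conj_commute h⁻¹ hc
    rwa [← e2, show h⁻¹ * (h * z * h⁻¹) * h⁻¹⁻¹ = z by group, inv_inv] at this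
  have e : c * v * c⁻¹ = h * ((h⁻¹ * c * h) * u * (h⁻¹ * c * h)⁻¹) * h⁻¹ := by rw [← e1]; group
  rcases K.perm _ hd with e' | e' <;> rw [e, e']
  · exact Or.inl e1
  · right; rw [← e1, ← e2]; group

theorem flip (h2 : TI z (u * z)) : ∃ h, h * u * h⁻¹ = v ∧ h * z * h⁻¹ = a ∧
    Pr z u (h⁻¹ * u * h) (h⁻¹ * z * h) := by
  obtain ⟨h, e1, e2⟩ := P.ex
  have back : ∀ {x y : G}, Commute (h * x * h⁻¹) y → Commute (h⁻¹ * y * h) x := fun {x y} hc => by
    have := conj_commute h⁻¹ hc
    rw [show h⁻¹ * (h * x * h⁻¹) * h⁻¹⁻¹ = x by group, inv_inv] at this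
    exact this.symm
  refine ⟨h, e1, e2, ⟨h⁻¹, by simp, by simp⟩, back (by rw [e2]; exact P.au),
    back (by rw [e1]; exact P.vu), back (by rw [e2]; exact P.az), back (by rw [e1]; exact P.vz), ?_⟩
  intro hZ
  have hh : h * (h⁻¹ * u * h) * h⁻¹ = u := by group
  rcases hZ with e | e | e | e <;> rw [e] at hh
  · exact K.u_ne_one (by simpa using hh.symm)
  · exact (K.not_conj h).1 hh
  · exact P.nz (Or.inr (Or.inr (Or.inl (e1.symm.trans hh))))
  · refine P.va_nz K h2 (Or.inr (Or.inr (Or.inl ?_)))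
    rw [← e1, ← e2]
    calc h * u * h⁻¹ * (h * z * h⁻¹) = h * (u * z) * h⁻¹ := by group
      _ = u := hh

end Pr

/-- a conjugate of `u` in `C(z, u)` outside the centre has a partner -/
theorem exists_pr (K : Co z u) (h1 : TI z u) (g : G) (hz : Commute (g * u * g⁻¹) z)
    (hu : Commute (g * u * g⁻¹) u) (hnz : ¬ InZ z u (g * u * g⁻¹)) :
    ∃ a, Pr z u (g * u * g⁻¹) a := by
  have hy : Commute (g⁻¹ * z * g) u := by
    have := conj_commute g⁻¹ hz
    rw [show g⁻¹ * (g * u * g⁻¹) * g⁻¹⁻¹ = u by group, inv_inv] at this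
    exact this.symm
  obtain ⟨o, ho, hoy⟩ := h1.exists_into K.comm_zu.symm K.zz hy (by
    rw [show g⁻¹ * z * g * (g⁻¹ * z * g) = g⁻¹ * (z * z) * g by group, K.zz]; group)
  have hou := oCore_le u ho
  have e1 : g * o * u * (g * o)⁻¹ = g * u * g⁻¹ := by
    calc g * o * u * (g * o)⁻¹ = g * (o * u * o⁻¹) * g⁻¹ := by group
      _ = _ := by rw [hou.eq, mul_inv_cancel_right]
  have haz : Commute (g * o * z * (g * o)⁻¹) z := by
    have := conj_commute g hoy
    rwa [show g * (g⁻¹ * z * g) * g⁻¹ = z by group,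
      show g * (o * z * o⁻¹) * g⁻¹ = g * o * z * (g * o)⁻¹ by group] at this
  refine ⟨_, ⟨g * o, e1, rfl⟩, hz, hu, haz, ?_, hnz⟩
  set h := g * o with hh
  set a := h * z * h⁻¹ with ha
  have hai : a⁻¹ = a := inv_eq_of_mul_eq_one_right (by
    rw [ha, show h * z * h⁻¹ * (h * z * h⁻¹) = h * (z * z) * h⁻¹ by group, K.zz]; group)
  rcases K.perm a haz with e | e
  · exact mul_inv_eq_iff_eq_mul.1 e
  · exfalso
    have hc : Commute (h⁻¹ * u * h) u := by
      have := conj_commute h⁻¹ hu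
      rw [← e1, show h⁻¹ * (h * u * h⁻¹) * h⁻¹⁻¹ = u by group, inv_inv] at this
      exact this.symm
    have hm := h1.move K.comm_zu.symm K.zz hc
    have key : h⁻¹ * u * h * z * (h⁻¹ * u * h)⁻¹ * z = h⁻¹ * z * h := by
      calc h⁻¹ * u * h * z * (h⁻¹ * u * h)⁻¹ * z = h⁻¹ * (u * (a * u⁻¹ * a⁻¹⁻¹)) * h := by
            rw [ha]; group
        _ = h⁻¹ * (u * (u * z)) * h := by rw [inv_inv, K.u_inv, ← e, hai]
        _ = _ := by rw [K.uz_uz]
    rw [key] at hm
    refine not_mem_oCore ?_ ?_ hm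
    · rw [show h⁻¹ * z * h * (h⁻¹ * z * h) = h⁻¹ * (z * z) * h by group, K.zz]; group
    · intro e'
      exact K.z_ne (by
        have := congrArg (fun w => h * w * h⁻¹) e'
        simpa [mul_assoc] using this)

end Cfsg.Agent.FiTwentyTwoByTwo
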