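import Cfsg.Agent.Lib.FiTwentyTwoByTwo.Witness

/-!
# An element scaling the commutator space of a transvection, and a functional for commuting pairs
-/

set_option autoImplicit false
set_option linter.unusedSectionVars false
set_option maxRecDepth 100000

namespace Cfsg.Agent.FiTwentyTwoByTwo

open Cfsg.Agent.ThreeTransp.U62Cent Cfsg.Agent.ThreeTransp.U62Cent.W8

/-- An element of order three commuting with a transvection and moving a vector of its commutator
space, with no singular fixed vector outside it on the quotient. -/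
theorem nat_scalar {I : Subgroup (Equiv.Perm W8)} (hN : INat I) {t : Equiv.Perm W8} (htI : t ∈ I)
    (h2 : t * t = 1) (hne : t ≠ 1) (h64 : (fixV t).ncard = 64) {d : W8} (hd : d ∈ imV t) (hd0 : d ≠ 0) :
    ∃ h ∈ I, h * (h * h) = 1 ∧ h * t = t * h ∧ h d ≠ d ∧
      ∀ y, t y = y → qe true y = false → y + h y + h (h y) = 0 → y ∈ imV t := by
  obtain ⟨y, hy, hc⟩ := hN.classes htI h2 hne
  rcases hc with hc | hc
  swap
  · exfalso
    have : (fixV t).ncard = 16 := by
      rw [← Set.ncard_image_of_injective (fixV t) y.injective, ← N.ncard_fix1]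
      congr 1
      ext x
      constructor
      · rintro ⟨x, hx, rfl⟩; exact (transport_fix hc).1 hx
      · intro hx
        exact ⟨y.symm x, (transport_fix hc).2 (by rw [Equiv.apply_symm_apply]; exact hx),
          y.apply_symm_apply x⟩
    omega
  have hyi := hN.le hy
  obtain ⟨hok, h3, hcom, hmove, hsing⟩ := Tables.scalar0
  obtain ⟨k, hk, hkw⟩ := hN.word hok
  have hyt : ∀ u, y (t u) = N.a0 (y u) := fun u => by rw [← hc]; simp
  have hk3 : k * (k * k) = 1 := by
    refine perm_ext (mul_mem (hN.add hk) (mul_mem (hN.add hk) (hN.add hk))) (one_mem _) ?_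
    rw [show cols (1 : Equiv.Perm W8) = cols id from rfl, ← h3]
    refine List.map_congr_left fun v _ => ?_
    show k (k (k v)) = wT _ v
    rw [wT_append, wT_append, hkw]
  have hka : ∀ u, k (N.a0 u) = N.a0 (k u) := fun u => by
    rw [hkw]
    exact W8.basis_add u (f := fun u => wT _ (N.a0 u)) (g := fun u => N.a0 (wT _ u))
      (fun a b => by simp only [N.a0_add, wT_add]) (fun a b => by simp only [N.a0_add, wT_add])
      (List.map_inj_left.1 hcom)
  have hL : ∀ x ∈ imV t, y x ∈ N.L0 := by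
    rintro _ ⟨x, rfl⟩
    show y (t x + x) ∈ N.L0
    rw [hyi.add, hyt]
    exact N.L0_iff.1 _
  refine ⟨y⁻¹ * k * y, mul_mem (mul_mem (inv_mem hy) hk) hy, ?_, ?_, ?_, ?_⟩
  · calc y⁻¹ * k * y * (y⁻¹ * k * y * (y⁻¹ * k * y)) = y⁻¹ * (k * (k * k)) * y := by group
      _ = 1 := by rw [hk3]; group
  · refine Equiv.ext fun u => y.injective ?_
    show y (y⁻¹ (k (y (t u)))) = y (t (y⁻¹ (k (y u))))
    rw [hyt, hka, hyt]
    simp
  · intro e
    have e' : k (y d) = y d := by
      have := congrArg (fun x => y x) e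
      simpa using this
    rcases hmove _ (hL d hd) with e0 | e0
    · exact hd0 (hyi.injective (e0.trans hyi.map_zero.symm))
    · exact e0 (by rw [← hkw]; exact e')
  · intro x hx hq hsum
    have hC : y x ∈ N.C0 := (N.C0_iff _).1 ((transport_fix hc).1 hx)
    have hsum' : y x + k (y x) + k (k (y x)) = 0 := by
      have := congrArg (fun x => y x) hsum
      simp only [Equiv.Perm.mul_apply, hyi.add, Equiv.Perm.inv_def, Equiv.apply_symm_apply, hyi.map_zero] at this
      exact this
    rcases hsing _ hC with e | e | e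
    · rw [hyi.q, hq] at e; exact absurd e (by decide)
    · obtain ⟨w, hw⟩ := N.L0_iff.2 _ e
      refine ⟨y⁻¹ w, y.injective ?_⟩
      show y (t (y⁻¹ w) + y⁻¹ w) = y x
      rw [hyi.add, hyt]
      simpa using hw
    · rw [← hkw, hsum'] at e
      exact absurd e (by simpa using (show ¬ ((0 : W8) ∉ N.L0) by decide +kernel))

/-- In the split shape the second involution is not a commutator in the centraliser of the pair. -/
theorem Rng.Pair.split_functional {R : Rng} {t s : Equiv.Perm W8} (P : R.Pair t s) (hS : ISplit R.I)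
    (htI : t ∈ R.I) (hsI : s ∈ R.I) (h8 : P.C6.ncard = 8)
    (hqt : ∀ x ∈ P.C6, (∃ v ∈ sixV, t v + v = x) → qe R.e x = false)
    (hqs : ∀ x ∈ P.C6, (∃ v ∈ sixV, s v + v = x) → qe R.e x = false) :
    ∃ χ : Equiv.Perm W8 → Bool, χ s = true ∧ ∀ g h, g ∈ R.R → h ∈ R.R → g * t = t * g → g * s = s * g →
      h * t = t * h → h * s = s * h → χ (g * h) = xor (χ g) (χ h) := by
  have ht := R.inv_of P.tR P.t2
  have hs := R.inv_of P.sR P.s2
  set Lt := (fun v => t v + v) '' sixV with hLt
  set Ls := (fun v => s v + v) '' sixV with hLs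
  have hsix : ∀ {g}, g ∈ R.R → ∀ v ∈ sixV, g v ∈ sixV := fun hg v hv => R.six_map hS _ hg v hv
  have hcard : ∀ {g}, g ∈ R.R → g ∈ R.I → g * g = 1 → g ≠ 1 → ((fun v => g v + v) '' sixV).ncard = 4 := by
    intro g hg hgI hg2 hg1
    have h := card_fix_mul_im zero_six (fun v hv w hw => add_six hv hw) (R.iso g hg).add (hsix hg)
    rw [ISplit'.fix_six hS hgI hg2 hg1, sixV_ncard] at h
    omega
  -- an element of the first commutator space moved by the second involution
  obtain ⟨n, ⟨x, hx6, hxn⟩, hn⟩ : ∃ n ∈ Lt, s n ≠ n := by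
    by_contra hc
    push Not at hc
    have hperp : ∀ l ∈ Lt, ∀ m ∈ Ls, bb l m = false := by
      rintro l hl _ ⟨w, -, rfl⟩
      exact hs.perp_im (hc l hl) w
    have hs' : ∀ m ∈ Ls, t m = m := by
      rintro _ ⟨w, hw6, rfl⟩
      refine ht.fix_of_perp fun y => ?_
      obtain ⟨h1, h3, h4⟩ := S.proj_spec y
      rw [bb_comm, ← h4, ht.iso.add, hS.fix_plane htI h3, add_add_add_comm, W8.add_self, add_zero]
      exact hperp _ ⟨_, h1, rfl⟩ _ ⟨w, hw6, rfl⟩
    have hLtC : ∀ l ∈ Lt, qe true l = false ∧ l ∈ sixV := by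
      rintro _ ⟨w, hw, rfl⟩
      have h6 := add_six (hsix P.tR w hw) hw
      refine ⟨?_, h6⟩
      rw [← R.qe_six' h6]
      exact hqt _ ⟨⟨ht.im_fix ⟨w, rfl⟩, hc _ ⟨w, hw, rfl⟩⟩, h6⟩ ⟨w, hw, rfl⟩
    have hLsC : ∀ l ∈ Ls, qe true l = false ∧ l ∈ sixV := by
      rintro _ ⟨w, hw, rfl⟩
      have h6 := add_six (hsix P.sR w hw) hw
      refine ⟨?_, h6⟩
      rw [← R.qe_six' h6]
      exact hqs _ ⟨⟨hs' _ ⟨w, hw, rfl⟩, hs.im_fix ⟨w, rfl⟩⟩, h6⟩ ⟨w, hw, rfl⟩
    set M := {x | ∃ l ∈ Lt, ∃ m ∈ Ls, l + m = x} with hM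
    have hadd : ∀ {g}, g ∈ R.R → ∀ a ∈ (fun v => g v + v) '' sixV, ∀ b ∈ (fun v => g v + v) '' sixV,
        a + b ∈ (fun v => g v + v) '' sixV := by
      rintro g hg _ ⟨a, ha, rfl⟩ _ ⟨b, hb, rfl⟩
      exact ⟨a + b, add_six ha hb, by
        show g (a + b) + (a + b) = g a + a + (g b + b)
        rw [(R.iso g hg).add, add_add_add_comm]⟩
    have h0 : ∀ {g}, g ∈ R.R → (0 : W8) ∈ (fun v => g v + v) '' sixV := fun {g} hg =>
      ⟨0, zero_six, by show g 0 + 0 = 0; rw [(R.iso g hg).map_zero, add_zero]⟩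
    have hM4 : M.ncard ≤ 4 := by
      refine six_singular_le ?_ ?_ ?_
      · rintro _ ⟨l, hl, m, hm, rfl⟩; exact add_six (hLtC l hl).2 (hLsC m hm).2
      · rintro _ ⟨l, hl, m, hm, rfl⟩ _ ⟨l', hl', m', hm', rfl⟩
        exact ⟨l + l', hadd P.tR l hl l' hl', m + m', hadd P.sR m hm m' hm', add_add_add_comm _ _ _ _⟩
      · rintro _ ⟨l, hl, m, hm, rfl⟩
        rw [qe_add, (hLtC l hl).1, (hLsC m hm).1, hperp l hl m hm]; rfl
    have e1 : Lt = M := Set.eq_of_subset_of_ncard_le (fun l hl => ⟨l, hl, 0, h0 P.sR, add_zero l⟩)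
      (by rw [hcard P.tR htI P.t2 P.t1]; exact hM4) (Set.toFinite _)
    have e2 : Ls = M := Set.eq_of_subset_of_ncard_le (fun l hl => ⟨0, h0 P.tR, l, hl, zero_add l⟩)
      (by rw [hcard P.sR hsI P.s2 P.s1]; exact hM4) (Set.toFinite _)
    have hsub : fixV t ∩ sixV ⊆ P.C6 := by
      rintro v ⟨hv, hv6⟩
      refine ⟨⟨hv, hs.fix_of_perp fun y => ?_⟩, hv6⟩
      obtain ⟨h1, h3, h4⟩ := S.proj_spec y
      rw [← h4, hs.iso.add, hS.fix_plane hsI h3, add_add_add_comm, W8.add_self, add_zero]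
      obtain ⟨w, -, hw⟩ : s (S.sixp y) + S.sixp y ∈ Lt := by
        rw [e1, ← e2]; exact ⟨_, h1, rfl⟩
      rw [← hw]
      exact ht.perp_im hv w
    have := Set.ncard_le_ncard hsub (Set.toFinite _)
    rw [ISplit'.fix_six hS htI P.t2 P.t1, h8] at this
    omega
  have hnL : n ∈ Lt := ⟨x, hx6, hxn⟩
  have hn0 : n ≠ 0 := fun e => hn (by rw [e, hs.iso.map_zero])
  set r := s n + n with hr
  have hr0 : r ≠ 0 := fun e => hn (W8.eq_of_add e)
  have hsr : s r = r := hs.im_fix ⟨n, rfl⟩
  have hinvL : ∀ {g}, g ∈ R.R → g * t = t * g → ∀ l ∈ Lt, g l ∈ Lt := by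
    rintro g hg hc _ ⟨w, hw, rfl⟩
    refine ⟨g w, hsix hg w hw, ?_⟩
    show t (g w) + g w = g (t w + w)
    rw [(R.iso g hg).add, show g (t w) = t (g w) from congrArg (fun f : Equiv.Perm W8 => f w) hc]
  have hrL : r ∈ Lt := by
    obtain ⟨y, hy, hyn⟩ := hinvL P.sR P.comm.eq.symm n hnL
    refine ⟨y + x, add_six hy hx6, ?_⟩
    have hyn' : t y + y = s n := hyn
    have hxn' : t x + x = n := hxn
    show t (y + x) + (y + x) = r
    rw [ht.iso.add, add_add_add_comm, hyn', hxn']
  have hnr : n ≠ r := fun e => hn (by rw [e, hsr])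
  have hLeq : Lt = {0, r, n, r + n} := by
    refine (Set.eq_of_subset_of_ncard_le ?_ ?_ (Set.toFinite _)).symm
    · rintro l (rfl | rfl | rfl | rfl)
      · exact ⟨0, zero_six, by show t 0 + 0 = 0; rw [ht.iso.map_zero, add_zero]⟩
      · exact hrL
      · exact hnL
      · obtain ⟨a, ha, ea⟩ := hrL
        have ea' : t a + a = r := ea
        have hxn' : t x + x = n := hxn
        exact ⟨a + x, add_six ha hx6, by
          show t (a + x) + (a + x) = r + n
          rw [ht.iso.add, add_add_add_comm, ea', hxn']⟩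
    · rw [hcard P.tR htI P.t2 P.t1]
      have hrn : r + n ≠ 0 := fun e => hnr (W8.eq_of_add e).symm
      have a1 : (0 : W8) ∉ ({r, n, r + n} : Set W8) := by
        rintro (e | e | e)
        exacts [hr0 e.symm, hn0 e.symm, hrn e.symm]
      have a2 : r ∉ ({n, r + n} : Set W8) := by
        rintro (e | e)
        exacts [hnr e.symm, hn0 (left_eq_add.1 e)]
      have a3 : n ∉ ({r + n} : Set W8) := fun e => hr0 (right_eq_add.1 e)
      rw [Set.ncard_insert_of_notMem a1, Set.ncard_insert_of_notMem a2, Set.ncard_insert_of_notMem a3,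
        Set.ncard_singleton]
  have hcase : ∀ {g}, g ∈ R.R → g * t = t * g → g * s = s * g → g r = r ∧ (g n = n ∨ g n = r + n) := by
    intro g hg hct hcs
    have hl := hinvL hg hct n hnL
    rw [hLeq] at hl
    have hgr : g r = s (g n) + g n := by
      rw [hr, (R.iso g hg).add, show g (s n) = s (g n) from congrArg (fun f : Equiv.Perm W8 => f n) hcs]
    have hinj := (R.iso g hg).injective
    have hz : g n ≠ 0 := fun e => hn0 (hinj (e.trans (R.iso g hg).map_zero.symm))
    rcases hl with e | e | e | e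
    · exact absurd e hz
    · exfalso
      rw [e, hsr, W8.add_self] at hgr
      exact hr0 (hinj (hgr.trans (R.iso g hg).map_zero.symm))
    · exact ⟨by rw [hgr, e], Or.inl e⟩
    · refine ⟨?_, Or.inr e⟩
      rw [hgr, e, hs.iso.add, hsr, add_add_add_comm, W8.add_self, zero_add]
  obtain ⟨e, -, he⟩ := (bb_nondeg r).resolve_left hr0
  refine ⟨fun g => bb (g e + e) n, ?_, ?_⟩
  · show bb (s e + e) n = true
    rw [bb_add_left, hs.bb_left, ← bb_add_right, ← hr, bb_comm]
    exact he
  · intro g h hg hh hgt hgs hht hhs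
    show bb ((g * h) e + e) n = _
    set w := h e + e with hw
    have hwr : bb w r = false := by
      rw [hw, bb_add_left]
      nth_rewrite 1 [← (hcase hh hht hhs).1]
      rw [(R.iso h hh).bb, Bool.xor_self]
    have hgw : bb (g w) n = bb w n := by
      obtain ⟨hgr, hgn | hgn⟩ := hcase hg hgt hgs
      · conv_lhs => rw [← hgn]
        exact (R.iso g hg).bb _ _
      · have hgn' : g (r + n) = n := by
          rw [(R.iso g hg).add, hgr, hgn, ← add_assoc, W8.add_self, zero_add]
        conv_lhs => rw [← hgn']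
        rw [(R.iso g hg).bb, bb_add_right, hwr, Bool.false_xor]
    have hsum : (g * h) e + e = g w + (g e + e) := by
      rw [Equiv.Perm.mul_apply, hw, (R.iso g hg).add, add_assoc, ← add_assoc (g e) (g e), W8.add_self, zero_add]
    rw [hsum, bb_add_left, hgw, Bool.xor_comm]

end Cfsg.Agent.FiTwentyTwoByTwo
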