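import Cfsg.Agent.Lib.ThreeTransp.U62Cent.AutMain

/-!
# Finite facts on the two groups of isometries for the `2 × 2^{1+8}` centraliser

For a representative involution and a fixed vector, an element of order three fixing the vector moves
the commutator space of the orthogonal hyperplane out of the fixed space. Found by search; checked here.
-/

set_option autoImplicit false
set_option maxRecDepth 100000

namespace Cfsg.Agent.FiTwentyTwoByTwo.Tables

open Cfsg.Agent.ThreeTransp.U62Cent Cfsg.Agent.ThreeTransp.U62Cent.W8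

/-- `w` moves, fixing `d`, part of `(1 + a) d^⊥` out of the fixed space of `a` -/
def moves (W : List ℕ → W8 → W8) (a : W8 → W8) (ys : List W8) (d : W8) (w : List ℕ) : Bool :=
  (W w d == d) && (cols (W (w ++ w ++ w)) == cols id) &&
    ys.any fun y => !bb y d && (a (W (w ++ w) (a y + y)) != W (w ++ w) (a y + y))

/-- witnesses -/
def mN0 : List (List ℕ) :=
  [[6, 5], [17, 5], [18, 5], [19, 5]]

/-- witnesses -/
def mN1 : List (List ℕ) :=
  [[66, 65], [24, 20], [17, 5], [19, 7], [18, 6]]

/-- witnesses -/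
def mS0 : List (List ℕ) :=
  [[2, 1], [8, 1, 4, 1], [26, 1], [22, 1, 8, 1], [23, 1, 8, 1], [22, 1, 12, 1], [23, 1, 12, 1]]

/-- witnesses -/
def mS1 : List (List ℕ) :=
  [[2, 1], [8, 1, 4, 1], [38, 1], [26, 1], [22, 1]]

theorem natMove0 : (∀ w ∈ mN0, okT w = true) ∧ ∀ d ∈ N.C0, d = 0 ∨ qe true d = true ∨ d ∈ N.L0 ∨
    ∃ w ∈ mN0, moves wT N.a0 (span basis) d w = true := by decide +kernel

theorem natMove1 : (∀ w ∈ mN1, okT w = true) ∧ ∀ d ∈ N.L1, d = 0 ∨
    ∃ w ∈ mN1, moves wT N.a1 (span basis) d w = true := by decide +kernel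

theorem splitMove0 : (∀ w ∈ mS0, okF w = true) ∧ ∀ d ∈ S.D0, (d ∈ S.L0 ∧ d ≠ 0 ∧ qe true d = false) ∨
    ∃ w ∈ mS0, moves wF S.a0 six d w = true := by decide +kernel

theorem splitMove1 : (∀ w ∈ mS1, okF w = true) ∧ ∀ d ∈ S.D1, (d ∈ S.L1 ∧ d ≠ 0 ∧ qe true d = false) ∨
    ∃ w ∈ mS1, moves wF S.a1 six d w = true := by decide +kernel

/-- words of order three fixing the exceptional vectors -/
def extraS : List (List ℕ) := [[26, 1], [38, 1], [2, 1]]

theorem splitExtra : (∀ w ∈ extraS, okF w = true ∧ cols (wF (w ++ w ++ w)) = cols id) ∧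
    (∀ d ∈ S.L0, d = 0 ∨ qe true d = true ∨
      ∃ w ∈ extraS, wF w d = d ∧ cols (fun v => wF w (S.a0 v)) ≠ cols (fun v => S.a0 (wF w v))) ∧
    ∀ d ∈ S.L1, d = 0 ∨ qe true d = true ∨
      ∃ w ∈ extraS, wF w d = d ∧ cols (fun v => wF w (S.a1 v)) ≠ cols (fun v => S.a1 (wF w v)) := by
  decide +kernel

/-- spanning set of the fixed space from the commutator space and its centraliser -/
def genN0 : List W8 := vecs [5, 10] ++ [80, 96].flatMap fun p => (vecs [16, 32, 64, 128]).map fun x => wT [p] x + x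

theorem psiN0 : (∀ p ∈ [80, 96], okT [p] = true ∧
      cols (fun v => wT [p] (N.a0 v)) = cols (fun v => N.a0 (wT [p] v))) ∧
    (∀ v ∈ vecs [16, 32, 64, 128], v ∈ N.C0) ∧
    (∀ v ∈ vecs [5, 10], v ∈ N.L0) ∧ ∀ v ∈ N.C0, v ∈ rspan genN0 := by decide +kernel

/-- spanning set of the fixed part of the six-dimensional space -/
def genS0 : List W8 := vecs [17, 5] ++ (vecs [1, 42]).map fun x => wF [42, 1] x + x

theorem psiS0 : (okF [42, 1] = true ∧
      cols (fun v => wF [42, 1] (S.a0 v)) = cols (fun v => S.a0 (wF [42, 1] v))) ∧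
    (∀ v ∈ vecs [1, 42], v ∈ S.D0) ∧ (∀ v ∈ vecs [17, 5], v ∈ S.L0) ∧
    ∀ v ∈ S.D0, v ∈ rspan genS0 := by decide +kernel

/-- spanning set of the fixed part of the six-dimensional space, other class -/
def genS1 : List W8 :=
  vecs [1, 4] ++ [16, 32].flatMap fun p => (vecs [16, 32]).map fun x => wF [p, 1] x + x

theorem psiS1 : (∀ p ∈ [16, 32], okF [p, 1] = true ∧
      cols (fun v => wF [p, 1] (S.a1 v)) = cols (fun v => S.a1 (wF [p, 1] v))) ∧
    (∀ v ∈ vecs [16, 32], v ∈ S.D1) ∧ (∀ v ∈ vecs [1, 4], v ∈ S.L1) ∧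
    ∀ v ∈ S.D1, v ∈ rspan genS1 := by decide +kernel

/-- the matrix of a completion over the fixed space of the second representative -/
def cand1 (o : List W8) : List W8 := (vecs [2, 32, 1, 16, 9, 144, 6, 96]).map (app (o ++ o.map W8.sig))

theorem cand1_id : cand1 (N.fixList1.map Prod.fst) = cols id := by decide +kernel

/-- An element fixing the fixed space of the second class: trivial, the representative, a short fixed
space, or moved by an element of order three commuting with the representative. -/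
theorem fix1_witness : (okT [96, 80, 7, 5] = true ∧
    cols (wT ([96, 80, 7, 5] ++ [96, 80, 7, 5] ++ [96, 80, 7, 5])) = cols id ∧
    cols (fun v => wT [96, 80, 7, 5] (N.a1 v)) = cols (fun v => N.a1 (wT [96, 80, 7, 5] v))) ∧
    (search true true N.fixList1).all fun o =>
      (cand1 o == cols id) || (cand1 o == cols N.a1) ||
      ((span basis).countP (fun v => app (cand1 o) v == v) != 16) ||
      (mulM (cand1 o) (cols (wT [96, 80, 7, 5])) != mulM (cols (wT [96, 80, 7, 5])) (cand1 o)) := by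
  decide +kernel

/-- There is no totally singular three-space in the six-dimensional part. -/
theorem six_index : ∀ x ∈ six, qe true x = false → x ≠ 0 → ∀ y ∈ six, qe true y = false →
    bb x y = false → y ≠ 0 → y ≠ x → ∀ w ∈ six, qe true w = false → bb x w = false → bb y w = false →
      w = 0 ∨ w = x ∨ w = y ∨ w = x + y := by decide +kernel

/-- an element of order three scaling the commutator space of the transvection, without singular fixed
vectors on the quotient -/
theorem scalar0 : okT [18, 17, 6, 5] = true ∧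
    cols (wT ([18, 17, 6, 5] ++ [18, 17, 6, 5] ++ [18, 17, 6, 5])) = cols id ∧
    cols (fun v => wT [18, 17, 6, 5] (N.a0 v)) = cols (fun v => N.a0 (wT [18, 17, 6, 5] v)) ∧
    (∀ l ∈ N.L0, l = 0 ∨ wT [18, 17, 6, 5] l ≠ l) ∧
    ∀ y ∈ N.C0, qe true y = true ∨ y ∈ N.L0 ∨
      y + wT [18, 17, 6, 5] y + wT [18, 17, 6, 5] (wT [18, 17, 6, 5] y) ∉ N.L0 := by decide +kernel

end Cfsg.Agent.FiTwentyTwoByTwo.Tables
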