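import Cfsg.Prelude
import Cfsg.Agent.Lib.Forms.U62Lift
import Cfsg.Agent.S5452
import Cfsg.Agent.Lib.ThreeTransp.U62Class.Type
import Cfsg.Agent.Lib.ThreeTransp.M22Iso.Main

/-!
An involution `d` with centraliser modulo `⟨d⟩` isomorphic to `PSU(6, 2)`, a commuting conjugate `x`
whose product with `d` is a commutator in the centraliser, whose joint centraliser has order
`2¹⁰·25920` and such that the centraliser of `x * d` permutes `{d, x}`: the group is `Fi₂₂`.
-/

set_option autoImplicit false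
set_option linter.unusedSectionVars false
set_option linter.style.haveILetI false

namespace Cfsg.Agent.FiTwentyTwoByTwo

open Cfsg.Agent.ThreeTransp

/-- An involution of the quotient centralised by a subgroup of order `2 ^ 15` is conjugate into the
class of 21. -/
theorem exists_conj_zero {Q : Type*} [Group Q] [Finite Q] (D : U62Cover.Data Q) {q : Q}
    (hq : q * q = 1) (hq1 : q ≠ 1)
    (hdvd : 2 ^ 15 ∣ Nat.card ↥(Subgroup.centralizer ({q} : Set Q))) :
    ∃ g : Q, g * q * g⁻¹ ∈ D.O 0 := by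
  haveI : Fact (Nat.Prime 2) := ⟨Nat.prime_two⟩
  obtain ⟨P₀, hP₀⟩ := Sylow.exists_subgroup_card_pow_prime (G := ↥(Subgroup.centralizer ({q} : Set Q)))
    2 hdvd
  set P : Subgroup Q := P₀.map (Subgroup.centralizer ({q} : Set Q)).subtype with hPdef
  have hPc : Nat.card ↥P = 2 ^ 15 := by
    rw [hPdef, Subgroup.card_map_of_injective (Subgroup.subtype_injective _), hP₀]
  have hPq : ∀ y ∈ P, y * q = q * y := by
    rintro _ ⟨y, -, rfl⟩
    exact Subgroup.mem_centralizer_singleton_iff.1 y.2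
  obtain ⟨R, hR⟩ := (IsPGroup.of_card hPc).exists_le_sylow
  let S' : Sylow 2 Q := (IsPGroup.of_card D.S_card).toSylow D.S_odd
  obtain ⟨g, hg⟩ := MulAction.exists_smul_eq Q S' R
  have hSR : (R : Subgroup Q) = D.S.map (MulAut.conj g).toMonoidHom := by rw [← hg]; rfl
  have hPR : P = (R : Subgroup Q) := Subgroup.eq_of_le_of_card_ge hR (by
    rw [hPc, hSR, Subgroup.card_map_of_injective (MulAut.conj g).injective, D.S_card])
  set q' := g⁻¹ * q * g with hq'
  have hq'q : q' * q' = 1 := by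
    rw [hq', show g⁻¹ * q * g * (g⁻¹ * q * g) = g⁻¹ * (q * q) * g by group, hq]; group
  have hcomm : ∀ s ∈ D.S, s * q' = q' * s := by
    intro s hs
    have h : g * s * g⁻¹ ∈ P := by
      rw [hPR, hSR]
      exact ⟨s, hs, rfl⟩
    have h' := hPq _ h
    calc s * q' = g⁻¹ * (g * s * g⁻¹ * q) * g := by rw [hq']; group
      _ = g⁻¹ * (q * (g * s * g⁻¹)) * g := by rw [h']
      _ = q' * s := by rw [hq']; group
  have hq'S : q' ∈ D.S := by
    have hp : IsPGroup 2 ↥(Subgroup.zpowers q') := by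
      rintro ⟨y, hy⟩
      refine ⟨1, Subtype.ext ?_⟩
      obtain ⟨k, rfl⟩ := Subgroup.mem_zpowers_iff.1 hy
      show (q' ^ k) ^ (2 ^ 1) = 1
      rw [pow_one, pow_two, ← (Commute.refl q').mul_zpow, hq'q, one_zpow]
    have hmem : q' ∈ Subgroup.normalizer ((S' : Subgroup Q) : Set Q) := by
      refine Subgroup.mem_normalizer_iff.2 fun s => ⟨fun hs => ?_, fun hs => ?_⟩
      · have hs' : s ∈ D.S := hs
        rw [← hcomm s hs', mul_inv_cancel_right]
        exact hs
      · have hs' : q' * s * q'⁻¹ ∈ D.S := hs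
        have h2 := hcomm _ hs'
        rw [inv_mul_cancel_right, mul_assoc q' s] at h2
        have h3 : s = q' * s * q'⁻¹ := by
          rw [mul_assoc q' s]
          exact mul_left_cancel h2
        exact h3 ▸ hs'
    have h := hp.inf_normalizer_sylow S'
    have : q' ∈ Subgroup.zpowers q' ⊓ (S' : Subgroup Q) :=
      h ▸ ⟨Subgroup.mem_zpowers q', hmem⟩
    exact this.2
  have hEcomm : ∀ a ∈ D.E, ∀ b ∈ D.E, a * b = b * a := by
    intro a ha b hb
    have h1 := inv_eq_of_mul_eq_one_right (D.E_sq _ ha)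
    have h2 := inv_eq_of_mul_eq_one_right (D.E_sq _ hb)
    have h3 := inv_eq_of_mul_eq_one_right (D.E_sq _ (mul_mem ha hb))
    rw [← h3, _root_.mul_inv_rev, h1, h2]
  have hq'E : q' ∈ D.E := by
    set B := Subgroup.closure (insert q' (D.E : Set Q)) with hB
    have hBS : B ≤ D.S := (Subgroup.closure_le _).2 (by
      rintro y (rfl | hy)
      exacts [hq'S, D.E_le hy])
    have hc : ∀ a ∈ insert q' (D.E : Set Q), ∀ b ∈ insert q' (D.E : Set Q), a * b = b * a := by
      rintro a (rfl | ha) b (rfl | hb)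
      exacts [rfl, (hcomm b (D.E_le hb)).symm, hcomm a (D.E_le ha), hEcomm a ha b hb]
    have hc2 := Subgroup.isMulCommutative_closure hc
    have hsq : ∀ a ∈ B, a * a = 1 := by
      intro a ha
      induction ha using Subgroup.closure_induction with
      | mem a ha => rcases ha with rfl | ha; exacts [hq'q, D.E_sq a ha]
      | one => rw [one_mul]
      | mul a b ha hb iha ihb =>
        have : a * b = b * a := congrArg Subtype.val (hc2.is_comm.comm ⟨a, ha⟩ ⟨b, hb⟩)
        rw [(show Commute b a from this.symm).mul_mul_mul_comm, iha, ihb, one_mul]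
      | inv a _ iha => rw [← _root_.mul_inv_rev, iha, inv_one]
    have hle : D.E ≤ B := fun y hy => Subgroup.subset_closure (Or.inr hy)
    have h := D.max B hBS hsq (D.E_card ▸ Subgroup.card_le_of_le hle)
    exact h ▸ Subgroup.subset_closure (Or.inl rfl)
  set N := Subgroup.normalizer (D.E : Set Q) with hN
  have hmemN : ∀ y : Q, (∀ z ∈ D.E, y * z * y⁻¹ ∈ D.E) → y ∈ N := by
    intro y hy
    have hle : D.E.map (MulAut.conj y).toMonoidHom ≤ D.E := by
      rintro _ ⟨z, hz, rfl⟩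
      exact hy z hz
    have heq := Subgroup.eq_of_le_of_card_ge hle
      (by rw [Subgroup.card_map_of_injective (MulAut.conj y).injective])
    refine Subgroup.mem_normalizer_iff.2 fun z => ⟨fun hz => hy z hz, fun hz => ?_⟩
    obtain ⟨w, hw, e⟩ : y * z * y⁻¹ ∈ D.E.map (MulAut.conj y).toMonoidHom := by rw [heq]; exact hz
    have : w = z := (MulAut.conj y).injective e
    exact this ▸ hw
  have hSN : D.S ≤ N := D.B_gen.trans (sup_le (sup_le
    (fun y hy => hmemN y fun z hz => mul_mem (mul_mem hy hz) (inv_mem hy))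
    fun y hy => hmemN y (D.B₂_norm y hy)) fun y hy => hmemN y (D.B₁_norm y hy))
  letI : MulAction ↥N Q := MulAction.compHom Q (MulAut.conj.comp N.subtype)
  have hsmul : ∀ (n : ↥N) (r : Q), n • r = (n : Q) * r * (n : Q)⁻¹ := fun _ _ => rfl
  set Ob : Set Q := MulAction.orbit ↥N q' with hOb
  have hodd : ¬ 2 ∣ Ob.ncard := by
    intro h
    rw [hOb, ← MulAction.index_stabilizer] at h
    have hle : D.S.subgroupOf N ≤ MulAction.stabilizer ↥N q' := by
      intro n hn
      rw [MulAction.mem_stabilizer_iff, hsmul, hcomm _ (Subgroup.mem_subgroupOf.1 hn),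
        mul_inv_cancel_right]
    exact D.S_odd ((h.trans (Subgroup.index_dvd_of_le hle)).trans
      (Dvd.intro _ (Subgroup.relIndex_mul_index hSN)))
  have hsub : ∀ r ∈ Ob, ∃ i, r ∈ D.O i := by
    rintro _ ⟨n, rfl⟩
    refine D.O_cover _ ((Subgroup.mem_normalizer_iff.1 n.2 q').1 hq'E) fun e => ?_
    change (n : Q) * q' * (n : Q)⁻¹ = 1 at e
    rw [conj_eq_one_iff, hq'] at e
    exact hq1 (by
      calc q = g * (g⁻¹ * q * g) * g⁻¹ := by group
        _ = 1 := by rw [e]; group)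
  have hall : ∀ i, ∀ r ∈ Ob, r ∈ D.O i → D.O i ⊆ Ob := by
    rintro i _ ⟨n, rfl⟩ hri s hs
    obtain ⟨y, hy, e⟩ := D.O_trans i _ hri s hs
    refine ⟨⟨y, hmemN y hy⟩ * n, ?_⟩
    rw [← e]
    show (⟨y, hmemN y hy⟩ * n : ↥N) • q' = _
    rw [hsmul]
    change y * (n : Q) * q' * (y * (n : Q))⁻¹ = y * ((n : Q) * q' * (n : Q)⁻¹) * y⁻¹
    group
  obtain ⟨r, hr, hr0⟩ : ∃ r ∈ Ob, r ∈ D.O 0 := by
    by_contra! hno
    refine hodd ?_
    have c1 : (D.O 1).ncard = 210 := D.O_card 1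
    have c2 : (D.O 2).ncard = 280 := D.O_card 2
    have hcov : ∀ r ∈ Ob, r ∈ D.O 1 ∨ r ∈ D.O 2 := by
      intro r hr
      obtain ⟨i, hi⟩ := hsub r hr
      fin_cases i
      exacts [absurd hi (hno r hr), Or.inl hi, Or.inr hi]
    have hd := D.O_disj 1 2 (by decide)
    by_cases h1 : ∃ r ∈ Ob, r ∈ D.O 1 <;> by_cases h2 : ∃ r ∈ Ob, r ∈ D.O 2
    · obtain ⟨r, hr, hr1⟩ := h1
      obtain ⟨s, hs, hs2⟩ := h2
      have : Ob = D.O 1 ∪ D.O 2 :=
        Set.Subset.antisymm hcov (Set.union_subset (hall 1 r hr hr1) (hall 2 s hs hs2))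
      rw [this, Set.ncard_union_eq hd, c1, c2]; norm_num
    · obtain ⟨r, hr, hr1⟩ := h1
      have : Ob = D.O 1 := Set.Subset.antisymm
        (fun s hs => (hcov s hs).resolve_right fun h => h2 ⟨s, hs, h⟩) (hall 1 r hr hr1)
      rw [this, c1]; norm_num
    · obtain ⟨r, hr, hr2⟩ := h2
      have : Ob = D.O 2 := Set.Subset.antisymm
        (fun s hs => (hcov s hs).resolve_left fun h => h1 ⟨s, hs, h⟩) (hall 2 r hr hr2)
      rw [this, c2]; norm_num
    · exfalso
      have hq'Ob : q' ∈ Ob := MulAction.mem_orbit_self q'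
      rcases hcov _ hq'Ob with h | h
      exacts [h1 ⟨_, hq'Ob, h⟩, h2 ⟨_, hq'Ob, h⟩]
  obtain ⟨n, rfl⟩ := hr
  refine ⟨(n : Q) * g⁻¹, ?_⟩
  change (n : Q) * q' * (n : Q)⁻¹ ∈ D.O 0 at hr0
  convert hr0 using 1
  rw [hq']; group

/-- A conjugate over the class of 21 whose pair with the involution is determined up to order by
the product leaves room for only 22 conjugates. -/
theorem ncard_eq_twentytwo {G Q : Type*} [Group G] [Finite G] [Group Q] {C : Subgroup G}
    (X : U62Cover.Cover C Q) (x : ↥C) (h0 : X.f x ∈ X.D.O 0) (hP : X.P x)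
    (hpair : ∀ g, Commute g (X.d * x) → g * X.d * g⁻¹ = X.d ∨ g * X.d * g⁻¹ = x) :
    X.Ω.ncard = 22 := by
  classical
  have c0 : U62Cover.classSize 0 = 21 := rfl
  have c1 : U62Cover.classSize 1 = 210 := rfl
  have c2 : U62Cover.classSize 2 = 280 := rfl
  obtain ⟨hlift, hm0⟩ : (∀ c : ↥C, X.f c ∈ X.D.O 0 → (X.P (c * X.dd) ↔ ¬ X.P c)) ∧
      (X.M 0).ncard = 21 := by
    rcases X.mult 0 with ⟨h, -⟩ | ⟨h, h'⟩ | ⟨h, -⟩
    · exact absurd h (X.not_all (by decide))
    · exact ⟨h, h'.trans c0⟩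
    · exact absurd hP (h x h0)
  have key : ∀ b ∈ X.M 0, ∀ g, Commute g (X.d * b) →
      g * X.d * g⁻¹ = X.d ∨ g * X.d * g⁻¹ = b := by
    rintro b ⟨hb0, hbP⟩ g hg
    obtain ⟨r, -, hr⟩ := X.D.O_trans 0 _ h0 _ hb0
    obtain ⟨t, rfl⟩ := X.surj r
    have hb : b = t * x * t⁻¹ := by
      rcases X.eq_of_f (show X.f (t * x * t⁻¹) = X.f b by rw [map_mul, map_mul, map_inv, hr]) with
        e | e
      · exact e
      · exact absurd ((X.P_conj t x).2 hP) ((hlift _ (by rw [map_mul, map_mul, map_inv, hr]; exact hb0)).1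
          (e ▸ hbP))
    have ht : (t : G) * X.d * (t : G)⁻¹ = X.d := by rw [(X.mem _).1 t.2, mul_inv_cancel_right]
    have hbG : (b : G) = t * x * (t : G)⁻¹ := by rw [hb]; rfl
    have hc : Commute ((t : G)⁻¹ * g * t) (X.d * x) := by
      refine (Basic.commute_conj (g := (t : G))).1 ?_
      rw [show (t : G) * ((t : G)⁻¹ * g * t) * (t : G)⁻¹ = g by group,
        show (t : G) * (X.d * x) * (t : G)⁻¹ = t * X.d * (t : G)⁻¹ * (t * x * (t : G)⁻¹) by group,
        ht, ← hbG]
      exact hg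
    have hconj : g * X.d * g⁻¹ =
        (t : G) * ((t : G)⁻¹ * g * t * X.d * ((t : G)⁻¹ * g * t)⁻¹) * (t : G)⁻¹ := by
      calc g * X.d * g⁻¹ = g * (t * X.d * (t : G)⁻¹) * g⁻¹ := by rw [ht]
        _ = _ := by group
    rw [hconj]
    rcases hpair _ hc with e | e
    · exact Or.inl (by rw [e, ht])
    · exact Or.inr (by rw [e, hbG])
  have hsel : ∀ a : G, ∃ n : G, a ∈ X.Ω →
      n ∈ Subgroup.normalizer (X.A : Set G) ∧ n * X.d * n⁻¹ = a := by
    intro a
    by_cases ha : a ∈ X.Ω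
    · obtain ⟨n, hn, e⟩ := X.trans ha.1 ha.2
      exact ⟨n, fun _ => ⟨hn, e⟩⟩
    · exact ⟨1, fun h => absurd h ha⟩
  choose n hn using hsel
  set φ : G × ↥C → G := fun p => n p.1 * (X.d * p.2) * (n p.1)⁻¹ with hφ
  set s := (Set.toFinite X.Ω).toFinset ×ˢ (Set.toFinite (X.M 0)).toFinset with hs
  have hmem : ∀ p, p ∈ s ↔ p.1 ∈ X.Ω ∧ p.2 ∈ X.M 0 := fun p => by simp [hs]
  have hscard : s.card = X.Ω.ncard * 21 := by
    rw [hs, Finset.card_product, ← Set.ncard_eq_toFinset_card _ (Set.toFinite X.Ω),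
      ← Set.ncard_eq_toFinset_card _ (Set.toFinite (X.M 0)), hm0]
  have hfib : ∀ w ∈ s.image φ, (s.filter fun p => φ p = w).card ≤ 2 := by
    intro w hw
    obtain ⟨p₀, hp₀, e₀⟩ := Finset.mem_image.1 hw
    obtain ⟨ha₀, hb₀⟩ := (hmem p₀).1 hp₀
    obtain ⟨-, en₀⟩ := hn _ ha₀
    refine le_trans (Finset.card_le_card_of_injOn Prod.fst
      (t := ({p₀.1, n p₀.1 * (p₀.2 : G) * (n p₀.1)⁻¹} : Finset G)) ?_ ?_) Finset.card_le_two
    · intro p hp
      obtain ⟨hps, e⟩ := Finset.mem_filter.1 hp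
      obtain ⟨ha, hb⟩ := (hmem p).1 hps
      obtain ⟨-, en⟩ := hn _ ha
      set m := (n p₀.1)⁻¹ * n p.1 with hm
      have hwe : φ p = φ p₀ := e.trans e₀.symm
      have e' : m * (X.d * p.2) * m⁻¹ = X.d * p₀.2 := by
        calc m * (X.d * p.2) * m⁻¹ = (n p₀.1)⁻¹ * φ p * n p₀.1 := by rw [hm, hφ]; group
          _ = X.d * p₀.2 := by rw [hwe, hφ]; group
      obtain ⟨r, -, hr⟩ := X.D.O_trans 0 _ hb₀.1 _ hb.1
      obtain ⟨t, rfl⟩ := X.surj r
      have ht : (t : G) * X.d * (t : G)⁻¹ = X.d := by rw [(X.mem _).1 t.2, mul_inv_cancel_right]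
      have hbe : p.2 = t * p₀.2 * t⁻¹ := by
        rcases X.eq_of_f (show X.f (t * p₀.2 * t⁻¹) = X.f p.2 by rw [map_mul, map_mul, map_inv, hr])
          with e1 | e1
        · exact e1
        · exact absurd ((X.P_conj t p₀.2).2 hb₀.2) ((hlift _
            (by rw [map_mul, map_mul, map_inv, hr]; exact hb.1)).1 (e1 ▸ hb.2))
      have hbG : (p.2 : G) = t * p₀.2 * (t : G)⁻¹ := by rw [hbe]; rfl
      have hc : Commute (m * t) (X.d * p₀.2) := by
        refine mul_inv_eq_iff_eq_mul.1 ?_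
        rw [show m * t * (X.d * p₀.2) * (m * t)⁻¹ =
          m * ((t * X.d * (t : G)⁻¹) * (t * p₀.2 * (t : G)⁻¹)) * m⁻¹ by group, ht, ← hbG, e']
      have hmd : m * X.d * m⁻¹ = m * t * X.d * (m * t)⁻¹ := by
        calc m * X.d * m⁻¹ = m * (t * X.d * (t : G)⁻¹) * m⁻¹ := by rw [ht]
          _ = _ := by group
      have hp1 : p.1 = n p₀.1 * (m * X.d * m⁻¹) * (n p₀.1)⁻¹ := by
        conv_lhs => rw [← en]
        rw [hm]; group
      rw [Finset.coe_insert, Finset.coe_singleton, hp1, hmd]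
      rcases key _ hb₀ _ hc with h | h <;> rw [h]
      · left; rw [en₀]
      · right; rfl
    · intro p hp p' hp' e
      obtain ⟨-, ep⟩ := Finset.mem_filter.1 hp
      obtain ⟨-, ep'⟩ := Finset.mem_filter.1 hp'
      have h := ep.trans ep'.symm
      refine Prod.ext e (Subtype.ext ?_)
      simp only [hφ] at h
      rw [e] at h
      exact mul_left_cancel (mul_left_cancel (mul_right_cancel h))
  have him : (s.image φ).card ≤ 2 ^ 10 := by
    refine le_trans (le_of_eq (Set.ncard_coe_finset _).symm)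
      ((Set.ncard_le_ncard (t := (X.A : Set G)) ?_).trans
        (le_of_eq ((Nat.card_coe_set_eq _).symm.trans X.card_A)))
    intro w hw
    obtain ⟨p, hp, rfl⟩ := Finset.mem_image.1 (Finset.mem_coe.1 hw)
    obtain ⟨ha, hb⟩ := (hmem p).1 hp
    exact (Subgroup.mem_normalizer_iff.1 (hn _ ha).1 _).1
      (mul_mem X.d_mem_A (X.mem_A.2 ⟨p.2.2, (X.D.O_sub 0 _ hb.1).1⟩))
  have hle := (Finset.card_le_mul_card_image s 2 hfib).trans (Nat.mul_le_mul_left 2 him)
  rw [hscard] at hle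
  have hnn := X.Ω_ncard
  rcases X.mult 1 with ⟨-, h1⟩ | ⟨-, h1⟩ | ⟨-, h1⟩ <;>
    rcases X.mult 2 with ⟨-, h2⟩ | ⟨-, h2⟩ | ⟨-, h2⟩ <;>
      rw [hm0, h1, h2] at hnn <;> omega

/-- The group is the Fischer group. -/
theorem iso_fi22 {G : Type*} [Group G] [Finite G] (d x : G) (hd : orderOf d = 2)
    [((Subgroup.zpowers d).subgroupOf (Subgroup.centralizer ({d} : Set G))).Normal]
    (F : Type) [Field F] [Fintype F] (hF : Fintype.card F = 4)
    (e : ↥(Subgroup.centralizer ({d} : Set G)) ⧸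
      (Subgroup.zpowers d).subgroupOf (Subgroup.centralizer ({d} : Set G)) ≃* Cfsg.PSU 6 F 2)
    (hxC : x ∈ Subgroup.centralizer ({d} : Set G)) (hne : x ≠ d) (hconj : IsConj d x)
    (hcomm : (⟨x, hxC⟩ * ⟨d, Subgroup.mem_centralizer_singleton_iff.2 rfl⟩ :
      ↥(Subgroup.centralizer ({d} : Set G))) ∈ commutator ↥(Subgroup.centralizer ({d} : Set G)))
    (hcard : Nat.card ↥(Subgroup.centralizer ({d, x} : Set G)) = 26542080)
    (hpair : ∀ g, Commute g (x * d) → g * d * g⁻¹ = d ∨ g * d * g⁻¹ = x) :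
    Cfsg.Spor.IsoFi22 G := by
  classical
  set C := Subgroup.centralizer ({d} : Set G) with hC
  have hdd : d * d = 1 := by rw [← pow_two, ← hd, pow_orderOf_eq_one]
  have hd1 : d ≠ 1 := fun h => by
    rw [h, orderOf_one] at hd
    exact absurd hd (by norm_num)
  obtain ⟨D, hfacts⟩ := U62Cover.Model.exists_data_facts (F := F) (by rw [hF]; norm_num)
  have hker : ∀ c : ↥C, e (QuotientGroup.mk c) = 1 ↔ c = 1 ∨ (c : G) = d := by
    intro c
    rw [e.map_eq_one_iff, QuotientGroup.eq_one_iff, Subgroup.mem_subgroupOf,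
      ← mem_powers_iff_mem_zpowers]
    constructor
    · rintro ⟨k, hk⟩
      have hk' : d ^ k = (c : G) := hk
      rcases Nat.even_or_odd' k with ⟨j, rfl | rfl⟩
      · left
        exact Subtype.ext (by rw [← hk', pow_mul, pow_two, hdd, one_pow]; rfl)
      · right
        rw [← hk', pow_succ, pow_mul, pow_two, hdd, one_pow, one_mul]
    · rintro (rfl | h)
      · exact Submonoid.one_mem _
      · exact ⟨1, by simp [h]⟩
  have hN : ∀ z ∈ (Subgroup.zpowers d).subgroupOf C, z ∈ Subgroup.center ↥C ∧ z * z = 1 := by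
    intro z hz
    obtain ⟨k, hk⟩ := Subgroup.mem_zpowers_iff.1 hz
    change d ^ k = (z : G) at hk
    refine ⟨Subgroup.mem_center_iff.2 fun c => Subtype.ext ?_, Subtype.ext ?_⟩
    · show (c : G) * (z : G) = (z : G) * (c : G)
      rw [← hk]
      exact (Commute.zpow_right (Subgroup.mem_centralizer_singleton_iff.1 c.2) k).eq
    · show (z : G) * (z : G) = 1
      rw [← hk, ← (Commute.refl d).mul_zpow, hdd, one_zpow]
  have hlift := Cfsg.Agent.S5452.lift_quotient _ e hN fun f hf hk y hy =>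
    Cfsg.Agent.Forms.U62Lift.exists_involution_lift hF f hf hk y hy
  have hns : ¬ ∃ g : G, g * g = d := by
    rintro ⟨g, hg⟩
    have hgC : g ∈ C := Subgroup.mem_centralizer_singleton_iff.2 (by rw [← hg, mul_assoc])
    have h := Cfsg.Agent.S5452.not_square _ hN hlift ⟨g, hgC⟩ (by
      show g * g ∈ Subgroup.zpowers d
      rw [hg]; exact Subgroup.mem_zpowers d)
    exact hd1 (hg.symm.trans (congrArg Subtype.val h))
  let X : U62Cover.Cover C (Cfsg.PSU 6 F 2) :=
    { d := d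
      f := e.toMonoidHom.comp (QuotientGroup.mk' _)
      D := D
      d_sq := hdd
      d_ne := hd1
      mem := fun g => Subgroup.mem_centralizer_singleton_iff
      surj := e.surjective.comp (QuotientGroup.mk'_surjective _)
      ker := hker
      not_sq := hns }
  haveI : Finite (Cfsg.PSU 6 F 2) := Finite.of_surjective X.f X.surj
  set c : ↥C := ⟨x, hxC⟩ with hcdef
  have hxx : x * x = 1 := by
    obtain ⟨g, rfl⟩ := isConj_iff.1 hconj
    rw [show g * d * g⁻¹ * (g * d * g⁻¹) = g * (d * d) * g⁻¹ by group, hdd]; group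
  have hx1 : X.f c ≠ 1 := by
    intro h
    rcases (X.ker c).1 h with h' | h'
    · have hx : x = 1 := congrArg Subtype.val h'
      obtain ⟨g, hg⟩ := isConj_iff.1 hconj
      rw [hx, conj_eq_one_iff] at hg
      exact hd1 hg
    · exact hne h'
  have hcc : X.f c * X.f c = 1 := by
    rw [← map_mul, show c * c = 1 from Subtype.ext hxx, map_one]
  have hdvd : 2 ^ 15 ∣ Nat.card ↥(Subgroup.centralizer ({X.f c} : Set (Cfsg.PSU 6 F 2))) := by
    set W := (Subgroup.centralizer ({d, x} : Set G)).subgroupOf C with hW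
    have hWc : Nat.card ↥W = 26542080 := by
      rw [hW, Nat.card_congr (Subgroup.subgroupOfEquivOfLe
        (Subgroup.centralizer_le (show ({d} : Set G) ⊆ {d, x} from
          Set.singleton_subset_iff.2 (Set.mem_insert d {x})))).toEquiv, hcard]
    have h2 : Nat.card ↥W ∣ 2 * Nat.card ↥(W.map X.f) := by
      rw [← X.card_comap]
      exact Subgroup.card_dvd_of_le (Subgroup.le_comap_map _ _)
    have h3 : Nat.card ↥(W.map X.f) ∣
        Nat.card ↥(Subgroup.centralizer ({X.f c} : Set (Cfsg.PSU 6 F 2))) := by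
      refine Subgroup.card_dvd_of_le ?_
      rintro _ ⟨w, hw, rfl⟩
      refine Subgroup.mem_centralizer_singleton_iff.2 ?_
      rw [← map_mul, ← map_mul]
      exact congrArg X.f (Subtype.ext ((Subgroup.mem_centralizer_iff.1 (Subgroup.mem_subgroupOf.1 hw)
        x (Or.inr rfl)).symm))
    have h4 : 2 * 2 ^ 15 ∣ 2 * Nat.card ↥(W.map X.f) :=
      Dvd.dvd.trans (by rw [hWc]; norm_num) h2
    exact ((Nat.mul_dvd_mul_iff_left (by norm_num)).1 h4).trans h3
  obtain ⟨q, hq⟩ := exists_conj_zero D hcc hx1 hdvd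
  obtain ⟨t, rfl⟩ := X.surj q
  have htd : (t : G) * d * (t : G)⁻¹ = d := by
    rw [Subgroup.mem_centralizer_singleton_iff.1 t.2, mul_inv_cancel_right]
  have hxd : x * d = d * x := Subgroup.mem_centralizer_singleton_iff.1 hxC
  have h22 : X.Ω.ncard = 22 := by
    refine ncard_eq_twentytwo X (t * c * t⁻¹) (by rwa [map_mul, map_mul, map_inv])
      ((X.P_conj t c).2 hconj) fun g hg => ?_
    have hxt : ((t * c * t⁻¹ : ↥C) : G) = t * x * (t : G)⁻¹ := rfl
    rw [hxt] at hg ⊢
    have hc' : Commute ((t : G)⁻¹ * g * t) (x * d) := by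
      refine (Basic.commute_conj (g := (t : G))).1 ?_
      rw [hxd, show (t : G) * ((t : G)⁻¹ * g * t) * (t : G)⁻¹ = g by group,
        show (t : G) * (d * x) * (t : G)⁻¹ = t * d * (t : G)⁻¹ * (t * x * (t : G)⁻¹) by group, htd]
      exact hg
    have he : g * d * g⁻¹ =
        (t : G) * ((t : G)⁻¹ * g * t * d * ((t : G)⁻¹ * g * t)⁻¹) * (t : G)⁻¹ := by
      calc g * d * g⁻¹ = g * (t * d * (t : G)⁻¹) * g⁻¹ := by rw [htd]
        _ = _ := by group
    show g * d * g⁻¹ = d ∨ g * d * g⁻¹ = _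
    rw [he]
    rcases hpair _ hc' with h | h
    · exact Or.inl (by rw [h, htd])
    · exact Or.inr (by rw [h])
  have hdgen : X.dd ∈ commutator ↥C ⊔ Subgroup.closure {b : ↥C | X.P b ∧ b ≠ X.dd} := by
    have h1 : c ∈ Subgroup.closure {b : ↥C | X.P b ∧ b ≠ X.dd} :=
      Subgroup.subset_closure ⟨hconj, fun h => hne (congrArg Subtype.val h)⟩
    have h2 : c⁻¹ * (c * X.dd) ∈
        commutator ↥C ⊔ Subgroup.closure {b : ↥C | X.P b ∧ b ≠ X.dd} :=
      mul_mem (Subgroup.mem_sup_right (inv_mem h1)) (Subgroup.mem_sup_left hcomm)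
    rwa [inv_mul_cancel_left] at h2
  let K : U62Class.Ctx G F :=
    { hF := by rw [hF]; norm_num
      C := C
      X := X
      n22 := h22
      dd_gen := hdgen
      facts := hfacts }
  haveI := Cfsg.Agent.InvChar.Coset.FiUnit.finite_Fi
  obtain ⟨φ, -⟩ := M22Iso.exists_iso K.isGroup K.primitive K.type22 Fi22Model.grp
    Fi22Model.primitive Fi22Model.type22
  exact ⟨φ⟩

end Cfsg.Agent.FiTwentyTwoByTwo
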