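import Cfsg.Agent.Lib.FiTwentyTwoByTwo.Build

/-!
# Case A: the simple subgroup of index two and the natural shape
-/

set_option autoImplicit false
set_option linter.unusedSectionVars false
set_option linter.style.haveILetI false
set_option maxRecDepth 100000

namespace Cfsg.Agent.FiTwentyTwoByTwo

open Subgroup Cfsg.Agent.ThreeTransp.U62Cent Cfsg.Agent.ThreeTransp.U62Cent.W8 Cfsg.Agent.LargeExtra

universe u' v w

/-- No nonzero vector is fixed by all transvections. -/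
theorem nat_no_fixed : ∀ v : W8, v = 0 ∨ ∃ p ∈ pts, tv p v ≠ v := by decide +kernel

theorem plane_vec : W8.mk 64 ∈ vecs [0, 64, 128, 192] ∧ W8.mk 64 ≠ 0 := by decide +kernel

variable {G : Type u'} [Group G] [Finite G] {z : G} (M : ACoord z)

include M

/-- A simple subgroup of index two meets the centraliser in the inner part. -/
theorem half_inf (X₀ : Subgroup G) (hidx : X₀.index = 2) [IsSimpleGroup ↥X₀] (hbig : 2 < Nat.card ↥X₀) :
    X₀ ⊓ centralizer ({z} : Set G) = M.inner := by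
  obtain ⟨G₀, h2, hinf⟩ := M.exists_half fun _ ha haJ => M.not_mem_J ha haJ
  haveI : G₀.Normal := normal_of_index_eq_two h2
  rcases (inferInstance : (G₀.subgroupOf X₀).Normal).eq_bot_or_eq_top with h | h
  · exfalso
    have h1 : (G₀.subgroupOf X₀).index ∣ G₀.index := relIndex_dvd_index_of_normal G₀ X₀
    rw [h, index_bot, h2] at h1
    have := Nat.le_of_dvd (by norm_num) h1
    omega
  · have hle : X₀ ≤ G₀ := subgroupOf_eq_top.1 h
    have : X₀ = G₀ := eq_of_le_of_card_ge hle (by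
      have e1 := G₀.card_mul_index
      have e2 := X₀.card_mul_index
      rw [h2] at e1
      rw [hidx] at e2
      omega)
    rw [this, hinf]

set_option maxHeartbeats 1600000 in
/-- If `z` is not isolated in the simple half, the shape is natural. -/
theorem nat_shape (X₀ : Subgroup G) (hX₀ : X₀.index = 2) (hinf : X₀ ⊓ centralizer ({z} : Set G) = M.inner)
    {F : Type v} [Field F] [Fintype F] (hF : Fintype.card F = 3) {K : Type w} [Field K] [Fintype K]
    (hK : Fintype.card K = 4)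
    [(Cfsg.pCore 2 ↥(centralizer ({z} : Set G))).Normal]
    (e : (↥(centralizer ({z} : Set G)) ⧸ Cfsg.pCore 2 ↥(centralizer ({z} : Set G))) ≃* MulAut (Cfsg.PSp 2 F))
    {a : G} (ha : Mem z a) : M.e = true ∧ INat M.I := by
  refine M.shape.resolve_right fun hS => ?_
  haveI : Fact (Nat.Prime 2) := ⟨Nat.prime_two⟩
  obtain ⟨hsimp, hcardS, hcardA, hconj⟩ := psp_facts hF hK
  haveI := hsimp
  haveI : Finite (Cfsg.PSp 2 F) := Nat.finite_of_card_ne_zero (by omega)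
  haveI : Finite (MulAut (Cfsg.PSp 2 F)) := Nat.finite_of_card_ne_zero (by omega)
  have hcidx : (MulAut.conj : Cfsg.PSp 2 F →* MulAut (Cfsg.PSp 2 F)).range.index = 2 := by
    have h1 := (MulAut.conj : Cfsg.PSp 2 F →* MulAut (Cfsg.PSp 2 F)).range.card_mul_index
    rw [← Nat.card_congr (MonoidHom.ofInjective hconj).toEquiv, hcardS, hcardA] at h1
    omega
  obtain ⟨φ, hφs, hφk⟩ := exists_aut_hom e
  obtain ⟨ψ0, hψ0s, hψ0k⟩ := M.exists_inner_hom hcardS hconj hcidx φ hφs hφk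
  have hzX : z ∈ X₀ := (hinf.ge M.z_mem_inner).1
  set z0 : ↥X₀ := ⟨z, hzX⟩ with hz0
  set C0 := centralizer ({z0} : Set ↥X₀) with hC0
  have hmemC0 : ∀ x : ↥X₀, x ∈ C0 ↔ (x : G) ∈ M.inner := fun x => by
    rw [hC0, mem_centralizer_singleton_iff, ← hinf]
    exact ⟨fun h => ⟨x.2, mem_centralizer_singleton_iff.2 (congrArg Subtype.val h)⟩,
      fun h => Subtype.ext (mem_centralizer_singleton_iff.1 h.2)⟩
  let inc : ↥C0 →* ↥M.inner :=
    { toFun := fun x => ⟨((x : ↥X₀) : G), (hmemC0 x.1).1 x.2⟩, map_one' := rfl, map_mul' := fun _ _ => rfl }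
  let ψ : ↥C0 →* Cfsg.PSp 2 F := ψ0.comp inc
  have hψs : Function.Surjective ψ := fun s => by
    obtain ⟨x, hx⟩ := hψ0s s
    exact ⟨⟨⟨x, (hinf.ge x.2).1⟩, (hmemC0 _).2 x.2⟩, hx⟩
  have hψk : ∀ x, ψ x = 1 ↔ ((x : ↥X₀) : G) ∈ O2c z := fun x => hψ0k (inc x)
  have hJin : ∀ {y : G}, y ∈ O2c z → y ∈ M.inner := fun {y} hy =>
    M.mem_inner.2 ⟨commute_of_O2c hy, by rw [M.img_J hy]; exact one_mem _⟩
  let ι : ↥(O2c z) →* ↥C0 :=
    { toFun := fun y => ⟨⟨y, (hinf.ge (hJin y.2)).1⟩, (hmemC0 _).2 (hJin y.2)⟩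
      map_one' := rfl
      map_mul' := fun _ _ => rfl }
  have hιi : Function.Injective ι := fun a b h =>
    Subtype.ext (congrArg (fun q : ↥C0 => ((q : ↥X₀) : G)) h)
  have hιr : ι.range = ψ.ker := by
    ext x
    rw [MonoidHom.mem_ker, hψk]
    exact ⟨fun ⟨y, hy⟩ => hy ▸ y.2, fun h => ⟨⟨_, h⟩, rfl⟩⟩
  let eJ : ↥(O2c z) ≃* ↥ψ.ker := (MonoidHom.ofInjective hιi).trans (MulEquiv.subgroupCongr hιr)
  have hP0 : Cfsg.pCore 2 ↥C0 = ψ.ker := by
    refine le_antisymm ?_ (Cfsg.Agent.Cores.le_pCore (M.ctr.pgroup.of_equiv eJ))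
    intro c hc
    haveI : ((Cfsg.pCore 2 ↥C0).map ψ).Normal := Normal.map inferInstance ψ hψs
    have hbot : (Cfsg.pCore 2 ↥C0).map ψ = ⊥ := by
      refine (inferInstance : ((Cfsg.pCore 2 ↥C0).map ψ).Normal).eq_bot_or_eq_top.resolve_right fun h => ?_
      have hp := (Cfsg.Agent.Cores.pCore_isPGroup (G := ↥C0) 2).map ψ
      rw [h] at hp
      obtain ⟨k, hk⟩ := IsPGroup.iff_card.1 (hp.of_equiv Subgroup.topEquiv)
      rw [hcardS] at hk
      have : 3 ∣ 2 ^ k := hk ▸ ⟨8640, by norm_num⟩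
      exact absurd (Nat.Prime.dvd_of_dvd_pow Nat.prime_three this) (by norm_num)
    have h := mem_map_of_mem ψ hc
    rwa [hbot, mem_bot] at h
  have hctr : Ctr (O2c z0) z0 ∧ Nat.card ↥(O2c z0) = 512 ∧ ∀ x : ↥X₀, x ∈ O2c z0 ↔ (x : G) ∈ O2c z := by
    have hO : ∀ x : ↥X₀, x ∈ O2c z0 ↔ (x : G) ∈ O2c z := fun x => by
      constructor
      · rintro ⟨c, hc, rfl⟩
        rw [SetLike.mem_coe, hP0, MonoidHom.mem_ker, hψk] at hc
        exact hc
      · intro hx
        refine ⟨ι ⟨x, hx⟩, ?_, rfl⟩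
        rw [SetLike.mem_coe, hP0, MonoidHom.mem_ker, hψk]
        exact hx
    have hmap : (O2c z0).map X₀.subtype = O2c z := by
      ext x
      constructor
      · rintro ⟨y, hy, rfl⟩; exact (hO y).1 hy
      · intro hx; exact ⟨⟨x, (hinf.ge (hJin hx)).1⟩, (hO _).2 hx, rfl⟩
    let em : ↥(O2c z0) ≃* ↥(O2c z) :=
      ((O2c z0).equivMapOfInjective X₀.subtype X₀.subtype_injective).trans (MulEquiv.subgroupCongr hmap)
    refine ⟨setting_base (fun x => O2c x) (fun _ => rfl) (by rw [← Subgroup.orderOf_coe]; exact M.two)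
      (isExtraspecial_of_equiv M.ctr.ext em.symm) ?_, by rw [Nat.card_congr em.toEquiv, M.card], hO⟩
    intro x hx
    refine (hO x).2 ((M.ctr.cent.trans_le (zpowers_le.2 M.z_mem)) (mem_centralizer_iff.2 fun y hy => ?_))
    exact congrArg Subtype.val (mem_centralizer_iff.1 hx ⟨y, (hinf.ge (hJin hy)).1⟩ ((hO _).2 hy))
  obtain ⟨hctr, hcard, hO⟩ := hctr
  obtain ⟨e2⟩ := Cfsg.Agent.S0822.result (F := K) (K := F) hK hF
  obtain ⟨e3⟩ := Cfsg.Agent.S0303.result (F := ZMod 2) (K := K) (q := 2) (ZMod.card 2)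
    (by rw [hK]; norm_num) (1 : ZMod 2) 1 Cfsg.Agent.SuzukiType.anis
  rw [← Cfsg.Agent.Classical.OrthForms.minQ_eq] at e3
  have hc := Cfsg.Agent.Classical.Orth.natCard_center_one
    (Cfsg.Agent.Classical.OrthForms.minQ_nondeg 2 Cfsg.Agent.SuzukiType.anis)
    (Cfsg.Agent.Classical.OrthForms.minFrame (ZMod 2) le_rfl 1 1) (by simp) (Or.inl (show (2 : ZMod 2) = 0 from rfl))
  rw [Subgroup.card_eq_one] at hc
  let e1 : OmG ≃* Cfsg.PSU 4 K 2 :=
    ((QuotientGroup.quotientMulEquivOfEq hc).trans QuotientGroup.quotientBot).symm.trans e3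
  let ε : Cfsg.PSp 2 F ≃* OmG := e2.symm.trans e1.symm
  obtain ⟨M0⟩ := exists_coord_of_hom hctr hcard (ε.toMonoidHom.comp ψ) (ε.surjective.comp hψs)
    fun c => by
      show ε (ψ c) = 1 ↔ _
      rw [map_eq_one_iff ε ε.injective, hψk, hO]
  -- a second member in the half
  have hnX : X₀.Normal := normal_of_index_eq_two hX₀
  have hne : ¬ centralizer ({z} : Set G) ≤ X₀ := fun h => by
    have h1 := M.inner_index
    rw [show M.inner = centralizer ({z} : Set G) by rw [← hinf, inf_eq_right.2 h], subgroupOf_self, index_top] at h1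
    omega
  obtain ⟨⟨g, hg⟩, hcomm, hane⟩ := ha.cls, ha.comm, ha.ne
  have haX : a ∈ X₀ := hg ▸ hnX.conj_mem z hzX g
  have hmem : Mem z0 ⟨a, haX⟩ := by
    refine ⟨?_, Subtype.ext hcomm, fun e => hane (congrArg Subtype.val e)⟩
    by_cases hgX : g ∈ X₀
    · exact ⟨⟨g, hgX⟩, Subtype.ext hg⟩
    · obtain ⟨c, hc, hcX⟩ := SetLike.not_le_iff_exists.1 hne
      refine ⟨⟨g * c, (mul_mem_iff_of_index_two hX₀).2 ⟨fun h => absurd h hgX, fun h => absurd h hcX⟩⟩, Subtype.ext ?_⟩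
      show g * c * z * (g * c)⁻¹ = a
      rw [← hg, show g * c * z * (g * c)⁻¹ = g * (c * z * c⁻¹) * g⁻¹ by group, (mem_cent.1 hc).eq,
        mul_inv_cancel_right]
  obtain ⟨-, hN⟩ := M0.nat_of_mem hmem
  -- a vector fixed by the whole inner part
  obtain ⟨hp, hp0⟩ := plane_vec
  set y := M.lift (W8.mk 64) with hy
  have hyJ : y ∈ O2c z := M.lift_mem _
  set y0 : ↥X₀ := ⟨y, (hinf.ge (hJin hyJ)).1⟩ with hy0
  have hy0J : y0 ∈ O2c z0 := (hO y0).2 hyJ
  have hv : M0.vec y0 ≠ 0 := fun e => by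
    rcases M0.vec_cases hy0J e with e' | e'
    · refine hp0 ?_
      rw [← M.vec_lift (W8.mk 64), ← hy, show y = 1 from congrArg Subtype.val e', M.vec_one]
    · refine hp0 ?_
      rw [← M.vec_lift (W8.mk 64), ← hy, show y = z from congrArg Subtype.val e', M.vec_z]
  have hfix : ∀ t ∈ M0.π.range, t (M0.vec y0) = M0.vec y0 := by
    rintro _ ⟨c, rfl⟩
    rw [← M0.vec_conj c hy0J]
    obtain ⟨hcz, hcI⟩ := M.mem_inner.1 ((hmemC0 c.1).1 c.2)
    have hm : M.vec (((c : ↥X₀) : G) * y * ((c : ↥X₀) : G)⁻¹) = M.vec y := by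
      rw [M.vec_conj' hcz hyJ, hy, M.vec_lift, hS.fix_plane hcI hp]
    obtain ⟨t, ht⟩ := M.eq_zb hyJ (M.conj_J hcz hyJ) hm.symm
    cases t
    · rw [zb_false, mul_one] at ht
      exact congrArg M0.vec (Subtype.ext ht)
    · rw [show (c : ↥X₀) * y0 * (c : ↥X₀)⁻¹ = y0 * z0 from Subtype.ext ht, M0.vec_mul hy0J hctr.z_mem, M0.vec_z, add_zero]
  obtain ⟨p, hp', hne'⟩ := (nat_no_fixed _).resolve_left hv
  haveI := hN.simple
  exact hne' (hfix _ (tv_mem_of_simple hN.le hN.card p hp'))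

end Cfsg.Agent.FiTwentyTwoByTwo
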