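import Cfsg.Agent.Lib.FiTwentyTwoByTwo.CaseACentral
import Cfsg.Agent.Lib.FiTwentyTwoByTwo.CaseAHalf
import Cfsg.Agent.Lib.ThreeTransp.U62Class.Facts
import Cfsg.Agent.S0283

/-!
# Case A: the standing data
-/

set_option autoImplicit false
set_option linter.unusedSectionVars false
set_option linter.style.haveILetI false
set_option synthInstance.maxSize 4096
set_option synthInstance.maxHeartbeats 400000

namespace Cfsg.Agent.FiTwentyTwoByTwo

open Subgroup Cfsg.Agent.ThreeTransp.U62Cent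
open Cfsg.Agent.ThreeTransp.U62Cover (Data classSize)

universe u'

section

variable {G : Type u'} [Group G] [Finite G] {z : G}

/-- the preimage of a subgroup of the inner isometries -/
theorem exists_big_two (M : ACoord z) : ∃ P : Subgroup G, P ≤ M.inner ∧ O2c z ≤ P ∧ Nat.card ↥P = 2 ^ 15 := by
  haveI : Fact (Nat.Prime 2) := ⟨Nat.prime_two⟩
  obtain ⟨R, hR⟩ := Sylow.exists_subgroup_card_pow_prime (G := ↥M.I) 2 (n := 6) (by rw [M.icard]; norm_num)
  set R' := R.map M.I.subtype with hR'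
  have hR'I : R' ≤ M.I := map_subtype_le _
  refine ⟨(R'.comap M.π).map (centralizer ({z} : Set G)).subtype, map_mono (comap_mono hR'I), ?_, ?_⟩
  · intro x hx
    refine ⟨⟨x, mem_cent.2 (commute_of_O2c hx)⟩, ?_, rfl⟩
    show M.π _ ∈ R'
    rw [(M.ker _).2 hx]
    exact one_mem _
  · rw [card_map_of_injective (subtype_injective _)]
    have hk : Nat.card ↥M.π.ker = 512 := by
      rw [← M.card]
      exact Nat.card_congr
        { toFun := fun c => ⟨((c : ↥(centralizer ({z} : Set G))) : G), (M.ker _).1 c.2⟩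
          invFun := fun x => ⟨⟨x, mem_cent.2 (commute_of_O2c x.2)⟩, (M.ker _).2 x.2⟩
          left_inv := fun _ => rfl
          right_inv := fun _ => rfl }
    have hR'c : Nat.card ↥R' = 64 := by
      rw [hR', card_map_of_injective M.I.subtype_injective, hR]; norm_num
    have e := ((M.π.comp (R'.comap M.π).subtype).ker).card_mul_index
    rw [index_ker, MonoidHom.range_comp, range_subtype, map_comap_eq,
      inf_eq_right.2 (hR'I.trans M.I_le), hR'c] at e
    have e2 : Nat.card ↥(M.π.comp (R'.comap M.π).subtype).ker = Nat.card ↥M.π.ker := Nat.card_congr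
      { toFun := fun c => ⟨c.1.1, c.2⟩
        invFun := fun c => ⟨⟨c.1, by show M.π _ ∈ R'; rw [show M.π c.1 = 1 from c.2]; exact one_mem _⟩, c.2⟩
        left_inv := fun _ => rfl
        right_inv := fun _ => rfl }
    rw [e2, hk] at e
    rw [← e]; norm_num

end

variable {G : Type u'} [Group G] [Finite G] {z u : G}

set_option maxHeartbeats 1600000 in
theorem Frame.caseA_central (F : Frame z u) (hA : ∀ c, Commute c z → Commute c u) (MX : ACoord F.zX)
    (MY : ACoord F.swap.zX) (X₀ : Subgroup (QU u)) (hidx : X₀.index = 2) [IsSimpleGroup ↥X₀]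
    (hinf : X₀ ⊓ centralizer ({F.zX} : Set (QU u)) = MX.inner)
    (hnat : ∀ a, Mem F.zX a → MX.e = true ∧ INat MX.I)
    (hcent : centralizer (X₀ : Set (QU u)) = ⊥)
    {Q : Type} [Group Q] (eX : ↥X₀ ≃* Q) (D : Data Q) (gen : D.E ≤ closure (D.O 0)) :
    ∀ g : G, Commute g u := by
  classical
  haveI : Finite Q := Finite.of_equiv _ eX.toEquiv
  obtain ⟨S, hS, hJ⟩ := F.exists_base
  let ι : Q →* QU u := X₀.subtype.comp eX.symm.toMonoidHom
  have hι : Function.Injective ι := X₀.subtype_injective.comp eX.symm.injective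
  have hιr : ι.range = X₀ := by
    rw [MonoidHom.range_comp, MonoidHom.range_eq_top.2 eX.symm.surjective, ← MonoidHom.range_eq_map,
      range_subtype]
  have hin : ∀ {x}, x ∈ MX.inner → x ∈ X₀ := fun {x} hx => (hinf.ge hx).1
  have hJin : O2c F.zX ≤ MX.inner := fun x hx =>
    MX.mem_inner.2 ⟨commute_of_O2c hx, by rw [MX.img_J hx]; exact one_mem _⟩
  obtain ⟨ζ, hζ⟩ : ∃ ζ, ι ζ = F.zX := hιr.ge (hin MX.z_mem_inner)
  obtain ⟨P', hP'in, hJP', hP'c⟩ := exists_big_two MX
  set P := P'.comap ι with hP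
  set J := (O2c F.zX).comap ι with hJ'
  have hcard : ∀ L : Subgroup (QU u), L ≤ X₀ → Nat.card ↥(L.comap ι) = Nat.card ↥L := fun L hL => by
    rw [← card_map_of_injective hι (K := L.comap ι), map_comap_eq, hιr, inf_eq_right.2 hL]
  have hζ2 : ζ * ζ = 1 := hι (by rw [map_mul, hζ, map_one, MX.zz])
  have hζ1 : ζ ≠ 1 := fun e => F.zX_ne (by rw [← hζ, e, map_one])
  have hJP : J ≤ P := comap_mono hJP'
  have hJn : ∀ p ∈ P, ∀ j ∈ J, p * j * p⁻¹ ∈ J := fun p hp j hj => by
    show ι _ ∈ O2c F.zX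
    rw [map_mul, map_mul, map_inv]
    exact MX.conj_J (MX.mem_inner.1 (hP'in hp)).1 hj
  have hJc : Nat.card ↥J = 512 := by rw [hJ', hcard _ fun x hx => hin (hJin hx), MX.card]
  have hPc : Nat.card ↥P = 2 ^ 15 := by rw [hP, hcard _ fun x hx => hin (hP'in hx), hP'c]
  have hPz : ∀ p ∈ P, p * ζ = ζ * p := fun p hp => hι (by
    rw [map_mul, map_mul, hζ]
    exact (MX.mem_inner.1 (hP'in hp)).1.eq)
  have hc : ∀ x, (∀ j ∈ J, x * j = j * x) → x = 1 ∨ x = ζ := fun x hx => by
    have h1 : ι x ∈ centralizer (O2c F.zX : Set (QU u)) := mem_centralizer_iff.2 fun y hy => by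
      obtain ⟨j, rfl⟩ := hιr.ge (hin (hJin hy))
      rw [← map_mul, ← map_mul, hx j hy]
    rw [MX.ctr.cent] at h1
    exact (MX.ctr.mem_zpowers_cases h1).imp (fun e => hι (e.trans (map_one ι).symm))
      fun e => hι (e.trans hζ.symm)
  have O0 := Classes.O_zero_conj D hζ2 hζ1 hJP hPc hPz hc
  obtain ⟨i, hi, hcore⟩ := Classes.O_in_core D hζ2 hζ1 hJP hJn hJc hPc hPz hc fun x hx g e => by
    refine hι ((MX.not_mem_J ⟨ι g, ?_⟩ hx).trans hζ.symm)
    rw [← hζ, ← map_inv, ← map_mul, ← map_mul, e]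
  obtain ⟨a, ha⟩ : ∃ a, Mem F.zX a := by
    obtain ⟨r0, hr0, r1, hr1, hne⟩ := (Set.one_lt_ncard (Set.toFinite _)).1
      (show 1 < (D.O 0).ncard by rw [D.O_card]; decide)
    obtain ⟨g, hg⟩ := O0 r0 hr0
    obtain ⟨h, hh⟩ := O0 r1 hr1
    have hcm := Classes.E_comm D (D.O_sub 0 r1 hr1).1 (D.O_sub 0 r0 hr0).1
    refine ⟨ι (g⁻¹ * r1 * g), ⟨ι (g⁻¹ * h), ?_⟩, ?_, fun e => hne ?_⟩
    · rw [← hζ, ← map_inv, ← map_mul, ← map_mul, ← hh]
      congr 1; group
    · show _ * _ = _ * _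
      rw [← hζ, ← map_mul, ← map_mul]
      congr 1
      calc g⁻¹ * r1 * g * ζ = g⁻¹ * (r1 * r0) * g := by rw [← hg]; group
        _ = g⁻¹ * (r0 * r1) * g := by rw [hcm]
        _ = _ := by rw [← hg]; group
    · have e' := hι (e.trans hζ.symm)
      rw [← hg, ← e']; group
  obtain ⟨he, hN⟩ := hnat a ha
  let H : Half F Q :=
    { hA := hA, MX := MX, MY := MY, he := he, hN := hN, S := S, hS := hS, hJ := hJ, X₀ := X₀, hidx := hidx
      hinf := hinf, hcent := hcent, ι := ι, ι_inj := hι, ι_range := hιr, D := D, gen := gen, ζ := ζ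
      hζ := hζ, O_zero := O0, O_core := ⟨i, hi, hcore⟩ }
  haveI : IsSimpleGroup ↥H.X₀ := ‹IsSimpleGroup ↥X₀›
  exact H.central

/-- with the quotient half of type `PSU(6, 2)`, `u` is central -/
theorem Frame.caseA_u (F : Frame z u) (hA : ∀ c, Commute c z → Commute c u) (MX : ACoord F.zX)
    (MY : ACoord F.swap.zX) (X₀ : Subgroup (QU u)) (hidx : X₀.index = 2)
    (hnat : ∀ (X : Subgroup (QU u)), X.index = 2 → X ⊓ centralizer ({F.zX} : Set (QU u)) = MX.inner →
      ∀ a, Mem F.zX a → MX.e = true ∧ INat MX.I)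
    (hcent : centralizer (X₀ : Set (QU u)) = ⊥) {K : Type} [Field K] [Fintype K] (hK : Fintype.card K = 4)
    (eX : ↥X₀ ≃* Cfsg.PSU 6 K 2) : ∀ g : G, Commute g u := by
  have hK' : Fintype.card K = 2 ^ 2 := by rw [hK]; norm_num
  haveI := Cfsg.Agent.S0283.result hK' 6 (by norm_num) (by omega)
  haveI : Nontrivial ↥X₀ := eX.toEquiv.nontrivial
  haveI : IsSimpleGroup ↥X₀ :=
    IsSimpleGroup.isSimpleGroup_of_surjective eX.symm.toMonoidHom eX.symm.surjective
  haveI : Finite (Cfsg.PSU 6 K 2) := Finite.of_equiv _ eX.toEquiv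
  obtain ⟨D, hD⟩ := Cfsg.Agent.ThreeTransp.U62Cover.Model.exists_data_facts hK'
  have hbig : 2 < Nat.card ↥X₀ := by
    have h1 := Nat.le_of_dvd Nat.card_pos D.S.card_subgroup_dvd_card
    rw [D.S_card, ← Nat.card_congr eX.toEquiv] at h1
    omega
  have hinf := half_inf MX X₀ hidx hbig
  exact F.caseA_central hA MX MY X₀ hidx hinf (hnat X₀ hidx hinf) hcent eX D hD.gen

end Cfsg.Agent.FiTwentyTwoByTwo
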