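import Cfsg.Agent.Lib.FiTwentyTwoByTwo.Finish
import Cfsg.Agent.Lib.FiTwentyTwoByTwo.CaseASetup
import Cfsg.Agent.Lib.MonomialMult.FieldChange

/-!
# The main theorem, given the two recognition steps for central elements of unitary type
-/

set_option autoImplicit false
set_option linter.unusedSectionVars false
set_option linter.style.haveILetI false

namespace Cfsg.Agent.FiTwentyTwoByTwo

open Subgroup Cfsg.Agent.ThreeTransp.U62Cent

universe u' v w

/-- the step for case B -/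
def StepB (G : Type u') [Group G] : Prop :=
  ∀ (d x : G), orderOf d = 2 → ∀ (K : Type) (_ : Field K) (_ : Fintype K), Fintype.card K = 4 →
    ∀ (_ : ↥(centralizer ({d} : Set G)) ⧸ (zpowers d).subgroupOf (centralizer ({d} : Set G)) ≃* Cfsg.PSU 6 K 2)
      (hxC : x ∈ centralizer ({d} : Set G)), x ≠ d → IsConj d x →
      ((⟨x, hxC⟩ : ↥(centralizer ({d} : Set G))) * ⟨d, mem_cent.2 (Commute.refl d)⟩) ∈
        commutator ↥(centralizer ({d} : Set G)) →
      Nat.card ↥(centralizer ({d, x} : Set G)) = 26542080 →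
      (∀ g, Commute g (x * d) → g * d * g⁻¹ = d ∨ g * d * g⁻¹ = x) → Cfsg.Spor.IsoFi22 G

variable {G : Type u'} [Group G] [Finite G] {z : G}

/-- the alternative with a normal subgroup of order two -/
def Middle (z : G) (K : Type w) [Field K] [Fintype K] : Prop :=
  ∃ z₁ : G, orderOf z₁ = 2 ∧ z₁ ∉ zpowers z ∧ (∃ h₁ : z₁ ∈ centralizer ({z} : Set G),
      (⟨z₁, h₁⟩ : ↥(centralizer ({z} : Set G))) ∈ Cfsg.pCore 2 ↥(centralizer ({z} : Set G)) ∧
      ∀ j ∈ Cfsg.pCore 2 ↥(centralizer ({z} : Set G)), j * ⟨z₁, h₁⟩ = ⟨z₁, h₁⟩ * j) ∧ (zpowers z₁).Normal ∧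
    ∃ (G₀ : Subgroup G) (_hz₁ : z₁ ∈ G₀), G₀.index = 2 ∧
      ∃ _hn : ((zpowers z₁).subgroupOf G₀).Normal,
        Nonempty ((↥G₀ ⧸ (zpowers z₁).subgroupOf G₀) ≃* Cfsg.PSU 6 K 2)

theorem Frame.middle {u : G} (F : Frame z u) {K : Type w} [Field K] [Fintype K] (hall : ∀ g : G, Commute g u)
    {C0 : Subgroup G} (hu : u ∈ C0) (hidx : C0.relIndex (centralizer ({u} : Set G)) = 2)
    (hn : ((zpowers u).subgroupOf C0).Normal)
    (hiso : Nonempty (↥C0 ⧸ (zpowers u).subgroupOf C0 ≃* Cfsg.PSU 6 K 2)) : Middle z K := by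
  have hJ : ∀ {x : G}, x ∈ O2c z → ∀ h : x ∈ centralizer ({z} : Set G),
      (⟨x, h⟩ : ↥(centralizer ({z} : Set G))) ∈ Cfsg.pCore 2 ↥(centralizer ({z} : Set G)) := by
    rintro x ⟨c, hc, rfl⟩ h
    exact hc
  refine ⟨u, F.orderOf_u, fun h => ?_, ⟨mem_cent.2 F.comm_zu, hJ F.u_mem _, fun j hj => Subtype.ext (hall j).eq⟩,
    ⟨fun n hn' g => ?_⟩, C0, hu, ?_, hn, hiso⟩
  · obtain ⟨k, hk⟩ := mem_zpowers_iff.1 h
    rcases Int.even_or_odd k with ⟨m, rfl⟩ | ⟨m, rfl⟩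
    · exact F.u_ne_one (by rw [← hk, zpow_add, ← (Commute.refl z).mul_zpow, F.zz, one_zpow])
    · exact F.u_ne (by rw [← hk, zpow_add, zpow_mul, zpow_one, zpow_two, F.zz, one_zpow, one_mul])
  · obtain ⟨k, rfl⟩ := mem_zpowers_iff.1 hn'
    rw [((hall g).zpow_right k).eq, mul_inv_cancel_right]
    exact zpow_mem (mem_zpowers u) k
  · rwa [show centralizer ({u} : Set G) = ⊤ from eq_top_iff.2 fun g _ => mem_cent.2 (hall g),
      relIndex_top_right] at hidx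

/-- coordinates in the quotient, case A -/
theorem Frame.coord_A {F₃ : Type v} [Field F₃] [Fintype F₃] {F₄ : Type w} [Field F₄] [Fintype F₄] {u : G}
    (F : Frame z u) (h3 : Fintype.card F₃ = 3) (h4 : Fintype.card F₄ = 4)
    [(Cfsg.pCore 2 ↥(centralizer ({z} : Set G))).Normal]
    (e : (↥(centralizer ({z} : Set G)) ⧸ Cfsg.pCore 2 ↥(centralizer ({z} : Set G))) ≃*
      MulAut (Cfsg.PSp 2 F₃))
    (hA : ∀ c, Commute c z → Commute c u) :
    ∃ _ : ACoord F.zX, Nonempty ((↥(centralizer ({F.zX} : Set (QU u))) ⧸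
      Cfsg.pCore 2 ↥(centralizer ({F.zX} : Set (QU u)))) ≃* MulAut (Cfsg.PSp 2 F₃)) := by
  obtain ⟨φ, hφ, hk⟩ := exists_aut_hom e
  obtain ⟨ψ, hψ, hψk⟩ := F.hom_A φ hφ hk hA
  obtain ⟨iso⟩ := F.quot_iso ψ hψ hψk
  obtain ⟨hex, hc⟩ := F.extra_zX
  haveI : (Cfsg.pCore 2 ↥(centralizer ({F.zX} : Set (QU u)))).Normal := inferInstance
  obtain ⟨M⟩ := exists_acoord F.zX_orderOf h3 h4 hex hc F.cent_zX iso
  exact ⟨M, ⟨iso⟩⟩

theorem main_of_steps (hz : orderOf z = 2) {F₃ : Type v} [Field F₃] [Fintype F₃] (hF : Fintype.card F₃ = 3)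
    {K : Type w} [Field K] [Fintype K] (hK : Fintype.card K = 4)
    (A E : Subgroup ↥(centralizer ({z} : Set G)))
    (hAE : Cfsg.IsInternalDirectProduct A E (Cfsg.pCore 2 ↥(centralizer ({z} : Set G)))) (hA : Nat.card ↥A = 2)
    (hE : Cfsg.IsExtraspecial 2 ↥E) (hEc : Nat.card ↥E = 2 ^ 9)
    (zc : ↥(centralizer ({z} : Set G))) (hzc : (zc : G) = z)
    (hJ' : ⁅(Cfsg.pCore 2 ↥(centralizer ({z} : Set G))), (Cfsg.pCore 2 ↥(centralizer ({z} : Set G)))⁆ = zpowers zc)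
    (hCJ : centralizer ((Cfsg.pCore 2 ↥(centralizer ({z} : Set G))) : Set ↥(centralizer ({z} : Set G))) ≤
      Cfsg.pCore 2 ↥(centralizer ({z} : Set G)))
    [(Cfsg.pCore 2 ↥(centralizer ({z} : Set G))).Normal]
    (e : (↥(centralizer ({z} : Set G)) ⧸ Cfsg.pCore 2 ↥(centralizer ({z} : Set G))) ≃* MulAut (Cfsg.PSp 2 F₃))
    (sB : StepB G) :
    centralizer ({z} : Set G) ⊔ Cfsg.oddCore G = ⊤ ∨ Middle z K ∨ Cfsg.Spor.IsoFi22 G := by
  obtain ⟨u, F⟩ := frame_of_hyp hz hAE hA hE hEc hzc hJ' hCJ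
  obtain ⟨K0, iK, iF, hK0⟩ := card_gf4
  by_cases hB : ∃ c, Commute c z ∧ ¬ Commute c u
  · -- case B
    have hB' : ∃ c, Commute c z ∧ ¬ Commute c (u * z) := by
      obtain ⟨c, h1, h2⟩ := hB
      refine ⟨c, h1, fun h => h2 ?_⟩
      have := h.mul_right h1
      rwa [F.uzz] at this
    have step : ∀ {w : G}, Frame z w → (∃ c, Commute c z ∧ ¬ Commute c w) → TI z w ∨ Cfsg.Spor.IsoFi22 G := by
      intro w Fw hw
      obtain ⟨-, hc, h | h⟩ := Fw.type_B hF hK0 e hw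
      · exact Or.inl h
      · obtain ⟨⟨hxC, hcm⟩, hne, hcj, hcard, hp⟩ := Fw.fi22_hyps hw hc
        obtain ⟨eU⟩ := h
        exact Or.inr (sB w (w * z) Fw.orderOf_u K0 iK iF hK0 eU hxC hne hcj hcm hcard hp)
    rcases step F hB with h1 | h
    · rcases step F.swap hB' with h2 | h
      · obtain ⟨⟨Kc⟩, -⟩ := F.type_B hF hK0 e hB
        exact Or.inl (Kc.isolated h1 h2 (F.co_faith Kc))
      · exact Or.inr (Or.inr h)
    · exact Or.inr (Or.inr h)
  · -- case A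
    push Not at hB
    have hB' : ∀ c, Commute c z → Commute c (u * z) := fun c hc => (hB c hc).mul_right hc
    have step : ∀ {w : G}, Frame z w → (∀ c, Commute c z → Commute c w) → TI z w ∨ Middle z K := by
      intro w Fw hw
      obtain ⟨⟨Kc⟩, -⟩ := Fw.type_A hF hK0 e hw
      obtain ⟨-, h | h⟩ := Fw.type_A hF hK e hw
      · exact Or.inl h
      · obtain ⟨X₀, h1, ⟨h2⟩, h3⟩ := h
        obtain ⟨eK⟩ := Cfsg.Agent.MonomialMult.psu_field_equiv (n := 6) (q := 2)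
          (FiniteField.ringEquivOfCardEq (K := K) (K' := K0) (hK.trans hK0.symm))
        obtain ⟨MX, iso⟩ := Fw.coord_A hF hK0 e hw
        obtain ⟨MY, -⟩ := Fw.swap.coord_A hF hK0 e fun c hc => (hw c hc).mul_right hc
        haveI : (Cfsg.pCore 2 ↥(centralizer ({Fw.zX} : Set (QU w)))).Normal := inferInstance
        obtain ⟨C0, hu, hle, hidx, hn, hiso, -⟩ := Fw.caseA_hyps ⟨X₀, h1, ⟨h2⟩, h3⟩
        refine Or.inr (Fw.middle ?_ hu hidx hn hiso)
        exact Fw.caseA_u hw MX MY X₀ h1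
          (fun X hX hinf a ha => nat_shape MX X hX hinf hF hK0 iso.some ha) h3 hK0 (h2.trans eK)
    rcases step F hB with h1 | h
    · rcases step F.swap hB' with h2 | h
      · obtain ⟨⟨Kc⟩, -⟩ := F.type_A hF hK0 e hB
        exact Or.inl (Kc.isolated h1 h2 (F.co_faith Kc))
      · exact Or.inr (Or.inl h)
    · exact Or.inr (Or.inl h)

end Cfsg.Agent.FiTwentyTwoByTwo
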