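import Cfsg.Agent.Lib.ThreeTransp.U62Cent.AutMain
import Cfsg.Agent.Lib.Coprime.PGroup
import Cfsg.Agent.Lib.Cores.Basic

/-!
# The centraliser `C(z)` with core `2 × 2^{1+8}`: standing data

`u` is a central element of the core other than the powers of `z`; `Co z u` records the induced group
on the core modulo its centre `⟨z, u⟩`, read inside `C(z) ∩ C(u)`.
-/

set_option autoImplicit false
set_option linter.unusedSectionVars false

namespace Cfsg.Agent.FiTwentyTwoByTwo

open Subgroup Cfsg.Agent.ThreeTransp.U62Cent Cfsg.Agent.ThreeTransp.U62Cent.W8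

/-- a group of isometries containing one of the two simple groups with index at most two -/
structure Rng where
  e : Bool
  R : Subgroup (Equiv.Perm W8)
  I : Subgroup (Equiv.Perm W8)
  I_le : I ≤ R
  iso : ∀ t ∈ R, IsIso e false t
  mul_mem_iff : ∀ t ∈ R, ∀ s ∈ R, (t * s ∈ I ↔ (t ∈ I ↔ s ∈ I))
  shape : (e = true ∧ INat I) ∨ ISplit I
  cent : ∀ t ∈ R, (∀ g ∈ I, t * g = g * t) → t = 1
  semi : e = true → INat I → ∀ t ∈ R, t ∉ I → ∀ v, t (W8.sig v) = W8.sig (W8.sig (t v))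
  six_map : ISplit I → ∀ t ∈ R, ∀ d ∈ six, t d ∈ six
  flip_six : ISplit I → ∀ t ∈ R, t ∉ I → ∀ m ∈ nons, ∃ i ∈ I, ∀ d ∈ six, t d = rfx m (i d)

universe u

variable {G : Type u} [Group G]

/-- the four central elements -/
def InZ (z u x : G) : Prop := x = 1 ∨ x = z ∨ x = u ∨ x = u * z

/-- the odd core of `C(x)` as a subgroup of the whole group -/
abbrev oCore (x : G) : Subgroup G :=
  (Cfsg.oddCore ↥(centralizer ({x} : Set G))).map (centralizer ({x} : Set G)).subtype

/-- the centraliser of `x` is the product of its intersection with `C(z)` and its odd core -/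
def TI (z x : G) : Prop :=
  ∀ c, Commute c x → ∃ h o, Commute h z ∧ Commute h x ∧ o ∈ oCore x ∧ c = h * o

/-- standing data -/
structure Co (z u : G) extends Rng where
  zz : z * z = 1
  z_ne : z ≠ 1
  uu : u * u = 1
  u_ne_one : u ≠ 1
  u_ne : u ≠ z
  comm_zu : Commute u z
  perm : ∀ c, Commute c z → c * u * c⁻¹ = u ∨ c * u * c⁻¹ = u * z
  not_conj : ∀ g, g * z * g⁻¹ ≠ u ∧ g * z * g⁻¹ ≠ u * z
  z_mem : z ∈ O2c z
  u_mem : u ∈ O2c z
  J_comm_u : ∀ {x}, x ∈ O2c z → Commute x u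
  card_J : Nat.card ↥(O2c z) = 1024
  vec : G → W8
  img : G → Equiv.Perm W8
  vec_mul : ∀ {x y}, x ∈ O2c z → y ∈ O2c z → vec (x * y) = vec x + vec y
  vec_eq_zero : ∀ {x}, x ∈ O2c z → (vec x = 0 ↔ InZ z u x)
  surj : ∀ v : W8, ∃ x ∈ O2c z, vec x = v
  sq : ∀ {x}, x ∈ O2c z → x * x = zb z (qe e (vec x))
  comm : ∀ {x y}, x ∈ O2c z → y ∈ O2c z → x * y = zb z (bb (vec x) (vec y)) * (y * x)
  img_range : ∀ t, t ∈ R ↔ ∃ c, Commute c z ∧ Commute c u ∧ img c = t
  img_mul : ∀ {c d}, Commute c z → Commute c u → Commute d z → Commute d u →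
    img (c * d) = img c * img d
  vec_conj : ∀ {c x}, Commute c z → Commute c u → x ∈ O2c z → vec (c * x * c⁻¹) = img c (vec x)
  ker : ∀ {c}, Commute c z → Commute c u → (img c = 1 ↔ c ∈ O2c z)
  inner_only : ∀ c, Commute c z → ¬ Commute c u → R = I

theorem conj_O2c [Finite G] {z c x : G} (hc : Commute c z) (hx : x ∈ O2c z) :
    c * x * c⁻¹ ∈ O2c z := by
  have h := (mem_O2c_conj c z x).2 hx
  rwa [hc.eq, mul_inv_cancel_right] at h

theorem oCore_le (x : G) {o : G} (ho : o ∈ oCore x) : Commute o x :=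
  mem_cent.1 (map_subtype_le _ ho)

theorem oCore_odd [Finite G] (x : G) : Odd (Nat.card ↥(oCore x)) := by
  rw [card_map_of_injective (centralizer ({x} : Set G)).subtype_injective]
  exact Cores.oddCore_odd

theorem oCore_conj [Finite G] {x c o : G} (hc : Commute c x) (ho : o ∈ oCore x) :
    c * o * c⁻¹ ∈ oCore x := by
  obtain ⟨o', ho', rfl⟩ := ho
  have hn : (Cfsg.oddCore ↥(centralizer ({x} : Set G))).Normal := inferInstance
  exact ⟨_, hn.conj_mem o' ho' ⟨c, mem_cent.2 hc⟩, rfl⟩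

/-- an element of even order is not in the odd core -/
theorem not_mem_oCore [Finite G] {x y : G} (hy : y * y = 1) (hne : y ≠ 1) : y ∉ oCore x := by
  intro h
  have h2 : orderOf y = 2 := orderOf_eq_prime (by rw [pow_two]; exact hy) hne
  have hd : orderOf y ∣ Nat.card ↥(oCore x) := (oCore x).orderOf_dvd_natCard h
  rw [h2] at hd
  exact Nat.not_even_iff_odd.2 (oCore_odd x) (even_iff_two_dvd.2 hd)

namespace TI

variable [Finite G] {z x : G}

/-- conjugation inside `C(x)` moves `z` within its coset of the odd core -/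
theorem move (h : TI z x) (hzx : Commute z x) (hz : z * z = 1) {c : G} (hc : Commute c x) :
    c * z * c⁻¹ * z ∈ oCore x := by
  obtain ⟨k, o, hkz, hkx, ho, rfl⟩ := h c hc
  have hzi : z⁻¹ = z := inv_eq_of_mul_eq_one_right hz
  have e : k * o * z * (k * o)⁻¹ * z = k * (o * (z * o⁻¹ * z⁻¹)) * k⁻¹ := by
    calc k * o * z * (k * o)⁻¹ * z = k * o * z * o⁻¹ * (k⁻¹ * z) := by group
      _ = k * o * z * o⁻¹ * (z * k⁻¹) := by rw [hkz.inv_left.eq]
      _ = _ := by rw [hzi]; group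
  rw [e]
  exact oCore_conj hkx (mul_mem ho (oCore_conj hzx (inv_mem ho)))

/-- a conjugate of `z` in `C(x)` commuting with it is `z` -/
theorem eq_of_commute (h : TI z x) (hzx : Commute z x) (hz : z * z = 1) {c : G} (hc : Commute c x)
    (hcz : Commute (c * z * c⁻¹) z) : c * z * c⁻¹ = z := by
  have hm := h.move hzx hz hc
  by_contra hne
  refine not_mem_oCore ?_ (fun e => hne ?_) hm
  · have hsq : c * z * c⁻¹ * (c * z * c⁻¹) = 1 := by
      rw [show c * z * c⁻¹ * (c * z * c⁻¹) = c * (z * z) * c⁻¹ by group, hz, mul_one, mul_inv_cancel]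
    rw [hcz.symm.mul_mul_mul_comm, hsq, hz, one_mul]
  · rw [mul_eq_one_iff_eq_inv.1 e, inv_eq_of_mul_eq_one_right hz]

/-- every involution of `C(x)` is moved by the odd core into `C(z)` -/
theorem exists_into (h : TI z x) (hzx : Commute z x) (hz : z * z = 1) {y : G} (hy : Commute y x)
    (hy2 : y * y = 1) : ∃ o ∈ oCore x, Commute (o * z * o⁻¹) y := by
  have hyi : y⁻¹ = y := inv_eq_of_mul_eq_one_right hy2
  have hzi : z⁻¹ = z := inv_eq_of_mul_eq_one_right hz
  have hr : (y * z) * (y * z) ∈ oCore x := by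
    have := h.move hzx hz hy
    rwa [hyi, show y * z * y * z = y * z * (y * z) by group] at this
  set s := y * z with hs
  obtain ⟨m, hm⟩ := (Odd.of_dvd_nat (oCore_odd x) ((oCore x).orderOf_dvd_natCard hr))
  refine ⟨(s * s) ^ ((m + 1) ^ 2), pow_mem hr _, ?_⟩
  -- write everything as words in `s` and `y`
  have hsi : s⁻¹ = z * y := by rw [hs, mul_inv_rev, hyi, hzi]
  have hys : y * s * y = s⁻¹ := by
    rw [hsi, hs, ← mul_assoc, hy2, one_mul]
  have hyk : ∀ k : ℕ, y * s ^ k * y = s⁻¹ ^ k := fun k => by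
    induction k with
    | zero => simp [hy2]
    | succ k ih =>
      calc y * s ^ (k + 1) * y = y * s ^ k * y * (y * s * y) := by
            rw [pow_succ, show y * s ^ k * y * (y * s * y) = y * s ^ k * (y * y) * (s * y) by group,
              hy2]; group
        _ = _ := by rw [ih, hys, ← pow_succ]
  have hzs : z = y * s := by rw [hs, ← mul_assoc, hy2, one_mul]
  set n := 2 * (m + 1) ^ 2 with hn
  have h1 : (s * s) ^ ((m + 1) ^ 2) = s ^ n := by rw [← pow_two s, ← pow_mul]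
  have hone : s ^ (2 * (2 * m + 1)) = 1 := by
    rw [pow_mul, pow_two, ← hm]; exact pow_orderOf_eq_one _
  rw [h1, hzs]
  show s ^ n * (y * s) * (s ^ n)⁻¹ * y = y * (s ^ n * (y * s) * (s ^ n)⁻¹)
  have e1 : s ^ n * y = y * s⁻¹ ^ n := by
    rw [← hyk n, ← mul_assoc, ← mul_assoc, hy2, one_mul]
  have e2 : s ^ n * (y * s) * (s ^ n)⁻¹ = y * (s⁻¹ ^ n * s * (s ^ n)⁻¹) := by
    rw [← mul_assoc, e1]; group
  rw [e2, ← mul_assoc y y, hy2, one_mul]
  have e3 : s⁻¹ ^ n * s * (s ^ n)⁻¹ = s ^ (1 - 2 * (n : ℤ)) := by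
    rw [← zpow_natCast, ← zpow_natCast, inv_zpow, ← zpow_neg, ← zpow_add_one, ← zpow_add]
    congr 1; ring
  rw [e3]
  have e4 : y * s ^ (1 - 2 * (n : ℤ)) * y = (s ^ (1 - 2 * (n : ℤ)))⁻¹ := by
    rw [← inv_zpow, ← hys]
    have := map_zpow (MulAut.conj y).toMonoidHom s (1 - 2 * (n : ℤ))
    simpa [hyi] using this
  rw [e4, inv_eq_iff_mul_eq_one, ← zpow_add]
  have e5 : (1 - 2 * (n : ℤ)) + (1 - 2 * (n : ℤ)) =
      ((2 * (2 * m + 1) : ℕ) : ℤ) * -(2 * (m : ℤ) + 3) := by
    rw [hn]; push_cast; ring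
  rw [e5, zpow_mul, zpow_natCast, hone, one_zpow]

end TI

namespace Co

variable [Finite G] {z u : G} (K : Co z u)

include K

theorem z_inv : z⁻¹ = z := inv_eq_of_mul_eq_one_right K.zz

theorem u_inv : u⁻¹ = u := inv_eq_of_mul_eq_one_right K.uu

theorem uz_sq : u * z * (u * z) = 1 := by
  rw [K.comm_zu.symm.mul_mul_mul_comm, K.uu, K.zz, one_mul]

theorem uz_uz : u * (u * z) = z := by rw [← mul_assoc, K.uu, one_mul]

theorem u_ne_uz : u ≠ u * z := fun e => K.z_ne (mul_eq_left.1 e.symm)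

theorem z_ne_uz : z ≠ u * z := fun e => K.u_ne_one (mul_eq_right.1 e.symm)

theorem uz_ne_one : u * z ≠ 1 := fun e =>
  K.u_ne (by rw [mul_eq_one_iff_eq_inv.1 e, K.z_inv])

theorem J_comm_z {x : G} (hx : x ∈ O2c z) : Commute x z := commute_of_O2c hx

theorem inZ_mem {x : G} (h : InZ z u x) : x ∈ O2c z := by
  rcases h with rfl | rfl | rfl | rfl
  exacts [one_mem _, K.z_mem, K.u_mem, mul_mem K.u_mem K.z_mem]

theorem inZ_comm {x c : G} (h : InZ z u x) (hz : Commute c z) (hu : Commute c u) : Commute c x := by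
  rcases h with rfl | rfl | rfl | rfl
  exacts [Commute.one_right c, hz, hu, hu.mul_right hz]

theorem vec_one : K.vec 1 = 0 := (K.vec_eq_zero (one_mem _)).2 (Or.inl rfl)

theorem vec_z : K.vec z = 0 := (K.vec_eq_zero K.z_mem).2 (Or.inr (Or.inl rfl))

theorem vec_u : K.vec u = 0 := (K.vec_eq_zero K.u_mem).2 (Or.inr (Or.inr (Or.inl rfl)))

theorem vec_inv {x : G} (hx : x ∈ O2c z) : K.vec x⁻¹ = K.vec x := by
  have h := K.vec_mul hx (inv_mem hx)
  rw [mul_inv_cancel, K.vec_one] at h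
  exact (eq_of_add h.symm).symm

theorem vec_zb (t : Bool) : K.vec (zb z t) = 0 := by
  cases t
  exacts [K.vec_one, K.vec_z]

theorem eq_mul_inZ {x y : G} (hx : x ∈ O2c z) (hy : y ∈ O2c z) (h : K.vec x = K.vec y) :
    InZ z u (x⁻¹ * y) := (K.vec_eq_zero (mul_mem (inv_mem hx) hy)).1 (by
      rw [K.vec_mul (inv_mem hx) hy, K.vec_inv hx, h, W8.add_self])

/-- a chosen lift -/
noncomputable def lift (v : W8) : G := (K.surj v).choose

theorem lift_mem (v : W8) : K.lift v ∈ O2c z := (K.surj v).choose_spec.1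

theorem vec_lift (v : W8) : K.vec (K.lift v) = v := (K.surj v).choose_spec.2

theorem img_one : K.img 1 = 1 :=
  (K.ker (Commute.one_left z) (Commute.one_left u)).2 (one_mem _)

theorem img_J {x : G} (hx : x ∈ O2c z) : K.img x = 1 :=
  (K.ker (K.J_comm_z hx) (K.J_comm_u hx)).2 hx

theorem img_mem {c : G} (hz : Commute c z) (hu : Commute c u) : K.img c ∈ K.R :=
  (K.img_range _).2 ⟨c, hz, hu, rfl⟩

theorem img_inv {c : G} (hz : Commute c z) (hu : Commute c u) : K.img c⁻¹ = (K.img c)⁻¹ := by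
  rw [eq_inv_iff_mul_eq_one, ← K.img_mul hz.inv_left hu.inv_left hz hu, inv_mul_cancel, K.img_one]

theorem img_conj {c d : G} (hz : Commute c z) (hu : Commute c u) (hdz : Commute d z)
    (hdu : Commute d u) : K.img (c * d * c⁻¹) = K.img c * K.img d * (K.img c)⁻¹ := by
  rw [K.img_mul (hz.mul_left hdz) (hu.mul_left hdu) hz.inv_left hu.inv_left,
    K.img_mul hz hu hdz hdu, K.img_inv hz hu]

theorem img_eq_mul_J {c d : G} (hz : Commute c z) (hu : Commute c u) (hdz : Commute d z)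
    (hdu : Commute d u) (h : K.img c = K.img d) : c⁻¹ * d ∈ O2c z :=
  (K.ker (hz.inv_left.mul_left hdz) (hu.inv_left.mul_left hdu)).1 (by
    rw [K.img_mul hz.inv_left hu.inv_left hdz hdu, K.img_inv hz hu, h, inv_mul_cancel])

/-- Elements of `C(z)` centralising the core are central elements of it. -/
theorem inZ_of_centralizes {c : G} (h : ∀ j ∈ O2c z, Commute c j) : InZ z u c := by
  have hz := h z K.z_mem
  have hu := h u K.u_mem
  have h1 : K.img c = 1 := Equiv.ext fun v => by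
    rw [← K.vec_lift v, ← K.vec_conj hz hu (K.lift_mem v), (h _ (K.lift_mem v)).eq,
      mul_inv_cancel_right]
    rfl
  have hc := (K.ker hz hu).1 h1
  refine (K.vec_eq_zero hc).1 ((bb_nondeg _).resolve_right ?_)
  rintro ⟨w, -, hw⟩
  have e := K.comm hc (K.lift_mem w)
  rw [K.vec_lift, hw, zb_true, (h _ (K.lift_mem w)).eq] at e
  exact K.z_ne (mul_eq_right.1 e.symm)

/-- the same data for the other central element -/
def swap : Co z (u * z) where
  toRng := K.toRng
  zz := K.zz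
  z_ne := K.z_ne
  uu := K.uz_sq
  u_ne_one := K.uz_ne_one
  u_ne := K.z_ne_uz.symm
  comm_zu := K.comm_zu.mul_left (Commute.refl z)
  perm := by
    intro c hc
    have e : c * (u * z) * c⁻¹ = c * u * c⁻¹ * z := by
      calc c * (u * z) * c⁻¹ = c * u * (z * c⁻¹) := by group
        _ = _ := by rw [← hc.inv_left.eq]; group
    rcases K.perm c hc with h | h <;> rw [e, h]
    · exact Or.inl rfl
    · exact Or.inr rfl
  not_conj g := by
    refine ⟨(K.not_conj g).2, ?_⟩
    rw [show u * z * z = u by rw [mul_assoc, K.zz, mul_one]]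
    exact (K.not_conj g).1
  z_mem := K.z_mem
  u_mem := mul_mem K.u_mem K.z_mem
  J_comm_u := fun hx => (K.J_comm_u hx).mul_right (K.J_comm_z hx)
  card_J := K.card_J
  vec := K.vec
  img := K.img
  vec_mul := K.vec_mul
  vec_eq_zero := fun {x} hx => (K.vec_eq_zero hx).trans (by
    unfold InZ
    rw [mul_assoc u z z, K.zz, mul_one]
    tauto)
  surj := K.surj
  sq := K.sq
  comm := K.comm
  img_range t := (K.img_range t).trans ⟨fun ⟨c, h1, h2, h3⟩ => ⟨c, h1, h2.mul_right h1, h3⟩,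
    fun ⟨c, h1, h2, h3⟩ => ⟨c, h1, by
      have := h2.mul_right h1
      rwa [mul_assoc, K.zz, mul_one] at this, h3⟩⟩
  img_mul := fun {c d} h1 h2 h3 h4 => K.img_mul h1 (by
      have := h2.mul_right h1
      rwa [mul_assoc, K.zz, mul_one] at this) h3 (by
      have := h4.mul_right h3
      rwa [mul_assoc, K.zz, mul_one] at this)
  vec_conj := fun {c x} h1 h2 hx => K.vec_conj h1 (by
      have := h2.mul_right h1
      rwa [mul_assoc, K.zz, mul_one] at this) hx
  inner_only := fun c h1 h2 => K.inner_only c h1 fun h => h2 (h.mul_right h1)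
  ker := fun {c} h1 h2 => K.ker h1 (by
      have := h2.mul_right h1
      rwa [mul_assoc, K.zz, mul_one] at this)

/-- An odd subgroup of `C(z, u, x)` normalised by the centraliser of the involution `x` in the core is
trivial. -/
theorem odd_trivial {x : G} (hx2 : x * x = 1) (hxz : Commute x z) {Q : Subgroup G}
    (hodd : Odd (Nat.card ↥Q)) (hQz : ∀ q ∈ Q, Commute q z) (hQx : ∀ q ∈ Q, Commute q x)
    (hn : ∀ j ∈ O2c z, Commute j x → ∀ q ∈ Q, j * q * j⁻¹ ∈ Q) : Q = ⊥ := by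
  haveI : Fact (Nat.Prime 2) := ⟨Nat.prime_two⟩
  have hJ : IsPGroup 2 ↥(O2c z) := IsPGroup.of_card (n := 10) (by rw [K.card_J]; norm_num)
  have hP : IsPGroup 2 ↥(zpowers x) := fun y => ⟨1, by
    obtain ⟨k, hk⟩ := mem_zpowers_iff.1 y.2
    refine Subtype.ext ?_
    rw [SubgroupClass.coe_pow, ← hk, pow_one, pow_two, ← (Commute.refl x).mul_zpow, hx2, one_zpow]
    rfl⟩
  have hnJ : ∀ {q}, Commute q z → q ∈ normalizer (O2c z : Set G) := fun {q} hq =>
    mem_normalizer_iff.2 fun j => ⟨fun hj => conj_O2c hq hj, fun hj => by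
      have := conj_O2c hq.inv_left hj
      simpa [mul_assoc] using this⟩
  have hcap : ∀ w ∈ Q, w ∈ O2c z → w = 1 := by
    intro w hw hwJ
    by_contra hne
    have h1 : orderOf (⟨w, hwJ⟩ : ↥(O2c z)) ≠ 1 := fun e =>
      hne (congrArg Subtype.val (orderOf_eq_one_iff.1 e))
    obtain ⟨k, hk⟩ := IsPGroup.iff_orderOf.1 hJ (⟨w, hwJ⟩ : ↥(O2c z))
    have hd : orderOf w ∣ Nat.card ↥Q := Q.orderOf_dvd_natCard hw
    rw [Subgroup.orderOf_mk] at hk h1
    rw [hk] at hd h1
    have hk0 : k ≠ 0 := fun e => h1 (by rw [e, pow_zero])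
    exact Nat.not_even_iff_odd.2 hodd (even_iff_two_dvd.2 ((dvd_pow_self 2 hk0).trans hd))
  have h := Cfsg.Agent.Coprime.le_centralizer_of_pxq hP (Nat.coprime_two_right.2 hodd) hJ
    (zpowers_le.2 (mem_centralizer_iff.2 fun q hq => (hQx q hq).eq))
    (zpowers_le.2 (hnJ hxz)) (fun q hq => hnJ (hQz q hq)) (by
      rintro j ⟨hj, hjP⟩
      refine mem_centralizer_iff.2 fun q hq => ?_
      have hjx : Commute j x := (mem_centralizer_iff.1 hjP x (mem_zpowers x)).symm
      have h1 : q * j * q⁻¹ * j⁻¹ ∈ O2c z := mul_mem (conj_O2c (hQz q hq) hj) (inv_mem hj)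
      have h2 : q * j * q⁻¹ * j⁻¹ ∈ Q := by
        rw [show q * j * q⁻¹ * j⁻¹ = q * (j * q⁻¹ * j⁻¹) by group]
        exact mul_mem hq (hn j hj hjx _ (inv_mem hq))
      exact mul_inv_eq_iff_eq_mul.1 (mul_inv_eq_one.1 (hcap _ h2 h1)))
  refine eq_bot_iff.2 fun q hq => ?_
  exact hcap q hq (K.inZ_mem (K.inZ_of_centralizes fun j hj =>
    (mem_centralizer_iff.1 (h hq) j hj).symm))

/-- If `C(x) = C(z, x) O(C(x))` for the conjugate `x ↦ h x h⁻¹ = v`, `z ↦ a`, then `a` is centralised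
by the centraliser of `v` in `C(z, u)`. -/
theorem commute_conj_of_TI {x h : G} (hT : TI z x) (hzx : Commute z x) (hx2 : x * x = 1)
    (hvz : Commute (h * x * h⁻¹) z)
    (haz : Commute (h * z * h⁻¹) z) (hau : Commute (h * z * h⁻¹) u)
    {c : G} (hcz : Commute c z) (hcu : Commute c u) (hcv : Commute c (h * x * h⁻¹)) :
    Commute c (h * z * h⁻¹) := by
  set v := h * x * h⁻¹ with hv
  set a := h * z * h⁻¹ with ha
  have hinv : ∀ {d}, Commute d v → Commute (h⁻¹ * d * h) x := fun {d} hd => by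
    have := conj_commute h⁻¹ hd
    rwa [hv, show h⁻¹ * (h * x * h⁻¹) * h⁻¹⁻¹ = x by group, inv_inv] at this
  let O : Subgroup G := (oCore x).map (MulAut.conj h).toMonoidHom
  have hO : ∀ {o}, o ∈ O → Commute o v ∧ ∀ {d}, Commute d v → d * o * d⁻¹ ∈ O := by
    rintro _ ⟨o, ho, rfl⟩
    refine ⟨conj_commute h (oCore_le x ho), fun {d} hd => ⟨_, oCore_conj (hinv hd) ho, ?_⟩⟩
    show h * (h⁻¹ * d * h * o * (h⁻¹ * d * h)⁻¹) * h⁻¹ = d * (h * o * h⁻¹) * d⁻¹
    group
  let Q : Subgroup G := O ⊓ (centralizer ({z} : Set G) ⊓ centralizer ({u} : Set G))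
  have hQ : Q = ⊥ := by
    refine K.odd_trivial (x := v) ?_ hvz ?_ (fun q hq => mem_cent.1 hq.2.1)
      (fun q hq => (hO hq.1).1) fun j hj hjv q hq => ⟨(hO hq.1).2 hjv, ?_, ?_⟩
    · rw [hv, show h * x * h⁻¹ * (h * x * h⁻¹) = h * (x * x) * h⁻¹ by group, hx2]; group
    · refine Odd.of_dvd_nat ?_ (card_dvd_of_le inf_le_left)
      rw [card_map_of_injective (MulAut.conj h).injective]
      exact oCore_odd x
    · exact mem_cent.2 (((K.J_comm_z hj).mul_left (mem_cent.1 hq.2.1)).mul_left (K.J_comm_z hj).inv_left)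
    · exact mem_cent.2 (((K.J_comm_u hj).mul_left (mem_cent.1 hq.2.2)).mul_left (K.J_comm_u hj).inv_left)
  have hm : c * a * c⁻¹ * a ∈ Q := by
    refine ⟨⟨_, hT.move hzx K.zz (hinv hcv), ?_⟩, ?_, ?_⟩
    · show h * (h⁻¹ * c * h * z * (h⁻¹ * c * h)⁻¹ * z) * h⁻¹ = c * (h * z * h⁻¹) * c⁻¹ * (h * z * h⁻¹)
      group
    · exact mem_cent.2 (((hcz.mul_left haz).mul_left hcz.inv_left).mul_left haz)
    · exact mem_cent.2 (((hcu.mul_left hau).mul_left hcu.inv_left).mul_left hau)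
  rw [hQ, mem_bot] at hm
  have hai : a⁻¹ = a := by rw [ha, mul_inv_rev, mul_inv_rev, inv_inv, K.z_inv, mul_assoc]
  have := mul_eq_one_iff_eq_inv.1 hm
  rw [hai] at this
  exact mul_inv_eq_iff_eq_mul.1 this

end Co

end Cfsg.Agent.FiTwentyTwoByTwo
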