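import Cfsg.Agent.Lib.FiTwentyTwoByTwo.Basic
import Cfsg.Agent.Lib.FiTwentyTwoByTwo.Tables

/-!
# Involutions in the groups of isometries: fixed spaces and commutator spaces
-/

set_option autoImplicit false
set_option linter.unusedSectionVars false
set_option maxRecDepth 100000

namespace Cfsg.Agent.FiTwentyTwoByTwo

open Cfsg.Agent.ThreeTransp.U62Cent Cfsg.Agent.ThreeTransp.U62Cent.W8

/-- the fixed vectors -/
def fixV (t : Equiv.Perm W8) : Set W8 := {v | t v = v}

/-- the commutator space -/
def imV (t : Equiv.Perm W8) : Set W8 := Set.range fun v => t v + v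

/-- the six-dimensional part as a set -/
def sixV : Set W8 := {v | v ∈ six}

/-- an involutive isometry -/
structure IsInv (e : Bool) (t : Equiv.Perm W8) : Prop where
  iso : IsIso e false t
  sq : t * t = 1

namespace IsInv

variable {e : Bool} {t s : Equiv.Perm W8} (h : IsInv e t)

include h

theorem self (v : W8) : t (t v) = v := congrArg (fun g : Equiv.Perm W8 => g v) h.sq

theorem im_fix {v : W8} (hv : v ∈ imV t) : t v = v := by
  obtain ⟨y, rfl⟩ := hv
  rw [h.iso.add, h.self, add_comm]

theorem bb_left (v w : W8) : bb (t v) w = bb v (t w) := by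
  conv_lhs => rw [← h.self w]
  exact h.iso.bb _ _

theorem perp_im {v : W8} (hv : t v = v) (y : W8) : bb v (t y + y) = false := by
  rw [bb_add_right, ← h.bb_left, hv, Bool.xor_self]

/-- a vector orthogonal to the commutator space is fixed -/
theorem fix_of_perp {v : W8} (hv : ∀ y, bb v (t y + y) = false) : t v = v := by
  refine eq_of_add ((bb_nondeg _).resolve_right ?_)
  rintro ⟨w, -, hw⟩
  have := hv w
  rw [bb_add_right, ← h.bb_left] at this
  rw [bb_add_left] at hw
  exact absurd (hw.symm.trans this) (by decide)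

theorem q_im (y : W8) : qe e (t y + y) = bb (t y) y := by
  rw [qe_add, h.iso.q, Bool.xor_self, Bool.false_xor]

end IsInv

/-- the fixed vectors of an additive map inside an invariant subgroup, and its commutator space -/
theorem card_fix_mul_im {S : Set W8} (h0 : (0 : W8) ∈ S) (hadd : ∀ v ∈ S, ∀ w ∈ S, v + w ∈ S)
    {t : Equiv.Perm W8} (ht : ∀ v w, t (v + w) = t v + t w) (hS : ∀ v ∈ S, t v ∈ S) :
    (fixV t ∩ S).ncard * ((fun v => t v + v) '' S).ncard = S.ncard := by
  let A : AddSubgroup W8 :=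
    { carrier := S, zero_mem' := h0, add_mem' := fun hv hw => hadd _ hv _ hw
      neg_mem' := fun {v} hv => by rwa [neg_eq] }
  let f : ↥A →+ W8 :=
    { toFun := fun v => t v + v
      map_zero' := by rw [AddSubgroup.coe_zero, additive_zero ht, add_zero]
      map_add' := fun v w => by rw [AddSubgroup.coe_add, ht]; abel }
  have h1 := AddSubgroup.card_eq_card_quotient_mul_card_addSubgroup f.ker
  rw [Nat.card_congr (QuotientAddGroup.quotientKerEquivRange f).toEquiv] at h1
  have e1 : (fixV t ∩ S).ncard = Nat.card ↥f.ker := by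
    rw [← Nat.card_coe_set_eq]
    refine Nat.card_congr
      { toFun := fun v => ⟨⟨v.1, v.2.2⟩, show t v.1 + v.1 = 0 by rw [show t v.1 = v.1 from v.2.1, W8.add_self]⟩
        invFun := fun v => ⟨v.1.1, eq_of_add v.2, v.1.2⟩
        left_inv := fun _ => rfl
        right_inv := fun _ => rfl }
  have e2 : ((fun v => t v + v) '' S).ncard = Nat.card ↥f.range := by
    rw [← Nat.card_coe_set_eq]
    refine Nat.card_congr (Equiv.setCongr ?_)
    ext x
    constructor
    · rintro ⟨v, hv, rfl⟩; exact ⟨⟨v, hv⟩, rfl⟩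
    · rintro ⟨⟨v, hv⟩, rfl⟩; exact ⟨v, hv, rfl⟩
  rw [e1, e2, mul_comm, ← h1, ← Nat.card_coe_set_eq]
  rfl

theorem sixV_ncard : sixV.ncard = 64 := by
  have h : six.length = 64 ∧ six.Nodup := by decide +kernel
  rw [← h.1, ← List.toFinset_card_of_nodup h.2, ← Set.ncard_coe_finset]
  exact congrArg Set.ncard (List.coe_toFinset six).symm

theorem zero_six : (0 : W8) ∈ sixV := show (0 : W8) ∈ six by decide +kernel

theorem add_six {v w : W8} (hv : v ∈ sixV) (hw : w ∈ sixV) : v + w ∈ sixV := S.six_add _ hv _ hw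

theorem ncard_four : ∀ {a b : W8}, ({0, a, b, a + b} : Set W8).ncard ≤ 4 := fun {a b} => by
  refine (Set.ncard_insert_le _ _).trans ?_
  refine Nat.succ_le_succ ((Set.ncard_insert_le _ _).trans (Nat.succ_le_succ ?_))
  exact (Set.ncard_insert_le _ _).trans (Nat.succ_le_succ (Set.ncard_singleton _).le)

/-- A totally singular subgroup of the six-dimensional part has at most four elements. -/
theorem six_singular_le {S : Set W8} (hS : S ⊆ sixV) (hadd : ∀ v ∈ S, ∀ w ∈ S, v + w ∈ S)
    (hq : ∀ v ∈ S, qe true v = false) : S.ncard ≤ 4 := by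
  have hb : ∀ v ∈ S, ∀ w ∈ S, bb v w = false := fun v hv w hw => by
    have h := hq _ (hadd v hv w hw)
    rw [qe_add, hq v hv, hq w hw] at h
    simpa using h
  by_cases h1 : ∃ x ∈ S, x ≠ 0
  · obtain ⟨x, hx, hx0⟩ := h1
    by_cases h2 : ∃ y ∈ S, y ≠ 0 ∧ y ≠ x
    · obtain ⟨y, hy, hy0, hyx⟩ := h2
      refine (Set.ncard_le_ncard (t := {0, x, y, x + y}) (fun w hw => ?_) (Set.toFinite _)).trans ncard_four
      simpa using Tables.six_index x (hS hx) (hq x hx) hx0 y (hS hy) (hq y hy) (hb x hx y hy) hy0 hyx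
        w (hS hw) (hq w hw) (hb x hx w hw) (hb y hy w hw)
    · push Not at h2
      refine (Set.ncard_le_ncard (t := {0, x, x, x + x}) (fun w hw => ?_) (Set.toFinite _)).trans ncard_four
      by_cases hw0 : w = 0
      · exact Or.inl hw0
      · exact Or.inr (Or.inl (h2 w hw hw0))
  · push Not at h1
    refine (Set.ncard_le_ncard (t := {0}) (fun w hw => h1 w hw) (Set.toFinite _)).trans ?_
    rw [Set.ncard_singleton]; norm_num

theorem transport_fix {y x : Equiv.Perm W8} {f : W8 → W8}
    (hyx : ∀ v, (y * x * y⁻¹ : Equiv.Perm W8) v = f v) {v : W8} : x v = v ↔ f (y v) = y v := by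
  rw [← hyx, Equiv.Perm.mul_apply, Equiv.Perm.mul_apply, Equiv.Perm.inv_def, Equiv.symm_apply_apply]
  exact y.injective.eq_iff.symm

namespace INat'

variable {I : Subgroup (Equiv.Perm W8)} (h : INat I)
include h

/-- the fixed space of an inner involution -/
theorem fix_cases {x : Equiv.Perm W8} (hx : x ∈ I) (hx2 : x * x = 1) (hne : x ≠ 1) :
    (fixV x).ncard = 64 ∨ (fixV x).ncard = 16 := by
  obtain ⟨y, -, hc⟩ := h.classes hx hx2 hne
  have key : ∀ f : W8 → W8, (∀ v, (y * x * y⁻¹ : Equiv.Perm W8) v = f v) →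
      (fixV x).ncard = {v | f v = v}.ncard := by
    intro f hf
    rw [← Set.ncard_image_of_injective (fixV x) y.injective]
    congr 1
    ext v
    constructor
    · rintro ⟨w, hw, rfl⟩; exact (transport_fix hf).1 hw
    · intro hv
      exact ⟨y.symm v, (transport_fix hf).2 (by rw [Equiv.apply_symm_apply]; exact hv), y.apply_symm_apply v⟩
  rcases hc with hc | hc
  · exact Or.inl (by rw [key _ hc, N.ncard_fix0])
  · exact Or.inr (by rw [key _ hc, N.ncard_fix1])

end INat'

namespace ISplit'

variable {I : Subgroup (Equiv.Perm W8)} (h : ISplit I)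
include h

theorem six_map {g : Equiv.Perm W8} (hg : g ∈ I) {v : W8} (hv : v ∈ sixV) : g v ∈ sixV :=
  GS_six (h.le hg) hv

/-- the fixed space of an inner involution in the six-dimensional part -/
theorem fix_six {x : Equiv.Perm W8} (hx : x ∈ I) (hx2 : x * x = 1) (hne : x ≠ 1) :
    (fixV x ∩ sixV).ncard = 16 := by
  obtain ⟨y, hy, hc⟩ := h.classes hx hx2 hne
  have hl : S.D0.length = 16 ∧ S.D0.Nodup ∧ S.D1.length = 16 ∧ S.D1.Nodup := by decide +kernel
  have key : ∀ (f : W8 → W8) (D : List W8), (∀ v, (y * x * y⁻¹ : Equiv.Perm W8) v = f v) →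
      (∀ v ∈ six, (f v = v ↔ v ∈ D)) → (∀ v ∈ D, v ∈ six) → D.length = 16 → D.Nodup →
      (fixV x ∩ sixV).ncard = 16 := by
    intro f D hf hD hD6 hlen hn
    rw [← hlen, ← List.toFinset_card_of_nodup hn, ← Set.ncard_coe_finset,
      ← Set.ncard_image_of_injective (fixV x ∩ sixV) y.injective]
    congr 1
    ext v
    rw [List.coe_toFinset]
    constructor
    · rintro ⟨w, ⟨hw, hw6⟩, rfl⟩
      exact (hD _ (six_map h hy hw6)).1 ((transport_fix hf).1 hw)
    · intro hv
      refine ⟨y.symm v, ⟨(transport_fix hf).2 ?_, six_map h (inv_mem hy) (hD6 v hv)⟩, y.apply_symm_apply v⟩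
      rw [Equiv.apply_symm_apply]
      exact (hD v (hD6 v hv)).2 hv
  rcases hc with hc | hc
  · exact key _ _ hc S.D0_iff (fun v hv => (S.D0_sub v hv).1) hl.1 hl.2.1
  · exact key _ _ hc S.D1_iff (fun v hv => (S.D1_sub v hv).1) hl.2.2.1 hl.2.2.2

end ISplit'

namespace Rng

variable (R : Rng)

theorem inv_of {t : Equiv.Perm W8} (ht : t ∈ R.R) (h2 : t * t = 1) : IsInv R.e t :=
  ⟨R.iso t ht, h2⟩

theorem qe_six' {v : W8} (hv : v ∈ sixV) : qe R.e v = qe true v := qe_six R.e v hv

/-- An outer involution has odd rank on the six-dimensional part. -/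
theorem outer_six (hS : ISplit R.I) {t : Equiv.Perm W8} (ht : t ∈ R.R) (hI : t ∉ R.I) (h2 : t * t = 1) :
    ((fixV t ∩ sixV).ncard = 32 ∧ ∃ n ∈ sixV, qe R.e n = true ∧
        (∀ v ∈ sixV, t v + v = 0 ∨ t v + v = n) ∧ ∃ v ∈ sixV, t v + v = n) ∨
      ((fixV t ∩ sixV).ncard = 8 ∧ ∀ v ∈ sixV, t v = v → ∃ w ∈ sixV, t w + w = v) := by
  have hv := R.inv_of ht h2
  have hmap : ∀ v ∈ sixV, t v ∈ sixV := R.six_map hS t ht
  set F := fixV t ∩ sixV with hF
  set L := (fun v => t v + v) '' sixV with hL
  have hcard : F.ncard * L.ncard = 64 := by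
    rw [← sixV_ncard]
    exact card_fix_mul_im zero_six (fun v hv w hw => add_six hv hw) hv.iso.add hmap
  have hLF : L ⊆ F := by
    rintro _ ⟨v, hv6, rfl⟩
    exact ⟨hv.im_fix ⟨v, rfl⟩, add_six (hmap v hv6) hv6⟩
  have hFadd : ∀ v ∈ F, ∀ w ∈ F, v + w ∈ F := fun v hv' w hw => ⟨by
    show t (v + w) = v + w
    rw [hv.iso.add, hv'.1, hw.1], add_six hv'.2 hw.2⟩
  -- composition with a reflection in a fixed nonsingular vector
  have flip : ∀ m ∈ F, qe R.e m = true → ∃ i ∈ R.I, i * i = 1 ∧
      (∀ v ∈ sixV, i v = rfx m (t v)) ∧ (i = 1 → ∀ v ∈ sixV, t v = rfx m v) := by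
    intro m hm hq
    have hmn : m ∈ nons := List.mem_filter.2 ⟨hm.2, by rw [← R.qe_six' hm.2]; exact hq⟩
    obtain ⟨i, hi, hit⟩ := R.flip_six hS t ht hI m hmn
    have hi' : ∀ v ∈ sixV, i v = rfx m (t v) := fun v hv6 => by rw [hit v hv6, rfx_inv]
    have hmr : ∀ v, rfx m (t v) = t (rfx m v) := fun v => by
      rw [rfx_conj hv.iso, hm.1]
    refine ⟨i, hi, Equiv.ext fun v => ?_, hi', fun e v hv6 => by rw [hit v hv6, e]; rfl⟩
    obtain ⟨h1, h3, h4⟩ := S.proj_spec v
    show i (i v) = v
    rw [← h4, (hS.le hi).1.add, (hS.le hi).1.add, hS.fix_plane hi h3, hS.fix_plane hi h3,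
      hi' _ h1, hi' _ (show rfx m (t (S.sixp v)) ∈ sixV from GS_six (rfP_mem true hmn) (hmap _ h1))]
    simp only [hmr, rfx_inv, hv.self]
  -- the rank is positive
  have hL2 : ∃ n ∈ L, n ≠ 0 := by
    by_contra hc
    push Not at hc
    have hfix : ∀ v ∈ sixV, t v = v := fun v hv6 => eq_of_add (hc _ ⟨v, hv6, rfl⟩)
    have h6 : W8.mk 1 ∈ sixV := S.one_facts.1
    obtain ⟨i, hi, hi2, hi', -⟩ := flip _ ⟨hfix _ h6, h6⟩
      (by rw [R.qe_six' h6]; exact S.one_facts.2.2.2.1)
    have hne : i ≠ 1 := by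
      rintro rfl
      obtain ⟨-, h22, h12, -, h1ne, -⟩ := S.one_facts
      have := hi' _ h22
      rw [hfix _ h22, Equiv.Perm.one_apply] at this
      rw [← this, W8.add_self] at h12
      exact h1ne h12.symm
    have hsub : {v | bb v (W8.mk 1) = false} ∩ sixV ⊆ fixV i ∩ sixV := fun v hv' => ⟨by
      show i v = v
      rw [hi' v hv'.2, hfix v hv'.2, rfx, show bb v (W8.mk 1) = false from hv'.1]
      simp, hv'.2⟩
    have h32 : 32 ≤ ({v | bb v (W8.mk 1) = false} ∩ sixV).ncard := by
      have hlist : (six.filter fun v => !bb v (W8.mk 1)).length = 32 ∧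
          (six.filter fun v => !bb v (W8.mk 1)).Nodup := by decide +kernel
      rw [← hlist.1, ← List.toFinset_card_of_nodup hlist.2, ← Set.ncard_coe_finset]
      refine Set.ncard_le_ncard (fun v hv' => ?_) (Set.toFinite _)
      rw [List.coe_toFinset, Set.mem_setOf_eq, List.mem_filter] at hv'
      exact ⟨by simpa using hv'.2, hv'.1⟩
    have := ISplit'.fix_six hS hi hi2 hne
    have := Set.ncard_le_ncard hsub (Set.toFinite _)
    omega
  -- a nonsingular commutator forces a reflection
  by_cases hn : ∃ n ∈ L, qe R.e n = true ∧ F.ncard ≠ 8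
  · left
    obtain ⟨n, hnL, hq, h8⟩ := hn
    obtain ⟨i, hi, hi2, hi', hi1⟩ := flip n (hLF hnL) hq
    obtain ⟨y, hy6, hy⟩ := hnL
    have hyn : bb y n = true := by
      rw [← hy] at hq ⊢
      rw [hv.q_im] at hq
      rw [bb_add_right, bb_self, Bool.xor_false, bb_comm, hq]
    have hFfix : ∀ v ∈ F, i v = v := fun v hv' => by
      rw [hi' v hv'.2, hv'.1, rfx, show bb v n = false by rw [← hy]; exact hv.perp_im hv'.1 y]
      simp
    have hyfix : i y = y := by
      have hty : t y = y + n := by
        rw [← hy, add_left_comm, W8.add_self, add_zero]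
      rw [hi' y hy6, hty, rfx, bb_add_left, hyn, bb_self]
      simp [add_assoc, W8.add_self]
    by_cases hi0 : i = 1
    · have hr := hi1 hi0
      have hb : ∀ v ∈ sixV, t v + v = 0 ∨ t v + v = n := fun v hv6 => by
        rw [hr v hv6, rfx]
        cases bb v n
        · left; simp [W8.add_self]
        · right; simp [add_comm v n, add_assoc, W8.add_self]
      have hn0 : n ≠ 0 := fun e => by rw [e, qe_zero] at hq; exact absurd hq (by decide)
      have hLe : L = {0, n} := Set.Subset.antisymm
        (by rintro _ ⟨v, hv6, rfl⟩; simpa using hb v hv6)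
        (by
          rintro x (rfl | rfl)
          · exact ⟨0, zero_six, by show t 0 + 0 = 0; rw [additive_zero hv.iso.add, add_zero]⟩
          · exact ⟨y, hy6, hy⟩)
      rw [hLe, Set.ncard_pair hn0.symm] at hcard
      exact ⟨by omega, n, (hLF ⟨y, hy6, hy⟩).2, hq, hb, y, hy6, hy⟩
    · exfalso
      have h16 := ISplit'.fix_six hS hi hi2 hi0
      have hsub : insert y F ⊆ fixV i ∩ sixV := by
        rintro v (rfl | hv')
        · exact ⟨hyfix, hy6⟩
        · exact ⟨hFfix v hv', hv'.2⟩
      have hyF : y ∉ F := fun h' => by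
        have : n = 0 := by
          rw [← hy]
          show t y + y = 0
          rw [show t y = y from h'.1, W8.add_self]
        rw [this, qe_zero] at hq
        exact absurd hq (by decide)
      have := Set.ncard_le_ncard hsub (Set.toFinite _)
      rw [Set.ncard_insert_of_notMem hyF (Set.toFinite _), h16] at this
      -- `F` has 2-power order above eight
      have hd : F.ncard ∣ 64 := Dvd.intro _ hcard
      have hup : F.ncard ≤ 64 := Nat.le_of_dvd (by norm_num) hd
      have hle := Set.ncard_le_ncard hLF (Set.toFinite _)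
      interval_cases hk : F.ncard <;> omega
  · right
    push Not at hn
    suffices h8 : F.ncard = 8 by
      refine ⟨h8, fun v hv6 hvf => ?_⟩
      have hle := Set.ncard_le_ncard hLF (Set.toFinite _)
      rw [h8] at hcard
      have e : L = F := Set.eq_of_subset_of_ncard_le hLF (by omega) (Set.toFinite _)
      exact (show v ∈ L by rw [e]; exact ⟨hvf, hv6⟩)
    by_contra h8
    have hLq : ∀ v ∈ L, qe true v = false := fun v hv' => by
      rw [← R.qe_six' (hLF hv').2]
      by_contra hc
      exact h8 (hn v hv' (by simpa using hc))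
    have hLadd : ∀ v ∈ L, ∀ w ∈ L, v + w ∈ L := by
      rintro _ ⟨v, hv', rfl⟩ _ ⟨w, hw, rfl⟩
      exact ⟨v + w, add_six hv' hw, by
        show t (v + w) + (v + w) = t v + v + (t w + w)
        rw [hv.iso.add, add_add_add_comm]⟩
    have hL4 : L.ncard ≤ 4 := six_singular_le (fun v hv' => (hLF hv').2) hLadd hLq
    have hF4 : ¬ F.ncard ≤ 4 := fun h => by nlinarith
    obtain ⟨m, hm, hmq, v0, hv0, hv0m⟩ :
        ∃ m ∈ F, qe R.e m = true ∧ ∃ v0 ∈ F, bb v0 m = true := by
      by_cases hiso : ∃ v ∈ F, ∃ w ∈ F, bb v w = true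
      · obtain ⟨v, hv', w, hw, hvw⟩ := hiso
        cases hqw : qe R.e w
        · cases hqv : qe R.e v
          · refine ⟨v + w, hFadd v hv' w hw, by rw [qe_add, hqv, hqw, hvw]; rfl, v, hv', ?_⟩
            rw [bb_add_right, bb_self, hvw]
            rfl
          · exact ⟨v, hv', hqv, w, hw, by rw [bb_comm]; exact hvw⟩
        · exact ⟨w, hw, hqw, v, hv', hvw⟩
      · exfalso
        push Not at hiso
        have hlin : ∀ v ∈ F, ∀ w ∈ F, qe true (v + w) = xor (qe true v) (qe true w) := fun v hv' w hw => by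
          rw [qe_add, show bb v w = false by simpa using hiso v hv' w hw, Bool.xor_false]
        set F0 := {v | v ∈ F ∧ qe true v = false} with hF0
        have h04 : F0.ncard ≤ 4 := six_singular_le (fun v hv' => hv'.1.2)
          (fun v hv' w hw => ⟨hFadd v hv'.1 w hw.1, by rw [hlin v hv'.1 w hw.1, hv'.2, hw.2]; rfl⟩)
          fun v hv' => hv'.2
        have hFc : F.ncard ≤ F0.ncard + F0.ncard := by
          by_cases hn1 : ∃ m ∈ F, qe true m = true
          · obtain ⟨m, hm, hmq⟩ := hn1
            refine le_trans (Set.ncard_le_ncard (t := F0 ∪ (m + ·) '' F0) (fun v hv' => ?_)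
              (Set.toFinite _)) ((Set.ncard_union_le _ _).trans
              (Nat.add_le_add_left (Set.ncard_image_le (Set.toFinite _)) _))
            cases hq : qe true v
            · exact Or.inl ⟨hv', hq⟩
            · refine Or.inr ⟨m + v, ⟨hFadd m hm v hv', by rw [hlin m hm v hv', hmq, hq]; rfl⟩, ?_⟩
              show m + (m + v) = v
              rw [← add_assoc, W8.add_self, zero_add]
          · push Not at hn1
            exact (Set.ncard_le_ncard (fun v hv' => (⟨hv', by simpa using hn1 v hv'⟩ : v ∈ F0))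
              (Set.toFinite _)).trans (Nat.le_add_right _ _)
        have : F.ncard = 8 ∨ 16 ≤ F.ncard := by
          have hd : F.ncard ∣ 64 := Dvd.intro _ hcard
          have hup : F.ncard ≤ 64 := Nat.le_of_dvd (by norm_num) hd
          interval_cases hk : F.ncard <;> omega
        omega
    obtain ⟨i, hi, hi2, hi', hi1⟩ := flip m hm hmq
    have hm0 : m ≠ 0 := fun e => by rw [e, qe_zero] at hmq; exact absurd hmq (by decide)
    have hmL : m ∉ L := fun h' => by
      have := hLq m h'
      rw [← R.qe_six' hm.2, hmq] at this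
      exact absurd this (by decide)
    have hne : i ≠ 1 := fun e => by
      obtain ⟨n, ⟨v, hv6, rfl⟩, hn0⟩ := hL2
      have h1 := hi1 e v hv6
      rw [rfx] at h1
      cases hb : bb v m <;> rw [hb] at h1
      · exact hn0 (by show t v + v = 0; rw [h1]; simp [W8.add_self])
      · refine hmL ⟨v, hv6, ?_⟩
        show t v + v = m
        rw [h1]; simp [add_comm v m, add_assoc, W8.add_self]
    have hsub : fixV i ∩ sixV ⊆ {v | v ∈ F ∧ bb v m = false} := by
      rintro v ⟨hvi, hv6⟩
      have h1 : rfx m (t v) = v := (hi' v hv6).symm.trans hvi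
      have h2 : t v = rfx m v := by rw [← h1, rfx_inv, h1]
      rw [rfx] at h2
      cases hb : bb v m
      · rw [hb] at h2
        exact ⟨⟨show t v = v by simpa using h2, hv6⟩, hb⟩
      · rw [hb] at h2
        exact absurd ⟨v, hv6, show t v + v = m by rw [h2]; simp [add_comm v m, add_assoc, W8.add_self]⟩ hmL
    have hlt : {v | v ∈ F ∧ bb v m = false}.ncard * 2 ≤ F.ncard := by
      have hd : Disjoint {v | v ∈ F ∧ bb v m = false} ((v0 + ·) '' {v | v ∈ F ∧ bb v m = false}) := by
        refine Set.disjoint_left.2 fun x hx ⟨l, hl, hlx⟩ => ?_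
        have hlx' : v0 + l = x := hlx
        have := hx.2
        rw [← hlx', bb_add_left, hv0m, hl.2] at this
        exact absurd this (by decide)
      rw [mul_two]
      nth_rewrite 2 [← Set.ncard_image_of_injective _ (add_right_injective v0)]
      rw [← Set.ncard_union_eq hd (Set.toFinite _) (Set.toFinite _)]
      refine Set.ncard_le_ncard ?_ (Set.toFinite _)
      rintro x (hx | ⟨l, hl, rfl⟩)
      · exact hx.1
      · exact hFadd _ hv0 _ hl.1
    have h16 := ISplit'.fix_six hS hi hi2 hne
    have := Set.ncard_le_ncard hsub (Set.toFinite _)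
    have hL1 : 2 ≤ L.ncard := by
      obtain ⟨n, hnL, hn0⟩ := hL2
      have h0 : (0 : W8) ∈ L := ⟨0, zero_six, by show t 0 + 0 = 0; rw [additive_zero hv.iso.add, add_zero]⟩
      calc 2 = ({0, n} : Set W8).ncard := (Set.ncard_pair hn0.symm).symm
        _ ≤ L.ncard := Set.ncard_le_ncard (by rintro x (rfl | rfl) <;> assumption) (Set.toFinite _)
    have hF32 : F.ncard = 32 := by nlinarith
    -- a vector of the six-space outside the hyperplane pairs with the commutator
    obtain ⟨n, ⟨y, hy6, hy⟩, hn0⟩ := hL2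
    change t y + y = n at hy
    have hn6 : n ∈ sixV := by rw [← hy]; exact add_six (hmap y hy6) hy6
    have hny : bb n y = false := by
      have h1 := hLq n ⟨y, hy6, hy⟩
      rw [← R.qe_six' hn6, ← hy, hv.q_im] at h1
      rw [← hy, bb_add_left, h1, bb_self]
      rfl
    have hyF : y ∉ F := fun h' => hn0 (by rw [← hy, show t y = y from h'.1, W8.add_self])
    have hcov : sixV = F ∪ (y + ·) '' F := by
      refine (Set.eq_of_subset_of_ncard_le ?_ ?_ (Set.toFinite _)).symm
      · rintro x (hx | ⟨l, hl, rfl⟩)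
        exacts [hx.2, add_six hy6 hl.2]
      · rw [sixV_ncard, Set.ncard_union_eq ?_ (Set.toFinite _) (Set.toFinite _),
          Set.ncard_image_of_injective _ (add_right_injective y), hF32]
        refine Set.disjoint_left.2 fun x hx ⟨l, hl, hlx⟩ => hyF ?_
        have := hFadd x hx l hl
        rwa [← hlx, add_assoc, W8.add_self, add_zero] at this
    refine hn0 ((bb_nondeg n).resolve_right ?_)
    rintro ⟨w, -, hw⟩
    obtain ⟨h1, h3, h4⟩ := S.proj_spec w
    rw [← h4, bb_add_right, S.plane_bb n hn6 _ h3, Bool.xor_false] at hw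
    have h6 : S.sixp w ∈ sixV := h1
    rw [hcov] at h6
    rcases h6 with hx | ⟨l, hl, hlx⟩
    · rw [bb_comm, show bb (S.sixp w) n = false by rw [← hy]; exact hv.perp_im hx.1 y] at hw
      exact absurd hw (by decide)
    · rw [← hlx, bb_add_right, hny, bb_comm n l,
        show bb l n = false by rw [← hy]; exact hv.perp_im hl.1 y] at hw
      exact absurd hw (by decide)

end Rng

end Cfsg.Agent.FiTwentyTwoByTwo
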