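import Cfsg.Agent.Lib.FiTwentyTwoByTwo.Inner
import Cfsg.Agent.Lib.FiTwentyTwoByTwo.Invol

/-!
# The standing data from coordinates in the quotient
-/

set_option autoImplicit false
set_option linter.unusedSectionVars false
set_option maxRecDepth 100000

namespace Cfsg.Agent.FiTwentyTwoByTwo

open Subgroup Cfsg.Agent.ThreeTransp.U62Cent Cfsg.Agent.ThreeTransp.U62Cent.W8

theorem nons_perp_count : ∀ m ∈ nons, (six.filter fun v => !bb v m).length = 32 := by decide +kernel

/-- A reflection in a vector of the six-part is not in the group. -/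
theorem rfx_not_mem {I : Subgroup (Equiv.Perm W8)} (hS : ISplit I) {t : Equiv.Perm W8} {m : W8}
    (hm : m ∈ nons) (ht : ∀ d ∈ six, t d = rfx m d) : t ∉ I := by
  intro hI
  have h2 : t * t = 1 := Equiv.ext fun v => by
    obtain ⟨h1, h3, h4⟩ := S.proj_spec v
    show t (t v) = v
    have h6 : rfx m (S.sixp v) ∈ six := GS_six (rfP_mem true hm) h1
    rw [← h4, (hS.le hI).1.add, (hS.le hI).1.add, hS.fix_plane hI h3, hS.fix_plane hI h3, ht _ h1,
      ht _ h6, rfx_inv]
  have hne : t ≠ 1 := by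
    rintro rfl
    have hex : ∀ m ∈ nons, ∃ d ∈ six, rfx m d ≠ d := by decide +kernel
    obtain ⟨d, hd, hne⟩ := hex m hm
    exact hne (ht d hd).symm
  have h16 := ISplit'.fix_six hS hI h2 hne
  have hsub : {v | v ∈ six.filter fun v => !bb v m} ⊆ fixV t ∩ sixV := by
    intro v hv
    have hv' := List.mem_filter.1 hv
    refine ⟨?_, hv'.1⟩
    show t v = v
    rw [ht v hv'.1, rfx, show bb v m = false by simpa using hv'.2]
    simp
  have h32 := Set.ncard_le_ncard hsub (Set.toFinite _)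
  have hn : (six.filter fun v => !bb v m).Nodup := by
    have : six.Nodup := by decide +kernel
    exact this.filter _
  have e : {v | v ∈ six.filter fun v => !bb v m}.ncard = 32 := by
    rw [← nons_perp_count m hm, ← List.toFinset_card_of_nodup hn, ← Set.ncard_coe_finset, List.coe_toFinset]
  omega

universe u'

variable {G : Type u'} [Group G] [Finite G] {z u : G}

/-- the isometries induced in case B -/
def rngB {x : G} (M : Coord x) : Rng where
  e := M.e
  R := M.π.range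
  I := M.π.range
  I_le := le_rfl
  iso := M.iso
  mul_mem_iff t ht s hs := iff_of_true (mul_mem ht hs) (iff_of_true ht hs)
  shape := M.shape_cases
  cent t ht h := by
    haveI := M.simple
    have hc : (⟨t, ht⟩ : ↥M.π.range) ∈ Subgroup.center ↥M.π.range :=
      mem_center_iff.2 fun g => Subtype.ext (h g g.2).symm
    rcases (inferInstance : (Subgroup.center ↥M.π.range).Normal).eq_bot_or_eq_top with e | e
    · rw [e, mem_bot] at hc
      exact congrArg Subtype.val hc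
    · letI : CommGroup ↥M.π.range :=
        { (inferInstance : Group ↥M.π.range) with
          mul_comm := fun a b => mem_center_iff.1 (e ▸ mem_top b : b ∈ Subgroup.center _) a }
      have hp := IsSimpleGroup.prime_card (α := ↥M.π.range)
      rw [M.card_img] at hp
      norm_num at hp
  semi _ _ t ht hI := absurd ht hI
  six_map hS t ht d hd := GS_six (hS.le ht) hd
  flip_six _ t ht hI := absurd ht hI

/-- the isometries induced in case A -/
def rngA {x : G} (M : ACoord x) : Rng where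
  e := M.e
  R := M.π.range
  I := M.I
  I_le := M.I_le
  iso := M.iso
  mul_mem_iff _ ht _ hs := M.mul_mem_I_iff ht hs
  shape := M.shape
  cent := M.cent
  semi he hN _ ht hI := M.nat_semi hN he ht hI
  six_map hS _ ht _ hd := M.split_six hS ht hd
  flip_six hS t ht hI m hm := by
    have hmem : rfP m ∈ (M.kap hS).range := by rw [M.kap_range hS]; exact rfP_mem true hm
    obtain ⟨τ, hτ⟩ := hmem
    have hsix : ∀ d ∈ six, (τ : Equiv.Perm W8) d = rfx m d := fun d hd => by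
      rw [← M.kap_six hS τ hd, hτ, rfP_apply]
    have hτI : (τ : Equiv.Perm W8) ∉ M.I := rfx_not_mem hS hm hsix
    refine ⟨(τ : Equiv.Perm W8)⁻¹ * t,
      (M.mul_mem_I_iff (inv_mem τ.2) ht).2 (iff_of_false (fun h => hτI (inv_mem_iff.1 h)) hI), fun d hd => ?_⟩
    have hi : ((τ : Equiv.Perm W8)⁻¹ * t) d ∈ six := by
      rw [Equiv.Perm.mul_apply]
      exact M.split_six hS (inv_mem τ.2) (M.split_six hS ht hd)
    rw [← hsix _ hi, Equiv.Perm.mul_apply, Equiv.Perm.inv_def, Equiv.apply_symm_apply]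

variable (F : Frame z u)

/-- coordinates of `x` read in the quotient -/
noncomputable def vecOf (M : Pre F.zX) (x : G) : W8 := by
  classical
  exact if h : x ∈ centralizer ({u} : Set G) then M.vec (pr u ⟨x, h⟩) else 0

/-- the permutation induced by `c` -/
noncomputable def imgOf (M : Pre F.zX) (c : G) : Equiv.Perm W8 := by
  classical
  exact if h : c ∈ cH z u then M.π (F.rho ⟨c, h⟩) else 1

theorem vecOf_eq (M : Pre F.zX) {x : G} (h : x ∈ centralizer ({u} : Set G)) :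
    vecOf F M x = M.vec (pr u ⟨x, h⟩) := by
  classical
  exact dif_pos h

theorem imgOf_eq (M : Pre F.zX) {c : G} (h : c ∈ cH z u) : imgOf F M c = M.π (F.rho ⟨c, h⟩) := by
  classical
  exact dif_pos h

/-- the standing data -/
noncomputable def mkCo (M : Pre F.zX) (R : Rng) (hR : R.R = M.π.range) (he : R.e = M.e)
    (hin : ∀ c, Commute c z → ¬ Commute c u → R.R = R.I) : Co z u where
  toRng := R
  zz := F.zz
  z_ne := F.z_ne
  uu := F.uu
  u_ne_one := F.u_ne_one
  u_ne := F.u_ne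
  comm_zu := F.comm_zu
  perm _ hc := F.perm hc
  not_conj := F.not_conj
  z_mem := F.z_mem
  u_mem := F.u_mem
  J_comm_u hx := F.u_cent _ hx
  card_J := F.card
  vec := vecOf F M
  img := imgOf F M
  vec_mul {x y} hx hy := by
    have hx' := (mem_inf.1 (F.J_le_cH hx)).2
    have hy' := (mem_inf.1 (F.J_le_cH hy)).2
    rw [vecOf_eq F M hx', vecOf_eq F M hy', vecOf_eq F M (mul_mem hx' hy')]
    rw [← M.vec_mul (F.mem_O2c_zX.2 ⟨⟨x, hx'⟩, hx, rfl⟩) (F.mem_O2c_zX.2 ⟨⟨y, hy'⟩, hy, rfl⟩), ← map_mul]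
    rfl
  vec_eq_zero {x} hx := by
    have hx' := (mem_inf.1 (F.J_le_cH hx)).2
    rw [vecOf_eq F M hx']
    constructor
    · intro h
      rcases M.vec_cases (F.mem_O2c_zX.2 ⟨⟨x, hx'⟩, hx, rfl⟩) h with e | e
      · rcases F.pr_eq_one.1 e with e | e
        exacts [Or.inl e, Or.inr (Or.inr (Or.inl e))]
      · rcases F.pr_eq.1 e.symm with e | e
        · exact Or.inr (Or.inl e)
        · exact Or.inr (Or.inr (Or.inr (e.trans F.comm_zu.eq.symm)))
    · intro h
      have h1 : M.vec (1 : QU u) = 0 := by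
        have := M.vec_mul (one_mem (O2c F.zX)) (one_mem (O2c F.zX))
        rw [mul_one] at this
        exact left_eq_add.1 this
      rcases h with e | e | e | e
      · rw [show pr u ⟨x, hx'⟩ = 1 from F.pr_eq_one.2 (Or.inl e), h1]
      · rw [show pr u ⟨x, hx'⟩ = F.zX from F.pr_eq.2 (Or.inl e.symm), M.vec_z]
      · rw [show pr u ⟨x, hx'⟩ = 1 from F.pr_eq_one.2 (Or.inr e), h1]
      · rw [show pr u ⟨x, hx'⟩ = F.zX from F.pr_eq.2 (Or.inr (by
          show z = x * u
          rw [e, mul_assoc, ← F.comm_zu.eq, ← mul_assoc, F.uu, one_mul])), M.vec_z]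
  surj v := by
    obtain ⟨y, hy, hv⟩ := M.surj v
    obtain ⟨c, hc, rfl⟩ := F.mem_O2c_zX.1 hy
    exact ⟨c, hc, (vecOf_eq F M c.2).trans hv⟩
  sq {x} hx := by
    have hx' := (mem_inf.1 (F.J_le_cH hx)).2
    rw [he, vecOf_eq F M hx']
    have h := M.sq (F.mem_O2c_zX.2 ⟨⟨x, hx'⟩, hx, rfl⟩)
    rw [← map_mul] at h
    rcases F.sq x hx with e | e
    · rw [show (⟨x, hx'⟩ * ⟨x, hx'⟩ : ↥(centralizer ({u} : Set G))) = 1 from Subtype.ext e, map_one] at h
      cases hq : qe M.e (M.vec (pr u ⟨x, hx'⟩)) <;> rw [hq] at h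
      · rw [e]; rfl
      · exact absurd h.symm F.zX_ne
    · rw [show (⟨x, hx'⟩ * ⟨x, hx'⟩ : ↥(centralizer ({u} : Set G))) = ⟨z, (mem_inf.1 F.z_mem_cH).2⟩ from
        Subtype.ext e] at h
      cases hq : qe M.e (M.vec (pr u ⟨x, hx'⟩)) <;> rw [hq] at h
      · exact absurd h F.zX_ne
      · rw [e]; rfl
  comm {x y} hx hy := by
    have hx' := (mem_inf.1 (F.J_le_cH hx)).2
    have hy' := (mem_inf.1 (F.J_le_cH hy)).2
    rw [vecOf_eq F M hx', vecOf_eq F M hy']
    have h := M.comm (F.mem_O2c_zX.2 ⟨⟨x, hx'⟩, hx, rfl⟩) (F.mem_O2c_zX.2 ⟨⟨y, hy'⟩, hy, rfl⟩)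
    rw [← map_mul, ← map_mul] at h
    rcases F.comm x hx y hy with e | e
    · rw [show (⟨x, hx'⟩ * ⟨y, hy'⟩ : ↥(centralizer ({u} : Set G))) = ⟨y, hy'⟩ * ⟨x, hx'⟩ from Subtype.ext e] at h
      cases hb : bb (M.vec (pr u ⟨x, hx'⟩)) (M.vec (pr u ⟨y, hy'⟩)) <;> rw [hb] at h
      · rw [e, zb_false, one_mul]
      · exact absurd (mul_eq_right.1 h.symm) F.zX_ne
    · rw [show (⟨x, hx'⟩ * ⟨y, hy'⟩ : ↥(centralizer ({u} : Set G))) =
        ⟨z, (mem_inf.1 F.z_mem_cH).2⟩ * (⟨y, hy'⟩ * ⟨x, hx'⟩) from Subtype.ext e, map_mul] at h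
      cases hb : bb (M.vec (pr u ⟨x, hx'⟩)) (M.vec (pr u ⟨y, hy'⟩)) <;> rw [hb] at h
      · rw [zb_false, one_mul] at h
        exact absurd (mul_eq_right.1 h) F.zX_ne
      · rw [e, zb_true]
  img_range t := by
    rw [hR]
    constructor
    · rintro ⟨y, rfl⟩
      obtain ⟨c, rfl⟩ := F.rho_surj y
      exact ⟨c, (mem_cH.1 c.2).1, (mem_cH.1 c.2).2, imgOf_eq F M c.2⟩
    · rintro ⟨c, hz, hu, rfl⟩
      exact ⟨_, (imgOf_eq F M (mem_cH.2 ⟨hz, hu⟩)).symm⟩
  img_mul {c d} h1 h2 h3 h4 := by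
    have hc := mem_cH.2 ⟨h1, h2⟩
    have hd := mem_cH.2 ⟨h3, h4⟩
    rw [imgOf_eq F M hc, imgOf_eq F M hd, imgOf_eq F M (mul_mem hc hd), ← map_mul, ← map_mul]
    rfl
  vec_conj {c x} h1 h2 hx := by
    have hc := mem_cH.2 ⟨h1, h2⟩
    have hx' := (mem_inf.1 (F.J_le_cH hx)).2
    have hcx : c * x * c⁻¹ ∈ centralizer ({u} : Set G) :=
      mul_mem (mul_mem (mem_cent.2 h2) hx') (inv_mem (mem_cent.2 h2))
    rw [imgOf_eq F M hc, vecOf_eq F M hx', vecOf_eq F M hcx,
      ← M.vec_conj (F.rho ⟨c, hc⟩) (F.mem_O2c_zX.2 ⟨⟨x, hx'⟩, hx, rfl⟩), F.rho_apply, ← map_inv, ← map_mul,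
      ← map_mul]
    rfl
  ker {c} h1 h2 := by
    have hc := mem_cH.2 ⟨h1, h2⟩
    rw [imgOf_eq F M hc, M.ker, ← F.rho_mem_pCore (c := ⟨c, hc⟩)]
    exact ⟨fun ⟨y, hy, e⟩ => (Subtype.ext e) ▸ hy, fun h => ⟨_, h, rfl⟩⟩
  inner_only := hin

end Cfsg.Agent.FiTwentyTwoByTwo
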