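import Cfsg.Agent.Lib.ThreeTransp.U62Cover.Data

/-!
# The classes of the large elementary abelian subgroup against a central involution
-/

set_option autoImplicit false
set_option linter.unusedSectionVars false

namespace Cfsg.Agent.FiTwentyTwoByTwo.Classes

open Subgroup
open Cfsg.Agent.ThreeTransp.U62Cover (Data classSize)

variable {Q : Type*} [Group Q] [Finite Q] (D : Data Q)

include D

/-- The Sylow subgroup as such. -/
theorem exists_sylow_eq : ∃ P : Sylow 2 Q, (P : Subgroup Q) = D.S := by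
  haveI : Fact (Nat.Prime 2) := ⟨Nat.prime_two⟩
  exact ⟨(IsPGroup.of_card (p := 2) (n := 15) (by rw [D.S_card])).toSylow D.S_odd, rfl⟩

/-- A subgroup of the order of a Sylow 2-subgroup is conjugate to it. -/
theorem conj_S {P : Subgroup Q} (hP : Nat.card ↥P = 2 ^ 15) :
    ∃ g : Q, ∀ x, x ∈ P ↔ g⁻¹ * x * g ∈ D.S := by
  haveI : Fact (Nat.Prime 2) := ⟨Nat.prime_two⟩
  obtain ⟨T, hT⟩ := (IsPGroup.of_card (p := 2) hP).exists_le_sylow
  obtain ⟨S₀, hS₀⟩ := exists_sylow_eq D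
  obtain ⟨g, hg⟩ := MulAction.exists_smul_eq Q S₀ T
  have hPT : P = (T : Subgroup Q) := eq_of_le_of_card_ge hT (by
    rw [Sylow.card_eq_multiplicity, hP, ← D.S_card, ← hS₀, Sylow.card_eq_multiplicity])
  refine ⟨g, fun x => ?_⟩
  rw [hPT, ← hg, ← hS₀]
  show x ∈ ((S₀ : Subgroup Q).map (MulAut.conj g).toMonoidHom) ↔ _
  rw [mem_map_equiv]
  simp [mul_assoc]

/-- A large elementary abelian subgroup is conjugate to `E`. -/
theorem conj_E {B : Subgroup Q} (hsq : ∀ x ∈ B, x * x = 1) (hc : 512 ≤ Nat.card ↥B) :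
    ∃ g : Q, ∀ x, x ∈ B ↔ g⁻¹ * x * g ∈ D.E := by
  haveI : Fact (Nat.Prime 2) := ⟨Nat.prime_two⟩
  obtain ⟨T, hT⟩ := (IsPGroup.of_bot (p := 2) : IsPGroup 2 ↥(⊥ : Subgroup Q)).exists_le_sylow
  clear hT T
  have hBp : IsPGroup 2 ↥B := fun x => ⟨1, by
    rw [pow_one, pow_two]; exact Subtype.ext (hsq x x.2)⟩
  obtain ⟨T, hT⟩ := hBp.exists_le_sylow
  obtain ⟨S₀, hS₀⟩ := exists_sylow_eq D
  obtain ⟨g, hg⟩ := MulAction.exists_smul_eq Q S₀ T
  have hmem : ∀ x ∈ B, g⁻¹ * x * g ∈ D.S := fun x hx => by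
    have h1 : x ∈ (T : Subgroup Q) := hT hx
    rw [← hg] at h1
    change x ∈ ((S₀ : Subgroup Q).map (MulAut.conj g).toMonoidHom) at h1
    rw [mem_map_equiv, hS₀] at h1
    simpa [mul_assoc] using h1
  have hE : B.map (MulAut.conj g⁻¹).toMonoidHom = D.E := by
    refine D.max _ ?_ ?_ ?_
    · rintro _ ⟨x, hx, rfl⟩
      simpa using hmem x hx
    · rintro _ ⟨x, hx, rfl⟩
      rw [← map_mul, hsq x hx, map_one]
    · rwa [card_map_of_injective (MulAut.conj g⁻¹).injective]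
  refine ⟨g, fun x => ?_⟩
  rw [← hE, mem_map_equiv]
  simp [mul_assoc]

/-- The Sylow subgroup normalises `E`. -/
theorem S_norm {s : Q} (hs : s ∈ D.S) {x : Q} (hx : x ∈ D.E) : s * x * s⁻¹ ∈ D.E := by
  have h : D.E.map (MulAut.conj s).toMonoidHom = D.E := by
    refine D.max _ ?_ ?_ ?_
    · rintro _ ⟨e, he, rfl⟩
      exact mul_mem (mul_mem hs (D.E_le he)) (inv_mem hs)
    · rintro _ ⟨e, he, rfl⟩
      rw [← map_mul, D.E_sq e he, map_one]
    · rw [card_map_of_injective (MulAut.conj s).injective, D.E_card]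
  exact h ▸ mem_map_of_mem _ hx

theorem E_comm {x y : Q} (hx : x ∈ D.E) (hy : y ∈ D.E) : x * y = y * x := by
  have h1 := inv_eq_of_mul_eq_one_right (D.E_sq x hx)
  have h2 := inv_eq_of_mul_eq_one_right (D.E_sq y hy)
  have h3 := inv_eq_of_mul_eq_one_right (D.E_sq _ (mul_mem hx hy))
  rw [← h3, _root_.mul_inv_rev, h1, h2]

/-- Conjugate elements of `E` are conjugate in its normaliser. -/
theorem fusion {x y g : Q} (hx : x ∈ D.E) (hy : y ∈ D.E) (hg : g * x * g⁻¹ = y) :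
    ∃ n : Q, (∀ e ∈ D.E, n * e * n⁻¹ ∈ D.E) ∧ n * x * n⁻¹ = y := by
  haveI : Fact (Nat.Prime 2) := ⟨Nat.prime_two⟩
  set Cy := centralizer ({y} : Set Q) with hCy
  set B := D.E.map (MulAut.conj g).toMonoidHom with hB
  have hBC : B ≤ Cy := by
    rintro _ ⟨e, he, rfl⟩
    refine mem_centralizer_singleton_iff.2 ?_
    rw [← hg, show (MulAut.conj g).toMonoidHom e = g * e * g⁻¹ from rfl]
    calc g * e * g⁻¹ * (g * x * g⁻¹) = g * (e * x) * g⁻¹ := by group
      _ = g * (x * e) * g⁻¹ := by rw [E_comm D he hx]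
      _ = _ := by group
  have hEC : D.E ≤ Cy := fun e he => mem_centralizer_singleton_iff.2 (E_comm D he hy)
  have hp : ∀ {A : Subgroup Q}, Nat.card ↥A = 512 → A ≤ Cy → ∃ P : Sylow 2 ↥Cy, A.subgroupOf Cy ≤ P := by
    intro A hA hAC
    exact ((IsPGroup.of_card (p := 2) (n := 9) (by rw [hA]; norm_num)).of_equiv
      (subgroupOfEquivOfLe hAC).symm).exists_le_sylow
  obtain ⟨P, hP⟩ := hp D.E_card hEC
  obtain ⟨P', hP'⟩ := hp (A := B) (by rw [hB, card_map_of_injective (MulAut.conj g).injective, D.E_card]) hBC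
  obtain ⟨c, hc⟩ := MulAction.exists_smul_eq ↥Cy P' P
  set n := (c : Q) * g with hn
  have hnB : ∀ e ∈ D.E, n * e * n⁻¹ ∈ (P : Subgroup ↥Cy).map Cy.subtype := fun e he => by
    have hb : g * e * g⁻¹ ∈ B := mem_map_of_mem _ he
    have h1 : (⟨g * e * g⁻¹, hBC hb⟩ : ↥Cy) ∈ (P' : Subgroup ↥Cy) := hP' hb
    refine ⟨c * ⟨g * e * g⁻¹, hBC hb⟩ * c⁻¹, ?_, ?_⟩
    · rw [← hc]
      exact ⟨_, h1, rfl⟩
    · simp [hn, mul_assoc]
  obtain ⟨T, hT⟩ := (P.isPGroup'.map Cy.subtype).exists_le_sylow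
  obtain ⟨S₀, hS₀⟩ := exists_sylow_eq D
  obtain ⟨h, hh⟩ := MulAction.exists_smul_eq Q T S₀
  have hmove : ∀ {z : Q}, z ∈ (P : Subgroup ↥Cy).map Cy.subtype → h * z * h⁻¹ ∈ D.S := fun {z} hz => by
    rw [← hS₀, ← hh]
    exact ⟨z, hT hz, rfl⟩
  have e1 : D.E.map (MulAut.conj h).toMonoidHom = D.E := by
    refine D.max _ ?_ ?_ ?_
    · rintro _ ⟨e, he, rfl⟩
      exact hmove ⟨⟨e, hEC he⟩, hP he, rfl⟩
    · rintro _ ⟨e, he, rfl⟩
      rw [← map_mul, D.E_sq e he, map_one]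
    · rw [card_map_of_injective (MulAut.conj h).injective, D.E_card]
  have e2 : D.E.map (MulAut.conj (h * n)).toMonoidHom = D.E := by
    refine D.max _ ?_ ?_ ?_
    · rintro _ ⟨e, he, rfl⟩
      have := hmove (hnB e he)
      simpa [mul_assoc] using this
    · rintro _ ⟨e, he, rfl⟩
      rw [← map_mul, D.E_sq e he, map_one]
    · rw [card_map_of_injective (MulAut.conj (h * n)).injective, D.E_card]
  refine ⟨n, fun e he => ?_, ?_⟩
  · have h1 : h * (n * e * n⁻¹) * h⁻¹ ∈ D.E := by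
      exact e2 ▸ ⟨e, he, by simp [mul_assoc]⟩
    obtain ⟨e', he', e''⟩ : _ ∈ D.E.map (MulAut.conj h).toMonoidHom := e1.symm ▸ h1
    have : e' = n * e * n⁻¹ := (MulAut.conj h).injective e''
    exact this ▸ he'
  · have hcy : (c : Q) * y * (c : Q)⁻¹ = y := by
      rw [mem_centralizer_singleton_iff.1 c.2, mul_inv_cancel_right]
    calc n * x * n⁻¹ = (c : Q) * (g * x * g⁻¹) * (c : Q)⁻¹ := by rw [hn]; group
      _ = y := by rw [hg, hcy]

variable {ζ : Q} (hζ2 : ζ * ζ = 1) (hζ1 : ζ ≠ 1) {J P : Subgroup Q} (hJP : J ≤ P) (hJn : ∀ p ∈ P, ∀ j ∈ J, p * j * p⁻¹ ∈ J)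
  (hJ : Nat.card ↥J = 512) (hP : Nat.card ↥P = 2 ^ 15) (hPz : ∀ p ∈ P, p * ζ = ζ * p)
  (hcent : ∀ x, (∀ j ∈ J, x * j = j * x) → x = 1 ∨ x = ζ)

include hζ2 hζ1 hJP hJn hJ hP hPz hcent

omit hJn hJ in
/-- The class of 21 consists of conjugates of the central involution. -/
theorem O_zero_conj : ∀ r ∈ D.O 0, ∃ g : Q, g * ζ * g⁻¹ = r := by
  classical
  haveI : Fact (Nat.Prime 2) := ⟨Nat.prime_two⟩
  -- an element of `E` fixed by the Sylow subgroup
  letI : MulAction ↥D.S ↥D.E :=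
    { smul := fun s e => ⟨s * e * (s : Q)⁻¹, S_norm D s.2 e.2⟩
      one_smul := fun e => Subtype.ext (by show (1 : Q) * e * (1 : Q)⁻¹ = e; group)
      mul_smul := fun s t e => Subtype.ext (by
        show ((s * t : ↥D.S) : Q) * e * ((s * t : ↥D.S) : Q)⁻¹ = (s : Q) * ((t : Q) * e * (t : Q)⁻¹) * (s : Q)⁻¹
        simp [mul_assoc]) }
  obtain ⟨r0, hfix, hne⟩ := (IsPGroup.of_card (p := 2) (n := 15) (by rw [D.S_card]) :
      IsPGroup 2 ↥D.S).exists_fixed_point_of_prime_dvd_card_of_fixed_point ↥D.E (by rw [D.E_card]; norm_num)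
    (a := 1) (fun s => Subtype.ext (by show (s : Q) * (1 : Q) * (s : Q)⁻¹ = 1; group))
  have hr0 : ∀ s ∈ D.S, s * (r0 : Q) * s⁻¹ = r0 := fun s hs => congrArg Subtype.val (hfix ⟨s, hs⟩)
  obtain ⟨g, hg⟩ := conj_S D hP
  have hgr : g * (r0 : Q) * g⁻¹ = ζ := by
    refine ((hcent _ fun j hj => ?_).resolve_left fun e => hne (Subtype.ext (conj_eq_one_iff.1 e).symm))
    have h1 := hr0 _ ((hg j).1 (hJP hj))
    calc g * (r0 : Q) * g⁻¹ * j = g * ((r0 : Q) * (g⁻¹ * j * g)) * g⁻¹ := by group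
      _ = g * ((g⁻¹ * j * g) * (r0 : Q)) * g⁻¹ := by rw [mul_inv_eq_iff_eq_mul.1 h1]
      _ = _ := by group
  -- its class in `E`
  set O : Set Q := {x | x ∈ D.E ∧ ∃ c : Q, c * (r0 : Q) * c⁻¹ = x} with hO
  suffices h : ∃ r ∈ D.O 0, r ∈ O by
    obtain ⟨r, hr, -, c, hc⟩ := h
    intro r' hr'
    obtain ⟨n, -, hn⟩ := D.O_trans 0 r hr r' hr'
    refine ⟨n * c * g⁻¹, ?_⟩
    rw [← hn, ← hc, ← hgr]
    group
  -- that class has odd size
  let N : Subgroup Q := normalizer (D.E : Set Q)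
  have hN : ∀ {n}, (∀ e ∈ D.E, n * e * n⁻¹ ∈ D.E) → n ∈ N := fun {n} h => by
    refine mem_normalizer_iff.2 fun x => ⟨h x, fun hx => ?_⟩
    obtain ⟨⟨y, hy⟩, e⟩ := Finite.surjective_of_injective
      (f := fun y : ↥D.E => (⟨n * y * n⁻¹, h y y.2⟩ : ↥D.E))
      (fun a b e => Subtype.ext (mul_left_cancel (mul_right_cancel (congrArg Subtype.val e)))) ⟨_, hx⟩
    have : y = x := mul_left_cancel (mul_right_cancel (congrArg Subtype.val e))
    exact this ▸ hy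
  have hSN : D.S ≤ N := fun s hs => hN fun e he => S_norm D hs he
  let St : Subgroup ↥N := (centralizer ({(r0 : Q)} : Set Q)).subgroupOf N
  have hOcard : O.ncard = St.index := by
    rw [index, ← Nat.card_coe_set_eq]
    refine (Nat.card_eq_of_bijective (Quotient.lift
      (fun n : ↥N => (⟨(n : Q) * r0 * (n : Q)⁻¹, (mem_normalizer_iff.1 n.2 _).1 r0.2, n, rfl⟩ : ↥O)) ?_) ⟨?_, ?_⟩).symm
    · intro a b hab
      have h1 : (a : Q)⁻¹ * b * r0 = r0 * ((a : Q)⁻¹ * b) :=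
        mem_centralizer_singleton_iff.1 (mem_subgroupOf.1
          (QuotientGroup.leftRel_apply.1 (show (QuotientGroup.leftRel St) a b from hab) : a⁻¹ * b ∈ St))
      refine Subtype.ext ?_
      calc (a : Q) * r0 * (a : Q)⁻¹ = (a : Q) * (r0 * ((a : Q)⁻¹ * b)) * (b : Q)⁻¹ := by group
        _ = _ := by rw [← h1]; group
    · rintro ⟨a⟩ ⟨b⟩ e
      refine Quotient.sound (QuotientGroup.leftRel_apply.2 (mem_centralizer_singleton_iff.2 ?_))
      have e' : (a : Q) * r0 * (a : Q)⁻¹ = (b : Q) * r0 * (b : Q)⁻¹ := congrArg Subtype.val e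
      calc ((a⁻¹ * b : ↥N) : Q) * r0 = (a : Q)⁻¹ * ((b : Q) * r0 * (b : Q)⁻¹) * b := by
            simp [mul_assoc]
        _ = _ := by rw [← e']; simp [mul_assoc]
    · rintro ⟨x, hx, c, hc⟩
      obtain ⟨n, hn, hnx⟩ := fusion D r0.2 hx hc
      exact ⟨Quotient.mk _ ⟨n, hN hn⟩, Subtype.ext hnx⟩
  have hodd : ¬ 2 ∣ O.ncard := by
    intro h2
    refine D.S_odd ?_
    rw [← relIndex_mul_index hSN]
    refine dvd_mul_of_dvd_left (h2.trans ?_) _
    rw [hOcard]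
    exact index_dvd_of_le fun s hs => mem_subgroupOf.2 (mem_centralizer_singleton_iff.2
      (mul_inv_eq_iff_eq_mul.1 (hr0 s hs)))
  by_contra hcon
  push Not at hcon
  have hall : ∀ i, (D.O i ∩ O).Nonempty → D.O i ⊆ O := by
    rintro i ⟨r, hr, -, c, hc⟩ x hx
    obtain ⟨n, -, hn⟩ := D.O_trans i r hr x hx
    exact ⟨(D.O_sub i x hx).1, n * c, by rw [← hn, ← hc]; group⟩
  have hsub : O ⊆ D.O 1 ∪ D.O 2 := fun x hx => by
    obtain ⟨hxE, c, hc⟩ := hx
    obtain ⟨i, hi⟩ := D.O_cover x hxE fun e => hne (Subtype.ext (conj_eq_one_iff.1 (hc.trans e)).symm)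
    fin_cases i
    · exact absurd ⟨hxE, c, hc⟩ (hcon x hi)
    · exact Or.inl hi
    · exact Or.inr hi
  have hsplit : O.ncard = (O ∩ D.O 1).ncard + (O ∩ D.O 2).ncard := by
    rw [← Set.ncard_union_eq ((D.O_disj 1 2 (by decide)).mono Set.inter_subset_right Set.inter_subset_right),
      ← Set.inter_union_distrib_left, Set.inter_eq_left.2 hsub]
  have hval : ∀ i, (O ∩ D.O i).ncard = 0 ∨ (O ∩ D.O i).ncard = classSize i := fun i => by
    by_cases h : (D.O i ∩ O).Nonempty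
    · right; rw [Set.inter_eq_right.2 (hall i h), D.O_card]
    · left; rw [Set.inter_comm, Set.not_nonempty_iff_eq_empty.1 h, Set.ncard_empty]
  refine hodd ?_
  rw [hsplit]
  rcases hval 1 with h1 | h1 <;> rcases hval 2 with h2 | h2 <;> rw [h1, h2] <;> simp [classSize]

/-- Some other class lies in conjugates of the core. -/
theorem O_in_core (hcore : ∀ x ∈ J, ∀ g : Q, g * ζ * g⁻¹ = x → x = ζ) :
    ∃ i, i ≠ 0 ∧ ∀ r ∈ D.O i, ∃ g : Q, g * r * g⁻¹ ∈ J := by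
  classical
  obtain ⟨g, hg⟩ := conj_S D hP
  set E' := D.E.map (MulAut.conj g).toMonoidHom with hE'
  have hE'P : E' ≤ P := by
    rintro _ ⟨e, he, rfl⟩
    refine (hg _).2 ?_
    simpa [mul_assoc] using D.E_le he
  -- the intersection with the core
  haveI hn : (J.subgroupOf P).Normal := ⟨fun n hn q => mem_subgroupOf.2 (by
    simpa using hJn q q.2 n (mem_subgroupOf.1 hn))⟩
  set π := (QuotientGroup.mk' (J.subgroupOf P)).comp (inclusion hE'P) with hπ
  have hk : 8 ≤ Nat.card ↥(E' ⊓ J) := by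
    have e1 := π.ker.card_mul_index
    rw [index_ker, card_map_of_injective (MulAut.conj g).injective, D.E_card] at e1
    have e2 : Nat.card ↥π.range ≤ 64 := by
      refine (Nat.card_le_card_of_injective _ Subtype.val_injective).trans ?_
      have e3 := (J.subgroupOf P).card_mul_index
      rw [Nat.card_congr (subgroupOfEquivOfLe hJP).toEquiv, hJ, hP] at e3
      show (J.subgroupOf P).index ≤ 64
      omega
    have e4 : Nat.card ↥π.ker = Nat.card ↥(E' ⊓ J) := Nat.card_congr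
      { toFun := fun x => ⟨(x : ↥E'), x.1.2, mem_subgroupOf.1 ((QuotientGroup.eq_one_iff (inclusion hE'P x.1)).1 x.2)⟩
        invFun := fun x => ⟨⟨x, x.2.1⟩, (QuotientGroup.eq_one_iff _).2 (mem_subgroupOf.2 x.2.2)⟩
        left_inv := fun _ => rfl
        right_inv := fun _ => rfl }
    rw [e4] at e1
    nlinarith
  obtain ⟨x, ⟨hxE, hxJ⟩, hx1, hxζ⟩ : ∃ x ∈ E' ⊓ J, x ≠ 1 ∧ x ≠ ζ := by
    by_contra hcon
    push Not at hcon
    have hsub : ((E' ⊓ J : Subgroup Q) : Set Q) ⊆ {1, ζ} := fun x hx => by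
      by_cases h : x = 1
      · exact Or.inl h
      · exact Or.inr (hcon x hx h)
    have := Set.ncard_le_ncard hsub (Set.toFinite _)
    rw [Set.ncard_pair (Ne.symm hζ1), ← Nat.card_coe_set_eq] at this
    have h8 : 8 ≤ 2 := hk.trans this
    omega
  obtain ⟨e, he, rfl⟩ := hxE
  obtain ⟨i, hi⟩ := D.O_cover e he fun h => hx1 (by rw [h, map_one])
  refine ⟨i, fun h0 => hxζ ?_, fun r hr => ?_⟩
  · obtain ⟨c, hc⟩ := O_zero_conj D hζ2 hζ1 hJP hP hPz hcent e (h0 ▸ hi)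
    exact hcore _ hxJ (g * c) (by show _ = g * e * g⁻¹; rw [← hc]; group)
  · obtain ⟨n, -, hn⟩ := D.O_trans i r hr e hi
    refine ⟨g * n, ?_⟩
    rw [show g * n * r * (g * n)⁻¹ = g * (n * r * n⁻¹) * g⁻¹ by group, hn]
    exact hxJ

end Cfsg.Agent.FiTwentyTwoByTwo.Classes
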