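import Cfsg.Agent.Lib.FiTwentyTwoByTwo.CaseASemi

/-!
# An outer involution does not centralise a large elementary abelian subgroup of the simple half
-/

set_option autoImplicit false
set_option linter.unusedSectionVars false

namespace Cfsg.Agent.FiTwentyTwoByTwo

open Subgroup Cfsg.Agent.ThreeTransp.U62Cent Cfsg.Agent.ThreeTransp.U62Cent.W8

universe u'

variable {G : Type u'} [Group G] [Finite G] {z : G} (M : ACoord z)

include M

theorem outer_small (he : M.e = true) (hN : INat M.I) {X₀ : Subgroup G}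
    (hinf : X₀ ⊓ centralizer ({z} : Set G) = M.inner) {t : G} (ht2 : t * t = 1) (htz : Commute t z) (htX : t ∉ X₀)
    {B : Subgroup G} (hBX : B ≤ X₀) (hBz : ∀ b ∈ B, Commute b z) (hBt : ∀ b ∈ B, Commute b t)
    (hBsq : ∀ b ∈ B, b * b = 1) (hBcom : ∀ a ∈ B, ∀ b ∈ B, Commute a b) : Nat.card ↥B < 256 := by
  classical
  set τ := M.img t with hτ
  have hτI : τ ∉ M.I := fun h => htX (hinf.ge (M.mem_inner.2 ⟨htz, h⟩)).1
  have hτ2 : τ * τ = 1 := by rw [hτ, ← M.img_mul htz htz, ht2, M.img_J (one_mem _)]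
  have hS := M.nat_semi_struct hN he (M.img_mem t) hτI hτ2
  set B' := B.subgroupOf (centralizer ({z} : Set G)) with hB'
  set R := B'.map M.π with hR
  have hmem : ∀ {r}, r ∈ R → ∃ b ∈ B, Commute b z ∧ M.img b = r := by
    rintro r ⟨c, hc, rfl⟩
    exact ⟨c, hc, mem_cent.1 c.2, M.img_eq c.2⟩
  have hRI : R ≤ M.I := fun r hr => by
    obtain ⟨b, hb, hbz, rfl⟩ := hmem hr
    exact (M.mem_inner.1 (hinf.le ⟨hBX hb, mem_cent.2 hbz⟩)).2
  have hRG : R ≤ GN := hRI.trans hN.le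
  have hc : ∀ r ∈ R, ∀ v, r (τ v) = τ (r v) := fun r hr v => by
    obtain ⟨b, hb, hbz, rfl⟩ := hmem hr
    show (M.img b * M.img t) v = (M.img t * M.img b) v
    rw [← M.img_mul hbz htz, ← M.img_mul htz hbz, (hBt b hb).eq]
  have hexp : ∀ r ∈ R, r * r = 1 := fun r hr => by
    obtain ⟨b, hb, hbz, rfl⟩ := hmem hr
    rw [← M.img_mul hbz hbz, hBsq b hb, M.img_J (one_mem _)]
  have hcom : ∀ r ∈ R, ∀ s ∈ R, r * s = s * r := fun r hr s hs => by
    obtain ⟨a, ha, haz, rfl⟩ := hmem hr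
    obtain ⟨b, hb, hbz, rfl⟩ := hmem hs
    rw [← M.img_mul haz hbz, ← M.img_mul hbz haz, (hBcom a ha b hb).eq]
  set W := fixG hS.add hRG with hW
  have hker : Nat.card ↥(B ⊓ O2c z) ≤ 2 * Nat.card ↥W := by
    refine le_trans (M.card_le_two_mul (S := B ⊓ O2c z) inf_le_right (F := (W : Set W8)) fun y hy => ?_)
      (le_of_eq (congrArg (2 * ·) (Nat.card_coe_set_eq _).symm))
    refine mem_fixG.2 ⟨M.fix_of_commute htz hy.2 (hBt y hy.1).symm, fun r hr => ?_⟩
    obtain ⟨b, hb, hbz, rfl⟩ := hmem hr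
    exact M.fix_of_commute hbz hy.2 (hBcom b hb y hy.1)
  have hcard : Nat.card ↥B = Nat.card ↥(B ⊓ O2c z) * Nat.card ↥R := by
    have e1 := (M.π.comp B'.subtype).ker.card_mul_index
    rw [index_ker, MonoidHom.range_comp, range_subtype, ← hR,
      Nat.card_congr (subgroupOfEquivOfLe (fun b hb => mem_cent.2 (hBz b hb) : B ≤ centralizer ({z} : Set G))).toEquiv] at e1
    rw [← e1]
    congr 1
    exact Nat.card_congr
      { toFun := fun c => ⟨((c : ↥B') : ↥(centralizer ({z} : Set G))), c.1.2,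
          (M.ker _).1 c.2⟩
        invFun := fun b => ⟨⟨⟨b, mem_cent.2 (hBz b b.2.1)⟩, b.2.1⟩, (M.ker _).2 b.2.2⟩
        left_inv := fun _ => rfl
        right_inv := fun _ => rfl }
  rw [hcard]
  by_cases h8 : 8 ≤ Nat.card ↥W
  · have h2 := SemiAct.card_le_two hS hRG hc (U := W) le_rfl h8
    have h16 : Nat.card ↥W ≤ 16 :=
      (AddSubgroup.card_le_of_le (SemiAct.fixG_le hS hRG)).trans_eq (SemiAct.card_fix hS)
    nlinarith
  · have h16 := semi_card_le hS hRG hc hexp hcom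
    nlinarith

end Cfsg.Agent.FiTwentyTwoByTwo
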