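import Cfsg.Agent.Lib.FiTwentyTwoByTwo.Types

/-!
# Assembly of the three alternatives
-/

set_option autoImplicit false
set_option linter.unusedSectionVars false

namespace Cfsg.Agent.FiTwentyTwoByTwo

open Subgroup Cfsg.Agent.ThreeTransp.U62Cent
open scoped commutatorElement

universe u' v w

variable {G : Type u'} [Group G] [Finite G] {z u : G}

namespace Frame

variable (F : Frame z u)

include F

theorem orderOf_u : orderOf u = 2 := orderOf_eq_prime (by rw [pow_two]; exact F.uu) F.u_ne_one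

theorem orderOf_uz : orderOf (u * z) = 2 :=
  orderOf_eq_prime (by rw [pow_two]; exact F.uz_sq) F.swap.u_ne_one

/-- the hypotheses of the U-type piece of case B -/
theorem fi22_hyps (hB : ∃ c, Commute c z ∧ ¬ Commute c u) (hc : Nat.card ↥(cH z u) = 26542080) :
    (∃ hxC : u * z ∈ centralizer ({u} : Set G),
      ((⟨u * z, hxC⟩ : ↥(centralizer ({u} : Set G))) * ⟨u, mem_cent.2 (Commute.refl u)⟩) ∈
        commutator ↥(centralizer ({u} : Set G))) ∧
      u * z ≠ u ∧ IsConj u (u * z) ∧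
      Nat.card ↥(centralizer ({u, u * z} : Set G)) = 26542080 ∧
      ∀ g, Commute g (u * z * u) → g * u * g⁻¹ = u ∨ g * u * g⁻¹ = u * z := by
  have hxd : u * z * u = z := by rw [F.comm_zu.eq, mul_assoc, F.uu, mul_one]
  refine ⟨?_, fun e => F.z_ne (mul_eq_left.1 e), ?_, ?_, fun g hg => F.perm (hxd ▸ hg)⟩
  · refine ⟨mem_cent.2 ((Commute.refl u).mul_left F.comm_zu.symm), ?_⟩
    obtain ⟨x, hx, y, hy, hxy⟩ := F.exists_comm
    have h : ⁅(⟨x, mem_cent.2 (F.u_cent x hx)⟩ : ↥(centralizer ({u} : Set G))), ⟨y, mem_cent.2 (F.u_cent y hy)⟩⁆ ∈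
        commutator ↥(centralizer ({u} : Set G)) := commutator_mem_commutator (mem_top _) (mem_top _)
    convert h using 1
    refine Subtype.ext ?_
    show u * z * u = ⁅x, y⁆
    rw [hxd, commutatorElement_def, hxy]; group
  · obtain ⟨c, hcz, hcu⟩ := hB
    exact isConj_iff.2 ⟨c, (F.perm hcz).resolve_left fun e => hcu (mul_inv_eq_iff_eq_mul.1 e)⟩
  · rw [← hc]
    congr 1
    have e : centralizer ({u, u * z} : Set G) = cH z u := by
      ext g
      rw [mem_cH, mem_centralizer_iff]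
      constructor
      · intro h
        have h1 : Commute g u := (h u (Set.mem_insert _ _)).symm
        have h2 : Commute g (u * z) := (h _ (Set.mem_insert_of_mem _ rfl)).symm
        refine ⟨?_, h1⟩
        have := h1.mul_right h2
        rwa [← mul_assoc, F.uu, one_mul] at this
      · rintro ⟨h1, h2⟩ y (rfl | rfl)
        exacts [h2.symm.eq, (h2.mul_right h1).symm.eq]
    rw [e]

/-- the hypotheses of the U-type piece of case A -/
theorem caseA_hyps {K : Type w} [Field K] [Fintype K] (h : ∃ X₀ : Subgroup (QU u), X₀.index = 2 ∧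
      Nonempty (↥X₀ ≃* Cfsg.PSU 6 K 2) ∧ centralizer (X₀ : Set (QU u)) = ⊥) :
    ∃ (C0 : Subgroup G) (_ : u ∈ C0) (_ : C0 ≤ centralizer ({u} : Set G))
      (_ : C0.relIndex (centralizer ({u} : Set G)) = 2) (_ : ((zpowers u).subgroupOf C0).Normal),
      Nonempty (↥C0 ⧸ (zpowers u).subgroupOf C0 ≃* Cfsg.PSU 6 K 2) ∧
      ∀ c, Commute c u → (∀ x ∈ C0, c * x * c⁻¹ * x⁻¹ ∈ zpowers u) → c ∈ zpowers u := by
  obtain ⟨X₀, hidx, ⟨eX⟩, hcent⟩ := h
  set C0 := (X₀.comap (pr u)).map (centralizer ({u} : Set G)).subtype with hC0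
  have hmem : ∀ {c : G}, c ∈ C0 ↔ ∃ h : c ∈ centralizer ({u} : Set G), pr u ⟨c, h⟩ ∈ X₀ := fun {c} =>
    ⟨fun ⟨d, hd, e⟩ => e ▸ ⟨d.2, hd⟩, fun ⟨h, hc⟩ => ⟨⟨c, h⟩, hc, rfl⟩⟩
  have hu : u ∈ C0 := hmem.2 ⟨mem_cent.2 (Commute.refl u), by rw [F.pr_eq_one.2 (Or.inr rfl)]; exact one_mem _⟩
  have hle : C0 ≤ centralizer ({u} : Set G) := map_subtype_le _
  have hn : ((zpowers u).subgroupOf C0).Normal := ⟨fun n hn g => mem_subgroupOf.2 (by
    obtain ⟨k, hk⟩ := mem_zpowers_iff.1 (mem_subgroupOf.1 hn)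
    have hg : Commute (g : G) ((n : G)) := hk ▸ (mem_cent.1 (hle g.2)).zpow_right k
    simp only [coe_mul, InvMemClass.coe_inv]
    rw [hg.eq, mul_inv_cancel_right]
    exact mem_subgroupOf.1 hn)⟩
  refine ⟨C0, hu, hle, ?_, hn, ?_, fun c hc hcom => ?_⟩
  · show (C0.subgroupOf (centralizer ({u} : Set G))).index = 2
    rw [show C0.subgroupOf (centralizer ({u} : Set G)) = X₀.comap (pr u) from
      comap_map_eq_self_of_injective (subtype_injective _) _, index_comap_of_surjective _ (QuotientGroup.mk'_surjective _),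
      hidx]
  · let f : ↥C0 →* ↥X₀ :=
      { toFun := fun x => ⟨pr u ⟨x, hle x.2⟩, (hmem.1 x.2).2⟩
        map_one' := Subtype.ext (map_one (pr u))
        map_mul' := fun a b => Subtype.ext (map_mul (pr u) ⟨a, hle a.2⟩ ⟨b, hle b.2⟩) }
    have hf : Function.Surjective f := by
      rintro ⟨y, hy⟩
      obtain ⟨c, rfl⟩ := QuotientGroup.mk'_surjective _ y
      exact ⟨⟨c, hmem.2 ⟨c.2, hy⟩⟩, rfl⟩
    have hker : (zpowers u).subgroupOf C0 = f.ker := by
      ext x
      rw [MonoidHom.mem_ker, ← Subtype.coe_inj, mem_subgroupOf]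
      show (x : G) ∈ zpowers u ↔ pr u ⟨x, hle x.2⟩ = 1
      rw [QuotientGroup.mk'_apply, QuotientGroup.eq_one_iff, mem_subgroupOf]
    exact ⟨((QuotientGroup.quotientMulEquivOfEq hker).trans
      (QuotientGroup.quotientKerEquivOfSurjective f hf)).trans eX⟩
  · have hcC : c ∈ centralizer ({u} : Set G) := mem_cent.2 hc
    have h1 : pr u ⟨c, hcC⟩ ∈ centralizer (X₀ : Set (QU u)) := by
      refine mem_centralizer_iff.2 fun y hy => ?_
      obtain ⟨d, rfl⟩ := QuotientGroup.mk'_surjective _ y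
      have hd : (d : G) ∈ C0 := hmem.2 ⟨d.2, hy⟩
      have h2 : pr u (⟨c, hcC⟩ * d * ⟨c, hcC⟩⁻¹ * d⁻¹) = 1 := by
        rw [QuotientGroup.mk'_apply, QuotientGroup.eq_one_iff, mem_subgroupOf]
        exact hcom d hd
      rw [map_mul, map_mul, map_mul, map_inv, map_inv, mul_inv_eq_one, mul_inv_eq_iff_eq_mul] at h2
      exact h2.symm
    rw [hcent, mem_bot, QuotientGroup.mk'_apply, QuotientGroup.eq_one_iff, mem_subgroupOf] at h1
    exact h1

end Frame

end Cfsg.Agent.FiTwentyTwoByTwo
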