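import Cfsg.Agent.Lib.FiTwentyTwoByTwo.CaseACore
import Cfsg.Agent.Lib.FiTwentyTwoByTwo.CaseAOuter
import Cfsg.Agent.Lib.FiTwentyTwoByTwo.CaseAClasses
import Cfsg.Agent.Lib.FiTwentyTwoByTwo.Finish

/-!
# Case A: the large elementary abelian subgroup of `C(u)`
-/

set_option autoImplicit false
set_option linter.unusedSectionVars false
set_option linter.style.haveILetI false

namespace Cfsg.Agent.FiTwentyTwoByTwo

open Subgroup Cfsg.Agent.ThreeTransp.U62Cent
open Cfsg.Agent.ThreeTransp.U62Cover (Data classSize)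

universe u'

variable {G : Type u'} [Group G] [Finite G] {z u : G}

/-- the standing hypotheses in case A, with the facts on the simple half -/
structure Half (F : Frame z u) (Q : Type) [Group Q] where
  hA : ∀ c, Commute c z → Commute c u
  MX : ACoord F.zX
  MY : ACoord F.swap.zX
  he : MX.e = true
  hN : INat MX.I
  S : Sylow 2 G
  hS : (S : Subgroup G) ≤ centralizer ({z} : Set G)
  hJ : O2c z ≤ (S : Subgroup G)
  X₀ : Subgroup (QU u)
  hidx : X₀.index = 2
  hinf : X₀ ⊓ centralizer ({F.zX} : Set (QU u)) = MX.inner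
  hcent : centralizer (X₀ : Set (QU u)) = ⊥
  ι : Q →* QU u
  ι_inj : Function.Injective ι
  ι_range : ι.range = X₀
  D : Data Q
  gen : D.E ≤ closure (D.O 0)
  ζ : Q
  hζ : ι ζ = F.zX
  O_zero : ∀ r ∈ D.O 0, ∃ g : Q, g * ζ * g⁻¹ = r
  O_core : ∃ i, i ≠ 0 ∧ ∀ r ∈ D.O i, ∃ g : Q, ι (g * r * g⁻¹) ∈ O2c F.zX

/-- the element of `C(u)` under an element -/
abbrev cu {u : G} {x : G} (h : Commute x u) : ↥(centralizer ({u} : Set G)) := ⟨x, mem_cent.2 h⟩

theorem index_two_conj {H : Type*} [Group H] {N : Subgroup H} (h : N.index = 2) {x g : H} :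
    g * x * g⁻¹ ∈ N ↔ x ∈ N := by
  have hn := normal_of_index_eq_two h
  refine ⟨fun hx => ?_, fun hx => hn.conj_mem x hx g⟩
  have := hn.conj_mem _ hx g⁻¹
  simpa [mul_assoc] using this

namespace Half

variable {F : Frame z u} {Q : Type} [Group Q] [Finite Q] (H : Half F Q)

include H

theorem ι_mem (q : Q) : H.ι q ∈ H.X₀ := H.ι_range.le ⟨q, rfl⟩

theorem exists_ι {x : QU u} (hx : x ∈ H.X₀) : ∃ q, H.ι q = x := H.ι_range.ge hx

theorem exists_lift (q : Q) : ∃ c : ↥(centralizer ({u} : Set G)), pr u c = H.ι q :=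
  QuotientGroup.mk'_surjective _ _

/-- the preimage of the large elementary abelian subgroup -/
noncomputable def A : Subgroup G :=
  ((H.D.E.map H.ι).comap (pr u)).map (centralizer ({u} : Set G)).subtype

theorem mem_A {x : G} : x ∈ H.A ↔ ∃ h : Commute x u, ∃ e ∈ H.D.E, H.ι e = pr u (cu h) := by
  constructor
  · rintro ⟨c, ⟨e, he, hec⟩, rfl⟩
    exact ⟨mem_cent.1 c.2, e, he, hec⟩
  · rintro ⟨h, e, he, hec⟩
    exact ⟨cu h, ⟨e, he, hec⟩, rfl⟩

theorem A_comm_u {x : G} (hx : x ∈ H.A) : Commute x u := (H.mem_A.1 hx).1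

theorem u_mem_A : u ∈ H.A := H.mem_A.2 ⟨Commute.refl u, 1, one_mem _, by
  rw [map_one, F.pr_eq_one.2 (Or.inr rfl)]⟩

theorem conj_lift {c : ↥(centralizer ({u} : Set G))} {n : Q} (hc : pr u c = H.ι n) {x : G}
    (hxu : Commute x u) {r : Q} (hr : H.ι r = pr u (cu hxu)) :
    ∃ h : Commute ((c : G) * x * (c : G)⁻¹) u, H.ι (n * r * n⁻¹) = pr u (cu h) := by
  refine ⟨((mem_cent.1 c.2).mul_left hxu).mul_left (mem_cent.1 c.2).inv_left, ?_⟩
  rw [map_mul, map_mul, map_inv, ← hc, hr, ← map_inv, ← map_mul, ← map_mul]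
  rfl

theorem over_zero {x : G} (hxu : Commute x u) {r : Q} (hr : r ∈ H.D.O 0) (h : H.ι r = pr u (cu hxu)) :
    ∃ c, Commute c u ∧ (x = c * z * c⁻¹ ∨ x = c * (u * z) * c⁻¹) := by
  obtain ⟨g, rfl⟩ := H.O_zero r hr
  obtain ⟨c, hc⟩ := H.exists_lift g
  have hzu : Commute z u := F.comm_zu.symm
  obtain ⟨hh, e⟩ := H.conj_lift hc hzu H.hζ
  refine ⟨c, mem_cent.1 c.2, ?_⟩
  rcases F.pr_eq.1 (e.symm.trans h) with e' | e'
  · exact Or.inl e'
  · refine Or.inr (e'.trans ?_)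
    show (c : G) * z * (c : G)⁻¹ * u = _
    rw [mul_assoc ((c : G) * z), (mem_cent.1 c.2).inv_left.eq, mul_assoc (c : G), ← mul_assoc z u,
      ← F.comm_zu.eq]
    group

theorem comm_zero {x y : G} (hxu : Commute x u) {r : Q} (hr : r ∈ H.D.O 0) (h : H.ι r = pr u (cu hxu))
    (hy : y ∈ H.A) : Commute x y := by
  obtain ⟨c, hc, hx⟩ := H.over_zero hxu hr h
  obtain ⟨hyu, e, he, hey⟩ := H.mem_A.1 hy
  have h1 : Commute (pr u (cu hxu)) (pr u (cu hyu)) := by
    show _ * _ = _ * _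
    rw [← h, ← hey, ← map_mul, ← map_mul, Classes.E_comm H.D (H.D.O_sub 0 r hr).1 he]
  set y' := c⁻¹ * y * c with hy'
  have hy'u : Commute y' u := (hc.inv_left.mul_left hyu).mul_left hc
  have h2 : Commute (pr u (cu hy'u)) F.zX := by
    have h3 := conj_commute (pr u (cu hc))⁻¹ h1
    rw [← map_inv, ← map_inv, ← map_mul, ← map_mul, ← map_mul, ← map_mul] at h3
    have e1 : pr u ((cu hc)⁻¹ * cu hxu * (cu hc)⁻¹⁻¹) = F.zX := by
      rw [Frame.zX]
      refine F.pr_eq.2 ?_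
      show z = c⁻¹ * x * c⁻¹⁻¹ ∨ z = c⁻¹ * x * c⁻¹⁻¹ * u
      rcases hx with rfl | rfl
      · exact Or.inl (by group)
      · right
        rw [show c⁻¹ * (c * (u * z) * c⁻¹) * c⁻¹⁻¹ = u * z by group, mul_assoc, ← F.comm_zu.eq,
          ← mul_assoc, F.uu, one_mul]
    rw [e1] at h3
    have e2 : ((cu hc)⁻¹ * cu hyu * (cu hc)⁻¹⁻¹) = cu hy'u := Subtype.ext (by
      show c⁻¹ * y * c⁻¹⁻¹ = y'
      rw [hy', inv_inv])
    rw [e2] at h3
    exact h3.symm
  obtain ⟨hz, hu'⟩ := mem_cH.1 (F.mem_cent_zX (mem_cent.2 h2))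
  have hcy : c * y' * c⁻¹ = y := by rw [hy']; group
  rcases hx with rfl | rfl
  · exact hcy ▸ (conj_commute c hz).symm
  · exact hcy ▸ (conj_commute c (hu'.mul_right hz)).symm

theorem A_comm {x y : G} (hx : x ∈ H.A) (hy : y ∈ H.A) : Commute x y := by
  obtain ⟨hxu, e, he, hex⟩ := H.mem_A.1 hx
  let T : Subgroup Q :=
    (((centralizer ({y} : Set G)).subgroupOf (centralizer ({u} : Set G))).map (pr u)).comap H.ι
  have hT : closure (H.D.O 0) ≤ T := (closure_le _).2 fun r hr => by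
    obtain ⟨c, hc⟩ := H.exists_lift r
    exact ⟨c, mem_subgroupOf.2 (mem_cent.2 (H.comm_zero (mem_cent.1 c.2) hr hc.symm hy)), hc⟩
  obtain ⟨c, hc, hce⟩ := hT (H.gen he)
  rcases F.pr_eq.1 (hce.trans hex) with e' | e' <;> rw [show x = _ from e']
  · exact mem_cent.1 (mem_subgroupOf.1 hc)
  · exact (mem_cent.1 (mem_subgroupOf.1 hc) : Commute (c : G) y).mul_left (H.A_comm_u hy).symm

theorem A_sq {x : G} (hx : x ∈ H.A) : x * x = 1 := by
  obtain ⟨hxu, e, he, hex⟩ := H.mem_A.1 hx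
  let Sq : Subgroup G :=
    { carrier := {a | a ∈ H.A ∧ a * a = 1}
      one_mem' := ⟨one_mem _, one_mul 1⟩
      mul_mem' := fun {a b} ha hb => ⟨mul_mem ha.1 hb.1, by
        rw [(H.A_comm hb.1 ha.1).mul_mul_mul_comm, ha.2, hb.2, one_mul]⟩
      inv_mem' := fun {a} ha => by rw [inv_eq_of_mul_eq_one_right ha.2]; exact ha }
  let T : Subgroup Q := ((Sq.subgroupOf (centralizer ({u} : Set G))).map (pr u)).comap H.ι
  have hT : closure (H.D.O 0) ≤ T := (closure_le _).2 fun r hr => by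
    obtain ⟨c, hc⟩ := H.exists_lift r
    refine ⟨c, mem_subgroupOf.2 ⟨H.mem_A.2 ⟨mem_cent.1 c.2, r, (H.D.O_sub 0 r hr).1, hc.symm⟩, ?_⟩, hc⟩
    obtain ⟨d, -, e' | e'⟩ := H.over_zero (mem_cent.1 c.2) hr hc.symm <;> rw [show (c : G) = _ from e']
    · rw [show d * z * d⁻¹ * (d * z * d⁻¹) = d * (z * z) * d⁻¹ by group, F.zz, mul_one, mul_inv_cancel]
    · rw [show d * (u * z) * d⁻¹ * (d * (u * z) * d⁻¹) = d * (u * z * (u * z)) * d⁻¹ by group, F.uz_sq,
        mul_one, mul_inv_cancel]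
  obtain ⟨c, hc, hce⟩ := hT (H.gen he)
  have hc2 := (mem_subgroupOf.1 hc).2
  rcases F.pr_eq.1 (hce.trans hex) with e' | e' <;> rw [show x = _ from e']
  · exact hc2
  · rw [(show Commute u (c : G) from (mem_cent.1 c.2).symm).mul_mul_mul_comm, hc2, F.uu, one_mul]

omit H [Finite Q] in
/-- the preimage of a subgroup of the quotient is twice as large -/
theorem card_pre (F : Frame z u) (L : Subgroup (QU u)) :
    Nat.card ↥(L.comap (pr u)) = 2 * Nat.card ↥L := by
  set N := (zpowers u).subgroupOf (centralizer ({u} : Set G)) with hN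
  have hN2 : Nat.card ↥N = 2 := by
    rw [hN, Nat.card_congr (subgroupOfEquivOfLe (zpowers_le.2 (mem_cent.2 (Commute.refl u)))).toEquiv,
      Nat.card_zpowers, F.orderOf_u]
  have e1 := (L.comap (pr u)).card_mul_index
  rw [index_comap_of_surjective _ (QuotientGroup.mk'_surjective N)] at e1
  have e2 := L.card_mul_index
  have e3 := Subgroup.card_eq_card_quotient_mul_card_subgroup N
  rw [hN2] at e3
  have hpos : 0 < L.index := Nat.pos_of_ne_zero L.index_ne_zero_of_finite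
  refine Nat.eq_of_mul_eq_mul_right hpos ?_
  rw [e1, e3, mul_assoc, e2]
  exact mul_comm _ _

omit [Finite Q] in
theorem ι_injective : Function.Injective H.ι := H.ι_inj

theorem A_card : Nat.card ↥H.A = 1024 := by
  rw [A, card_map_of_injective (subtype_injective _), card_pre F, card_map_of_injective H.ι_injective, H.D.E_card]

theorem image_le {B : Subgroup G} (hBz : B ≤ centralizer ({z} : Set G)) (hsq : ∀ x ∈ B, x * x = 1)
    (hB : Nat.card ↥B = 1024) (hu : u ∈ B) :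
    (B.subgroupOf (centralizer ({u} : Set G))).map (pr u) ≤ H.X₀ ∧
      Nat.card ↥((B.subgroupOf (centralizer ({u} : Set G))).map (pr u)) = 512 := by
  have hBu : B ≤ centralizer ({u} : Set G) := fun b hb => mem_cent.2 (H.hA b (mem_cent.1 (hBz hb)))
  set Bb := (B.subgroupOf (centralizer ({u} : Set G))).map (pr u) with hBb
  have hcm : Bb.comap (pr u) = B.subgroupOf (centralizer ({u} : Set G)) := by
    refine comap_map_eq_self fun c hc => mem_subgroupOf.2 ?_
    rcases F.pr_eq_one.1 hc with e | e <;> rw [e]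
    exacts [one_mem _, hu]
  have hc512 : Nat.card ↥Bb = 512 := by
    have := card_pre F Bb
    rw [hcm, Nat.card_congr (subgroupOfEquivOfLe hBu).toEquiv, hB] at this
    omega
  refine ⟨?_, hc512⟩
  by_contra hne
  obtain ⟨t, ht, htX⟩ := SetLike.not_le_iff_exists.1 hne
  have hbsq : ∀ b ∈ Bb, b * b = 1 := by
    rintro _ ⟨c, hc, rfl⟩
    rw [← map_mul, show c * c = 1 from Subtype.ext (hsq _ (mem_subgroupOf.1 hc)), map_one]
  have hbcom : ∀ a ∈ Bb, ∀ b ∈ Bb, Commute a b := fun a ha b hb => by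
    have h1 := inv_eq_of_mul_eq_one_right (hbsq a ha)
    have h2 := inv_eq_of_mul_eq_one_right (hbsq b hb)
    have h3 := inv_eq_of_mul_eq_one_right (hbsq _ (mul_mem ha hb))
    show a * b = b * a
    rw [← h3, _root_.mul_inv_rev, h1, h2]
  have hbz : ∀ b ∈ Bb, Commute b F.zX := by
    rintro _ ⟨c, hc, rfl⟩
    show _ * _ = _ * _
    rw [Frame.zX, ← map_mul, ← map_mul]
    exact congrArg _ (Subtype.ext (mem_cent.1 (hBz (mem_subgroupOf.1 hc))).eq)
  have h256 : Nat.card ↥(Bb ⊓ H.X₀) * 2 = 512 := by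
    have hd : (H.X₀.subgroupOf Bb).index ∣ 2 := by
      rw [← H.hidx]
      haveI := normal_of_index_eq_two H.hidx
      exact relIndex_dvd_index_of_normal H.X₀ Bb
    have h2 : (H.X₀.subgroupOf Bb).index = 2 := by
      rcases (Nat.dvd_prime Nat.prime_two).1 hd with e | e
      · exact absurd (subgroupOf_eq_top.1 (index_eq_one.1 e)) hne
      · exact e
    have e := (H.X₀.subgroupOf Bb).card_mul_index
    rw [h2, hc512] at e
    rw [← e]
    congr 1
    exact Nat.card_congr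
      { toFun := fun b => ⟨⟨b, b.2.1⟩, b.2.2⟩
        invFun := fun b => ⟨b.1, b.1.2, b.2⟩
        left_inv := fun _ => rfl
        right_inv := fun _ => rfl }
  have := outer_small H.MX H.he H.hN H.hinf (hbsq t ht) (hbz t ht) htX (B := Bb ⊓ H.X₀) inf_le_right
    (fun b hb => hbz b hb.1) (fun b hb => hbcom b hb.1 t ht) (fun b hb => hbsq b hb.1)
    fun a ha b hb => hbcom a ha.1 b hb.1
  omega

/-- uniqueness up to conjugation in `C(u)` -/
theorem uniq {B : Subgroup G} (hsq : ∀ x ∈ B, x * x = 1) (hB : Nat.card ↥B = 1024) (hu : u ∈ B)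
    (hBu : ∀ b ∈ B, Commute b u) : ∃ c, Commute c u ∧ B = H.A.map (MulAut.conj c).toMonoidHom := by
  haveI : Fact (Nat.Prime 2) := ⟨Nat.prime_two⟩
  obtain ⟨d, hd, hdS⟩ := F.conj_into H.hS (x := u) H.hA (T := B) (fun x => ⟨1, by
    rw [pow_one, pow_two]; exact Subtype.ext (hsq x x.2)⟩) hBu
  set B' := B.map (MulAut.conj d⁻¹).toMonoidHom with hB'
  have hB'z : B' ≤ centralizer ({z} : Set G) := by
    rintro _ ⟨b, hb, rfl⟩
    refine H.hS ?_
    simpa using hdS b hb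
  have hB'sq : ∀ x ∈ B', x * x = 1 := by
    rintro _ ⟨b, hb, rfl⟩
    rw [← map_mul, hsq b hb, map_one]
  obtain ⟨hle, h512⟩ := H.image_le hB'z hB'sq
    (by rw [hB', card_map_of_injective (MulAut.conj d⁻¹).injective, hB])
    ⟨u, hu, by simp [hd.inv_left.eq, mul_assoc]⟩
  set Bb := (B'.subgroupOf (centralizer ({u} : Set G))).map (pr u) with hBb
  set BQ := Bb.comap H.ι with hBQ
  have hmap : BQ.map H.ι = Bb := by rw [hBQ, map_comap_eq, H.ι_range, inf_eq_right.2 hle]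
  have hBQc : Nat.card ↥BQ = 512 := by
    have e := card_map_of_injective H.ι_injective (K := BQ)
    rw [hmap, h512] at e
    exact e.symm
  obtain ⟨g, hg⟩ := Classes.conj_E H.D (B := BQ) (fun x hx => H.ι_injective (by
    obtain ⟨c, hc, e⟩ := hx
    rw [map_mul, ← e, ← map_mul, show c * c = 1 from Subtype.ext (hB'sq _ (mem_subgroupOf.1 hc)),
      map_one, map_one])) hBQc.ge
  obtain ⟨c, hc⟩ := H.exists_lift g
  refine ⟨d * c, hd.mul_left (mem_cent.1 c.2), eq_of_le_of_card_ge (fun b hb => ?_) ?_⟩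
  · have hb' : d⁻¹ * b * d⁻¹⁻¹ ∈ B' := mem_map_of_mem _ hb
    have hbu : Commute (d⁻¹ * b * d⁻¹⁻¹) u := H.hA _ (mem_cent.1 (hB'z hb'))
    have h1 : pr u (cu hbu) ∈ Bb := mem_map_of_mem _ (mem_subgroupOf.2 hb')
    obtain ⟨q, hq⟩ := H.exists_ι (hle h1)
    have h2 : g⁻¹ * q * g ∈ H.D.E := (hg q).1 (show H.ι q ∈ Bb by rw [hq]; exact h1)
    obtain ⟨hh, e⟩ := H.conj_lift (c := c⁻¹) (n := g⁻¹) (by rw [map_inv, map_inv, hc]) hbu hq
    refine ⟨_, H.mem_A.2 ⟨hh, _, h2, ?_⟩, ?_⟩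
    · rw [← e, inv_inv]
    · simp [mul_assoc]
  · rw [card_map_of_injective (MulAut.conj (d * c)).injective, H.A_card, hB]

/-- conjugates of `u` in `A` come from the normaliser -/
theorem trans {v g : G} (hv : v ∈ H.A) (hg : g * u * g⁻¹ = v) :
    ∃ n, n ∈ normalizer (H.A : Set G) ∧ n * u * n⁻¹ = v := by
  set B := H.A.map (MulAut.conj g⁻¹).toMonoidHom with hB
  have hgu : g⁻¹ * v * g⁻¹⁻¹ = u := by rw [← hg]; group
  obtain ⟨c, hc, hBc⟩ := H.uniq (B := B) (by
      rintro _ ⟨a, ha, rfl⟩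
      rw [← map_mul, H.A_sq ha, map_one])
    (by rw [hB, card_map_of_injective (MulAut.conj g⁻¹).injective, H.A_card])
    ⟨v, hv, hgu⟩ (by
      rintro _ ⟨a, ha, rfl⟩
      rw [← hgu]
      exact conj_commute g⁻¹ (H.A_comm ha hv))
  have key : ∀ a ∈ H.A, g * c * a * (g * c)⁻¹ ∈ H.A := fun a ha => by
    have h1 : c * a * c⁻¹ ∈ B := hBc.symm ▸ ⟨a, ha, rfl⟩
    obtain ⟨a', ha', e⟩ := h1
    have e' : g⁻¹ * a' * g⁻¹⁻¹ = c * a * c⁻¹ := e
    rw [show g * c * a * (g * c)⁻¹ = g * (c * a * c⁻¹) * g⁻¹ by group, ← e']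
    simpa [mul_assoc] using ha'
  refine ⟨g * c, mem_normalizer_iff.2 fun x => ⟨key x, fun hx => ?_⟩, ?_⟩
  · obtain ⟨⟨y, hy⟩, e⟩ := Finite.surjective_of_injective
      (f := fun y : ↥H.A => (⟨g * c * y * (g * c)⁻¹, key y y.2⟩ : ↥H.A))
      (fun a b e => Subtype.ext (mul_left_cancel (mul_right_cancel (congrArg Subtype.val e)))) ⟨_, hx⟩
    have : y = x := mul_left_cancel (mul_right_cancel (congrArg Subtype.val e))
    exact this ▸ hy
  · rw [show g * c * u * (g * c)⁻¹ = g * (c * u * c⁻¹) * g⁻¹ by group, hc.eq, mul_inv_cancel_right, hg]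

end Half

end Cfsg.Agent.FiTwentyTwoByTwo
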