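import Cfsg.Agent.Lib.FiTwentyTwoByTwo.CaseAWeak
import Cfsg.Agent.Lib.ZStar.InvariantSylow

/-!
# Case A: `u` is central
-/

set_option autoImplicit false
set_option linter.unusedSectionVars false
set_option linter.style.haveILetI false

namespace Cfsg.Agent.FiTwentyTwoByTwo

open Subgroup Cfsg.Agent.ThreeTransp.U62Cent

universe u'

variable {G : Type u'} [Group G] [Finite G] {z u : G}

/-- An involution without fixed points on a subgroup of odd order that it normalises inverts it. -/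
theorem invert_of_free {N : Subgroup G} {x : G} (hN : ∀ o ∈ N, x * o * x⁻¹ ∈ N) (hx : x * x = 1)
    (hfree : ∀ o ∈ N, Commute o x → o = 1) : ∀ o ∈ N, x * o * x⁻¹ = o⁻¹ := by
  let f : ↥N → ↥N := fun o => ⟨(o : G)⁻¹ * (x * o * x⁻¹), mul_mem (inv_mem o.2) (hN o o.2)⟩
  have hf : Function.Injective f := by
    rintro ⟨o, ho⟩ ⟨p, hp⟩ e
    have e' : o⁻¹ * (x * o * x⁻¹) = p⁻¹ * (x * p * x⁻¹) := congrArg Subtype.val e
    have h1 : p * o⁻¹ * x = x * (p * o⁻¹) := by
      calc p * o⁻¹ * x = p * (o⁻¹ * (x * o * x⁻¹)) * (x * o⁻¹) := by group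
        _ = p * (p⁻¹ * (x * p * x⁻¹)) * (x * o⁻¹) := by rw [e']
        _ = x * (p * o⁻¹) := by group
    exact Subtype.ext (mul_inv_eq_one.1 (hfree _ (mul_mem hp (inv_mem ho)) h1)).symm
  intro o ho
  obtain ⟨⟨p, hp⟩, e⟩ := Finite.surjective_of_injective hf ⟨o, ho⟩
  have e' : p⁻¹ * (x * p * x⁻¹) = o := congrArg Subtype.val e
  have hxi : x⁻¹ = x := inv_eq_of_mul_eq_one_right hx
  rw [← e']
  calc x * (p⁻¹ * (x * p * x⁻¹)) * x⁻¹ = (x * p⁻¹ * x) * p * (x⁻¹ * x⁻¹) := by group
    _ = (x * p⁻¹ * x⁻¹) * p := by rw [hxi, hx, mul_one]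
    _ = (p⁻¹ * (x * p * x⁻¹))⁻¹ := by group

namespace Half

variable {F : Frame z u} {Q : Type} [Group Q] [Finite Q] (H : Half F Q)

include H

theorem isolated : Cfsg.IsIsolatedInvolution u :=
  ⟨F.orderOf_u, fun _g hg => H.weakly_closed rfl hg.symm⟩

variable [IsSimpleGroup ↥H.X₀]

set_option maxHeartbeats 800000 in
theorem oddCore_eq_bot : Cfsg.oddCore G = ⊥ := by
  haveI : Fact (Nat.Prime 2) := ⟨Nat.prime_two⟩
  haveI hX₀n : H.X₀.Normal := normal_of_index_eq_two H.hidx
  set O := Cfsg.oddCore G with hO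
  have hOn : O.Normal := inferInstance
  have hodd : Odd (Nat.card ↥O) := InvChar.Core.odd_card_oddCore
  have htwo : ∀ o ∈ O, o * o = 1 → o = 1 := fun o ho h => by
    by_contra hne
    have h2 : orderOf o = 2 := orderOf_eq_prime (by rw [pow_two]; exact h) hne
    have hd : orderOf o ∣ Nat.card ↥O := O.orderOf_dvd_natCard ho
    rw [h2] at hd
    exact Nat.not_even_iff_odd.2 hodd (even_iff_two_dvd.2 hd)
  have hzX : F.zX ∈ H.X₀ := (H.hinf.ge H.MX.z_mem_inner).1
  -- no fixed points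
  have hfree : ∀ o ∈ O, Commute o u → o = 1 := by
    set O1 := O.subgroupOf (centralizer ({u} : Set G)) with hO1
    haveI hO1n : O1.Normal := Normal.subgroupOf hOn _
    set N := O1.map (pr u) with hN
    haveI hNn : N.Normal := Normal.map hO1n _ (QuotientGroup.mk'_surjective _)
    have hNodd : Odd (Nat.card ↥N) := by
      refine hodd.of_dvd_nat ((O1.card_map_dvd (pr u)).trans ?_)
      rw [hO1, ← card_map_of_injective (subtype_injective (centralizer ({u} : Set G)))]
      exact card_dvd_of_le (map_le_iff_le_comap.2 fun x hx => hx)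
    have hbot : N.subgroupOf H.X₀ = ⊥ := by
      refine (inferInstance : (N.subgroupOf H.X₀).Normal).eq_bot_or_eq_top.resolve_right fun h => ?_
      have hle : H.X₀ ≤ N := subgroupOf_eq_top.1 h
      have hd : orderOf F.zX ∣ Nat.card ↥N := N.orderOf_dvd_natCard (hle hzX)
      rw [F.zX_orderOf] at hd
      exact Nat.not_even_iff_odd.2 hNodd (even_iff_two_dvd.2 hd)
    intro o ho hou
    have hn : pr u (cu hou) ∈ N := mem_map_of_mem _ (mem_subgroupOf.2 ho)
    have hc : pr u (cu hou) ∈ centralizer (H.X₀ : Set (QU u)) := mem_centralizer_iff.2 fun x hx => by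
      have hmX : x * pr u (cu hou) * x⁻¹ * (pr u (cu hou))⁻¹ ∈ H.X₀ := by
        rw [mul_assoc (x * pr u (cu hou)), mul_assoc x, ← mul_assoc (pr u (cu hou))]
        exact mul_mem hx (hX₀n.conj_mem _ (inv_mem hx) _)
      have h1 : (⟨_, hmX⟩ : ↥H.X₀) ∈ N.subgroupOf H.X₀ :=
        mem_subgroupOf.2 (mul_mem (hNn.conj_mem _ hn x) (inv_mem hn))
      rw [hbot, mem_bot] at h1
      exact mul_inv_eq_iff_eq_mul.1 (mul_inv_eq_one.1 (congrArg Subtype.val h1))
    rw [H.hcent, mem_bot] at hc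
    rcases F.pr_eq_one.1 hc with e | e
    · exact e
    · exact htwo o ho ((show o = u from e) ▸ F.uu)
  have hinv_u := invert_of_free (N := O) (fun o ho => hOn.conj_mem o ho u) F.uu hfree
  have hinv_z := invert_of_free (N := O) (fun o ho => hOn.conj_mem o ho z) F.zz
    fun o ho h => hfree o ho (H.hA o h)
  -- the part of `C(u)` centralising the odd core
  let K1 : Subgroup ↥(centralizer ({u} : Set G)) :=
    (centralizer (O : Set G)).subgroupOf (centralizer ({u} : Set G))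
  haveI hK1n : K1.Normal := Normal.subgroupOf inferInstance _
  set N := K1.map (pr u) with hN
  haveI hNn : N.Normal := Normal.map hK1n _ (QuotientGroup.mk'_surjective _)
  have huz : Commute (u * z) u := (Commute.refl u).mul_left F.comm_zu.symm
  have huzK : cu huz ∈ K1 := mem_subgroupOf.2 (mem_centralizer_iff.2 fun o ho => by
    have h1 : u * (z * o * z⁻¹) * u⁻¹ = o := by
      rw [hinv_z o ho, hinv_u _ (inv_mem ho), inv_inv]
    show o * (u * z) = u * z * o
    calc o * (u * z) = u * (z * o * z⁻¹) * u⁻¹ * (u * z) := by rw [h1]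
      _ = u * z * o := by group)
  have hzN : F.zX ∈ N := ⟨_, huzK, F.pr_eq.2 (Or.inr (by
    show z = u * z * u
    rw [F.comm_zu.eq, mul_assoc, F.uu, mul_one]))⟩
  have hXN : H.X₀ ≤ N := by
    refine subgroupOf_eq_top.1 ((inferInstance : (N.subgroupOf H.X₀).Normal).eq_bot_or_eq_top.resolve_left
      fun h => F.zX_ne ?_)
    have h1 : (⟨F.zX, hzX⟩ : ↥H.X₀) ∈ N.subgroupOf H.X₀ := mem_subgroupOf.2 hzN
    rw [h, mem_bot] at h1
    exact congrArg Subtype.val h1
  obtain ⟨x, hx, y, hy, hxy⟩ := F.exists_comm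
  have hlift : ∀ j ∈ O2c z, ∃ k, k ∈ centralizer (O : Set G) ∧ (k = j ∨ k = j * u) := fun j hj => by
    have hju : Commute j u := F.u_cent j hj
    have hjX : pr u (cu hju) ∈ H.X₀ := by
      have hjJ : pr u (cu hju) ∈ O2c F.zX := F.mem_O2c_zX.2 ⟨cu hju, hj, rfl⟩
      exact (H.hinf.ge (H.MX.mem_inner.2 ⟨commute_of_O2c hjJ, by
        rw [H.MX.img_J hjJ]; exact one_mem _⟩)).1
    obtain ⟨c, hc, e⟩ := hXN hjX
    refine ⟨c, mem_subgroupOf.1 hc, ?_⟩
    rcases F.pr_eq.1 e with e' | e'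
    · exact Or.inl (show (c : G) = j from (show j = (c : G) from e').symm)
    · refine Or.inr ?_
      rw [show j = (c : G) * u from e', mul_assoc, F.uu, mul_one]
  obtain ⟨k1, hk1, e1⟩ := hlift x hx
  obtain ⟨k2, hk2, e2⟩ := hlift y hy
  have hz : z ∈ centralizer (O : Set G) := by
    have hcu : ∀ {a}, a ∈ O2c z → Commute a u := fun {a} ha => F.u_cent a ha
    have hzk : z = k1 * k2 * k1⁻¹ * k2⁻¹ := by
      have h0 : z = x * y * x⁻¹ * y⁻¹ := by rw [hxy]; group
      rw [h0]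
      have r1 : ∀ a b : G, Commute b u → a * u * b * (a * u)⁻¹ = a * b * a⁻¹ := fun a b hb => by
        rw [_root_.mul_inv_rev, show a * u * b * (u⁻¹ * a⁻¹) = a * (u * b * u⁻¹) * a⁻¹ by group, ← hb.eq,
          mul_inv_cancel_right]
      have r2 : ∀ a b : G, Commute a u → a * (b * u) * a⁻¹ * (b * u)⁻¹ = a * b * a⁻¹ * b⁻¹ := fun a b ha => by
        calc a * (b * u) * a⁻¹ * (b * u)⁻¹ = a * b * (u * a⁻¹ * u⁻¹) * b⁻¹ := by group
          _ = _ := by rw [← ha.inv_left.eq, mul_inv_cancel_right]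
      rcases e1 with e1 | e1 <;> rcases e2 with e2 | e2 <;> rw [e1, e2]
      · rw [r2 x y (hcu hx)]
      · rw [r1 x y (hcu hy)]
      · rw [r1 x (y * u) ((hcu hy).mul_left (Commute.refl u)), r2 x y (hcu hx)]
    rw [hzk]
    exact mul_mem (mul_mem (mul_mem hk1 hk2) (inv_mem hk1)) (inv_mem hk2)
  refine (eq_bot_iff_forall _).2 fun o ho => htwo o ho ?_
  have h1 := hinv_z o ho
  rw [← mem_centralizer_iff.1 hz o ho, mul_inv_cancel_right] at h1
  nth_rewrite 2 [h1]
  exact mul_inv_cancel o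

/-- `u` is central. -/
theorem central (g : G) : Commute g u := by
  have h := Cfsg.Agent.ZStar.InvariantSylow.oddCore_sup_centralizer H.isolated
  rw [H.oddCore_eq_bot, bot_sup_eq] at h
  exact mem_cent.1 (h.ge (mem_top g))

end Half

end Cfsg.Agent.FiTwentyTwoByTwo
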