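import Cfsg.Agent.Lib.FiTwentyTwoByTwo.CaseAFuse
import Cfsg.Agent.Lib.FiTwentyTwoByTwo.Lifts

/-!
# Case A: no further conjugates of `z` or `u` in the core
-/

set_option autoImplicit false
set_option linter.unusedSectionVars false

namespace Cfsg.Agent.FiTwentyTwoByTwo

open Subgroup Cfsg.Agent.ThreeTransp.U62Cent Cfsg.Agent.ThreeTransp.U62Cent.W8

universe u'

variable {G : Type u'} [Group G] [Finite G] {z u : G}

namespace Frame

variable (F : Frame z u)

include F

/-- A conjugate of `z` under `C(u)` inside the core is `z`. -/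
theorem core_conj (MX : ACoord F.zX) {c : G} (hc : Commute c u) (h : c * z * c⁻¹ ∈ O2c z) : c * z * c⁻¹ = z := by
  set a := c * z * c⁻¹ with ha
  have hau : Commute a u := F.u_cent a h
  set cc : ↥(centralizer ({u} : Set G)) := ⟨c, mem_cent.2 hc⟩ with hcc
  have h1 : pr u ⟨a, mem_cent.2 hau⟩ ∈ O2c F.zX := F.mem_O2c_zX.2 ⟨_, h, rfl⟩
  have h2 : pr u ⟨a, mem_cent.2 hau⟩ ∈ cls F.zX := ⟨pr u cc, by
    rw [Frame.zX, ← map_inv, ← map_mul, ← map_mul]
    rfl⟩
  rcases F.pr_eq.1 (MX.not_mem_J h2 h1) with e | e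
  · exact e.symm
  · exfalso
    refine (F.not_conj c).2 ?_
    show a = u * z
    have e' : z = a * u := e
    rw [e', ← mul_assoc, ← hau.eq, mul_assoc, F.uu, mul_one]

variable (K : Co z u) (MX : ACoord F.zX) (MY : ACoord F.swap.zX) (hA : ∀ c, Commute c z → Commute c u)
variable {S : Sylow 2 G} (hS : (S : Subgroup G) ≤ centralizer ({z} : Set G)) (hJ : O2c z ≤ (S : Subgroup G))

include K MX MY hA hS hJ

/-- No other conjugate of `z` lies in the core. -/
theorem eq_of_mem_core {h : G} (haJ : h * z * h⁻¹ ∈ O2c z) : h * z * h⁻¹ = z := by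
  set a := h * z * h⁻¹ with ha
  have ha1 : a ≠ 1 := fun e => F.z_ne (conj_eq_one_iff.1 e)
  by_contra hne
  have ha2 : a * a = 1 := by rw [ha, show h * z * h⁻¹ * (h * z * h⁻¹) = h * (z * z) * h⁻¹ by group, F.zz]; group
  have hv : K.vec a ≠ 0 := fun e => by
    rcases (K.vec_eq_zero haJ).1 e with e | e | e | e
    exacts [ha1 e, hne e, (F.not_conj h).1 e, (F.not_conj h).2 e]
  set u' := h * u * h⁻¹ with hu'
  have hC : ∀ c, Commute c a → Commute c u' := fun c hc => by
    have h1 := conj_commute h⁻¹ hc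
    rw [ha, show h⁻¹ * (h * z * h⁻¹) * h⁻¹⁻¹ = z by group] at h1
    have h2 := conj_commute h (hA _ h1)
    rwa [show h * (h⁻¹ * c * h⁻¹⁻¹) * h⁻¹ = c by group] at h2
  have hu'z : Commute u' z := (hC z (commute_of_O2c haJ).symm).symm
  have hu'u := hA u' hu'z
  have hu'2 : u' * u' = 1 := by rw [hu', show h * u * h⁻¹ * (h * u * h⁻¹) = h * (u * u) * h⁻¹ by group, F.uu]; group
  have hlift : ∀ y, bb (K.vec a) y = false → Commute (K.lift y) u' := fun y hy =>
    hC _ ((K.commute_iff_bb (K.lift_mem y) haJ).2 (by rw [K.vec_lift, bb_comm]; exact hy))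
  have hu'J : u' ∈ O2c z := (K.ker hu'z hu'u).1 (eq_one_of_fix_perp (K.img_isInv hu'z hu'u hu'2)
    (K.q_of_sq haJ ha2) fun y hy => by
      have := K.fix_of_commute hu'z hu'u (K.lift_mem y) (hlift y hy)
      rwa [K.vec_lift] at this)
  rcases perp_perp (d := K.vec a) (w := K.vec u') (fun y hy => by
    have := (K.commute_iff_bb hu'J (K.lift_mem y)).1 (hlift y hy).symm
    rwa [K.vec_lift] at this) with e | e
  · rcases (K.vec_eq_zero hu'J).1 e with e | e | e | e
    · exact F.u_ne_one (conj_eq_one_iff.1 e)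
    · refine (F.not_conj h⁻¹).1 ?_
      rw [← e, hu']; group
    · -- `h` centralises `u`
      exact hne (F.core_conj MX (mul_inv_eq_iff_eq_mul.1 e) haJ)
    · exact F.not_fused hS hJ hA h e
  · -- `u' = a ζ` with `ζ` central
    have hζ : InZ z u (a * u') := (K.vec_eq_zero (mul_mem haJ hu'J)).1 (by
      rw [K.vec_mul haJ hu'J, e, W8.add_self])
    have hCζ : ∀ c, Commute c a → Commute c (a * u') := fun c hc => hc.mul_right (hC c hc)
    rcases hζ with e1 | e1 | e1 | e1 <;> rw [e1] at hCζ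
    · refine F.u_ne ((MulAut.conj h).injective ?_)
      show u' = a
      calc u' = a * a * u' := by rw [ha2, one_mul]
        _ = a := by rw [mul_assoc, e1, mul_one]
    · -- `C(a) = C(z)`
      refine hv ?_
      have hle : centralizer ({a} : Set G) ≤ centralizer ({z} : Set G) := fun c hc =>
        mem_cent.2 (hCζ c (mem_cent.1 hc))
      have hcard : Nat.card ↥(centralizer ({a} : Set G)) = Nat.card ↥(centralizer ({z} : Set G)) := by
        refine Nat.card_congr
          { toFun := fun c => ⟨h⁻¹ * c * h, mem_cent.2 (by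
              have := conj_commute h⁻¹ (mem_cent.1 c.2)
              have e : h⁻¹ * a * h = z := by rw [ha]; group
              rw [inv_inv] at this
              exact e ▸ this)⟩
            invFun := fun c => ⟨h * c * h⁻¹, mem_cent.2 (conj_commute h (mem_cent.1 c.2))⟩
            left_inv := fun c => Subtype.ext (by simp [mul_assoc])
            right_inv := fun c => Subtype.ext (by simp [mul_assoc]) }
      have heq := eq_of_le_of_card_ge hle hcard.ge
      rcases bb_nondeg (K.vec a) with e2 | ⟨w, -, hw⟩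
      · exact e2
      · exfalso
        have hc : Commute (K.lift w) a :=
          mem_cent.1 (heq.symm ▸ mem_cent.2 (commute_of_O2c (K.lift_mem w)))
        have := (K.commute_iff_bb haJ (K.lift_mem w)).1 hc.symm
        rw [K.vec_lift, hw] at this
        exact absurd this (by decide)
    · obtain ⟨c, hc, hca⟩ := F.conj_of_le hS hJ hA (h := h) hCζ
      refine hne ?_
      show h * z * h⁻¹ = z
      rw [hca]
      exact F.core_conj MX hc (hca ▸ haJ)
    · obtain ⟨c, hc, hca⟩ := F.conj_of_le hS hJ (x := u * z) (fun d hd => (hA d hd).mul_right hd) (h := h) hCζ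
      refine hne ?_
      show h * z * h⁻¹ = z
      rw [hca]
      exact F.swap.core_conj MY hc (hca ▸ haJ)

/-- The only conjugate of `u` in the core is `u`. -/
theorem u_of_mem_core {g : G} (hvJ : g * u * g⁻¹ ∈ O2c z) : g * u * g⁻¹ = u := by
  haveI : Fact (Nat.Prime 2) := ⟨Nat.prime_two⟩
  set v := g * u * g⁻¹ with hv
  have hv2 : v * v = 1 := by rw [hv, show g * u * g⁻¹ * (g * u * g⁻¹) = g * (u * u) * g⁻¹ by group, F.uu]; group
  by_cases hv0 : K.vec v = 0
  · rcases (K.vec_eq_zero hvJ).1 hv0 with e | e | e | e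
    · exact absurd (conj_eq_one_iff.1 e) F.u_ne_one
    · exfalso
      refine (F.not_conj g⁻¹).1 ?_
      rw [← e, hv]; group
    · exact e
    · exact absurd e (F.not_fused hS hJ hA g)
  have hdown : ∀ {j}, Commute j v → Commute (g⁻¹ * j * g) u := fun {j} hj => by
    have := conj_commute g⁻¹ hj
    rwa [hv, show g⁻¹ * (g * u * g⁻¹) * g⁻¹⁻¹ = u by group, inv_inv] at this
  set T := (O2c z ⊓ centralizer ({v} : Set G)).map (MulAut.conj g⁻¹).toMonoidHom with hT
  have hTp : IsPGroup 2 ↥T := (IsPGroup.to_le F.J_pgroup inf_le_left).map _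
  have hTu : ∀ t ∈ T, Commute t u := by
    rintro _ ⟨j, ⟨-, hj⟩, rfl⟩
    simpa using hdown (mem_cent.1 hj)
  obtain ⟨c, hc, hcS⟩ := F.conj_into hS (x := u) hA hTp hTu
  set x := g * (c * z * c⁻¹) * g⁻¹ with hx
  have hcom : ∀ j ∈ O2c z, Commute j v → Commute x j := fun j hj hjv => by
    have h1 := hcS _ (mem_map_of_mem _ (⟨hj, mem_cent.2 hjv⟩ : j ∈ O2c z ⊓ centralizer ({v} : Set G)))
    have h2 := conj_commute g (conj_commute c (mem_cent.1 (hS h1)))
    have e : g * (c * (c⁻¹ * (MulAut.conj g⁻¹).toMonoidHom j * c) * c⁻¹) * g⁻¹ = j := by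
      simp [mul_assoc]
    rw [e] at h2
    exact h2.symm
  have hxz : Commute x z := hcom z F.z_mem (commute_of_O2c hvJ).symm
  have hxu := hA x hxz
  have hx2 : x * x = 1 := by
    rw [hx, show g * (c * z * c⁻¹) * g⁻¹ * (g * (c * z * c⁻¹) * g⁻¹) = g * (c * (z * z) * c⁻¹) * g⁻¹ by group,
      F.zz]; group
  have hxJ : x ∈ O2c z := (K.ker hxz hxu).1 (eq_one_of_fix_perp (K.img_isInv hxz hxu hx2) (K.q_of_sq hvJ hv2)
    fun y hy => by
      have := K.fix_of_commute hxz hxu (K.lift_mem y) (hcom _ (K.lift_mem y)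
        ((K.commute_iff_bb (K.lift_mem y) hvJ).2 (by rw [K.vec_lift, bb_comm]; exact hy))).symm
      rwa [K.vec_lift] at this)
  have hxe : x = g * c * z * (g * c)⁻¹ := by rw [hx]; group
  have hxz' := F.eq_of_mem_core K MX MY hA hS hJ (h := g * c) (hxe ▸ hxJ)
  calc v = g * (c * u * c⁻¹) * g⁻¹ := by rw [hv, hc.eq, mul_inv_cancel_right]
    _ = g * c * u * (g * c)⁻¹ := by group
    _ = u := by rw [(hA _ (mul_inv_eq_iff_eq_mul.1 hxz')).eq, mul_inv_cancel_right]

end Frame

end Cfsg.Agent.FiTwentyTwoByTwo
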