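import Cfsg.Agent.Lib.FiTwentyTwoByTwo.Quot

/-!
# Case A: a Sylow 2-subgroup inside `C(z)` and what it says about fusion
-/

set_option autoImplicit false
set_option linter.unusedSectionVars false

namespace Cfsg.Agent.FiTwentyTwoByTwo

open Subgroup Cfsg.Agent.ThreeTransp.U62Cent

universe u'

variable {G : Type u'} [Group G] [Finite G] {z u : G}

namespace Frame

variable (F : Frame z u)

include F

/-- Whatever normalises a subgroup of `C(z)` containing the core and `z` centrally fixes `z`. -/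
theorem fix_of_normalizes {S : Subgroup G} (hS : S ≤ centralizer ({z} : Set G)) (hJ : O2c z ≤ S) {n : G}
    (hn : ∀ s ∈ S, n * s * n⁻¹ ∈ S) (hn' : ∀ s ∈ S, n⁻¹ * s * n ∈ S) : n * z * n⁻¹ = z := by
  have hcom : ∀ j ∈ O2c z, Commute (n * z * n⁻¹) j := fun j hj => by
    have h1 : Commute z (n⁻¹ * j * n) := (mem_cent.1 (hS (hn' j (hJ hj)))).symm
    have h2 := conj_commute n h1
    rwa [show n * (n⁻¹ * j * n) * n⁻¹ = j by group] at h2
  rcases F.center _ (F.cent _ hcom) hcom with e | e | e | e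
  · exact absurd (conj_eq_one_iff.1 e) F.z_ne
  · exact e
  · exact absurd e (F.not_conj n).1
  · exact absurd e (F.not_conj n).2

/-- A Sylow 2-subgroup of the whole group lies in `C(z)` and contains the core. -/
theorem exists_base : ∃ S : Sylow 2 G, (S : Subgroup G) ≤ centralizer ({z} : Set G) ∧ O2c z ≤ (S : Subgroup G) := by
  haveI : Fact (Nat.Prime 2) := ⟨Nat.prime_two⟩
  obtain ⟨P⟩ : Nonempty (Sylow 2 ↥(centralizer ({z} : Set G))) := inferInstance
  set S := (P : Subgroup ↥(centralizer ({z} : Set G))).map (centralizer ({z} : Set G)).subtype with hSd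
  have hSp : IsPGroup 2 ↥S := P.isPGroup'.map _
  have hSC : S ≤ centralizer ({z} : Set G) := map_subtype_le _
  have hJS : O2c z ≤ S := map_mono (Cfsg.Agent.Cores.pCore_le_sylow P)
  obtain ⟨T, hST⟩ := hSp.exists_le_sylow
  suffices (T : Subgroup G) ≤ S from ⟨T, this.trans hSC, hJS.trans hST⟩
  by_contra hne
  haveI := T.isPGroup'.isNilpotent
  have hlt : S.subgroupOf (T : Subgroup G) < ⊤ :=
    lt_top_iff_ne_top.2 fun h => hne (subgroupOf_eq_top.1 h)
  obtain ⟨n, hn, hnS⟩ := SetLike.exists_of_lt (normalizerCondition_of_isNilpotent _ hlt)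
  have hn' := mem_normalizer_iff.1 hn
  have key : ∀ s ∈ S, (n : G) * s * (n : G)⁻¹ ∈ S := fun s hs =>
    mem_subgroupOf.1 ((hn' ⟨s, hST hs⟩).1 (mem_subgroupOf.2 hs))
  have key' : ∀ s ∈ S, (n : G)⁻¹ * s * (n : G) ∈ S := fun s hs =>
    mem_subgroupOf.1 ((hn' (n⁻¹ * ⟨s, hST hs⟩ * n)).2 (by
      rw [mem_subgroupOf]
      simpa [mul_assoc] using hs))
  have hnz : (n : G) ∈ centralizer ({z} : Set G) :=
    mem_cent.2 (mul_inv_eq_iff_eq_mul.1 (F.fix_of_normalizes hSC hJS key key'))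
  -- the part of `T` in `C(z)` is a larger 2-subgroup
  have hTp : IsPGroup 2 ↥((T : Subgroup G).subgroupOf (centralizer ({z} : Set G))) :=
    T.isPGroup'.comap_of_injective _ (centralizer ({z} : Set G)).subtype_injective
  have hle : (P : Subgroup ↥(centralizer ({z} : Set G))) ≤ (T : Subgroup G).subgroupOf (centralizer ({z} : Set G)) :=
    fun x hx => mem_subgroupOf.2 (hST (mem_map_of_mem _ hx))
  have := P.is_maximal' hTp hle
  refine hnS (mem_subgroupOf.2 ⟨⟨n, hnz⟩, ?_, rfl⟩)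
  rw [← this]
  exact mem_subgroupOf.2 n.2

variable {S : Sylow 2 G} (hS : (S : Subgroup G) ≤ centralizer ({z} : Set G)) (hJ : O2c z ≤ (S : Subgroup G))

include hS hJ

omit hJ in
/-- A 2-subgroup centralising `x` is moved by `C(x)` into the Sylow subgroup. -/
theorem conj_into {x : G} (hx : ∀ c, Commute c z → Commute c x) {T : Subgroup G} (hT : IsPGroup 2 ↥T)
    (hTx : ∀ t ∈ T, Commute t x) : ∃ c, Commute c x ∧ ∀ t ∈ T, c⁻¹ * t * c ∈ (S : Subgroup G) := by
  haveI : Fact (Nat.Prime 2) := ⟨Nat.prime_two⟩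
  have hSx : (S : Subgroup G) ≤ centralizer ({x} : Set G) := fun s hs => mem_cent.2 (hx s (mem_cent.1 (hS hs)))
  obtain ⟨Q, hQ⟩ := (hT.comap_of_injective (centralizer ({x} : Set G)).subtype
    (centralizer ({x} : Set G)).subtype_injective).exists_le_sylow
  obtain ⟨c, hc⟩ := MulAction.exists_smul_eq ↥(centralizer ({x} : Set G)) (S.subtype hSx) Q
  refine ⟨c, mem_cent.1 c.2, fun t ht => ?_⟩
  have h1 : (⟨t, mem_cent.2 (hTx t ht)⟩ : ↥(centralizer ({x} : Set G))) ∈
      (Q : Subgroup ↥(centralizer ({x} : Set G))) := hQ ht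
  rw [← hc] at h1
  obtain ⟨s, hs, e⟩ := h1
  have e' : (c : G) * (s : G) * (c : G)⁻¹ = t := congrArg Subtype.val e
  rw [← e']
  simpa [mul_assoc] using (mem_subgroupOf.1 hs : (s : G) ∈ (S : Subgroup G))

/-- An element conjugating the Sylow subgroup into itself fixes `z`. -/
theorem fix_of_into {n : G} (h : ∀ s ∈ (S : Subgroup G), n * s * n⁻¹ ∈ (S : Subgroup G)) :
    n * z * n⁻¹ = z := by
  refine F.fix_of_normalizes hS hJ h fun s hs => ?_
  obtain ⟨⟨t, ht⟩, e⟩ := Finite.surjective_of_injective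
    (f := fun t : ↥(S : Subgroup G) => (⟨n * t * n⁻¹, h t t.2⟩ : ↥(S : Subgroup G)))
    (fun a b e => Subtype.ext (mul_left_cancel (mul_right_cancel (congrArg Subtype.val e)))) ⟨s, hs⟩
  have e' : n * t * n⁻¹ = s := congrArg Subtype.val e
  rw [← e']
  simpa [mul_assoc] using ht

/-- A conjugate of `z` whose centraliser centralises `x` is conjugate to `z` under `C(x)`. -/
theorem conj_of_le {x : G} (hx : ∀ c, Commute c z → Commute c x) {h : G}
    (hC : ∀ c, Commute c (h * z * h⁻¹) → Commute c x) :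
    ∃ c, Commute c x ∧ h * z * h⁻¹ = c * z * c⁻¹ := by
  obtain ⟨c, hc, hcS⟩ := F.conj_into hS hx (T := (S : Subgroup G).map (MulAut.conj h).toMonoidHom)
    (S.isPGroup'.map _) (by
      rintro _ ⟨s, hs, rfl⟩
      exact hC _ (conj_commute h (mem_cent.1 (hS hs))))
  refine ⟨c, hc, ?_⟩
  have hn := F.fix_of_into hS hJ (n := c⁻¹ * h) fun s hs => by
    have := hcS _ (mem_map_of_mem _ hs)
    simpa [mul_assoc] using this
  calc h * z * h⁻¹ = c * ((c⁻¹ * h) * z * (c⁻¹ * h)⁻¹) * c⁻¹ := by group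
    _ = c * z * c⁻¹ := by rw [hn]

/-- In case A the two central elements are not conjugate. -/
theorem not_fused (hA : ∀ c, Commute c z → Commute c u) (g : G) : g * u * g⁻¹ ≠ u * z := by
  intro hg
  obtain ⟨d, hd, hdS⟩ := F.conj_into hS (x := u * z) (fun c hc => (hA c hc).mul_right hc)
    (T := (S : Subgroup G).map (MulAut.conj g).toMonoidHom) (S.isPGroup'.map _) (by
      rintro _ ⟨s, hs, rfl⟩
      rw [← hg]
      exact conj_commute g (hA s (mem_cent.1 (hS hs))))
  have hn := F.fix_of_into hS hJ (n := d⁻¹ * g) fun s hs => by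
    have := hdS _ (mem_map_of_mem _ hs)
    simpa [mul_assoc] using this
  have e1 : d⁻¹ * g * u * (d⁻¹ * g)⁻¹ = u := by
    rw [(hA _ (mul_inv_eq_iff_eq_mul.1 hn)).eq, mul_inv_cancel_right]
  have e2 : d⁻¹ * g * u * (d⁻¹ * g)⁻¹ = u * z := by
    calc d⁻¹ * g * u * (d⁻¹ * g)⁻¹ = d⁻¹ * (g * u * g⁻¹) * d := by group
      _ = u * z := by rw [hg, hd.inv_left.eq, inv_mul_cancel_right]
  exact F.z_ne (mul_eq_left.1 (e2.symm.trans e1))

end Frame

end Cfsg.Agent.FiTwentyTwoByTwo
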