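import Cfsg.Agent.Lib.FiTwentyTwoByTwo.CaseABig

/-!
# Case A: `u` is the only one of its conjugates in the large elementary abelian subgroup
-/

set_option autoImplicit false
set_option linter.unusedSectionVars false
set_option linter.style.haveILetI false

namespace Cfsg.Agent.FiTwentyTwoByTwo

open Subgroup Cfsg.Agent.ThreeTransp.U62Cent
open Cfsg.Agent.ThreeTransp.U62Cover (Data classSize)

universe u'

variable {G : Type u'} [Group G] [Finite G] {z u : G}

namespace Half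

variable {F : Frame z u} {Q : Type} [Group Q] [Finite Q] (H : Half F Q)

include H

/-- the conjugates of `u` in `A` -/
def Om : Set G := {x | x ∈ H.A ∧ ∃ g, g * u * g⁻¹ = x}

theorem u_mem_Om : u ∈ H.Om := ⟨H.u_mem_A, 1, by group⟩

theorem conj_Om {n : G} (hn : n ∈ normalizer (H.A : Set G)) {x : G} :
    n * x * n⁻¹ ∈ H.Om ↔ x ∈ H.Om := by
  constructor
  · rintro ⟨h, g, hg⟩
    exact ⟨(mem_normalizer_iff.1 hn x).2 h, n⁻¹ * g, by
      rw [show n⁻¹ * g * u * (n⁻¹ * g)⁻¹ = n⁻¹ * (g * u * g⁻¹) * n by group, hg]; group⟩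
  · rintro ⟨h, g, rfl⟩
    exact ⟨(mem_normalizer_iff.1 hn _).1 h, n * g, by group⟩

theorem not_over_zero {x : G} (hx : x ∈ H.Om) (hxu : Commute x u) {r : Q} (hr : r ∈ H.D.O 0) :
    H.ι r ≠ pr u (cu hxu) := by
  intro h
  obtain ⟨c, -, e⟩ := H.over_zero hxu hr h
  obtain ⟨-, g, rfl⟩ := hx
  rcases e with e | e
  · refine (F.not_conj (g⁻¹ * c)).1 ?_
    rw [show g⁻¹ * c * z * (g⁻¹ * c)⁻¹ = g⁻¹ * (c * z * c⁻¹) * g by group, ← e]; group
  · refine F.not_fused H.hS H.hJ H.hA (c⁻¹ * g) ?_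
    rw [show c⁻¹ * g * u * (c⁻¹ * g)⁻¹ = c⁻¹ * (g * u * g⁻¹) * c by group, e]; group

theorem not_over_core : ∃ i, i ≠ 0 ∧ ∀ x ∈ H.Om, ∀ hxu : Commute x u, ∀ r ∈ H.D.O i, H.ι r ≠ pr u (cu hxu) := by
  obtain ⟨i, hi, hcore⟩ := H.O_core
  refine ⟨i, hi, fun x hx hxu r hr h => ?_⟩
  obtain ⟨g, hg⟩ := hcore r hr
  obtain ⟨c, hc⟩ := H.exists_lift g
  obtain ⟨hh, e⟩ := H.conj_lift hc hxu h
  obtain ⟨j, hj, hje⟩ := F.mem_O2c_zX.1 hg
  have hJ : (c : G) * x * (c : G)⁻¹ ∈ O2c z := by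
    rcases F.pr_eq.1 (hje.trans e) with e' | e'
    · exact (show (c : G) * x * (c : G)⁻¹ = _ from e') ▸ hj
    · exact (show (c : G) * x * (c : G)⁻¹ = _ from e') ▸ mul_mem hj F.u_mem
  obtain ⟨-, g', rfl⟩ := hx
  let K : Co z u := mkCo F H.MX.toPre (rngA H.MX) rfl rfl fun c hc hn => absurd (H.hA c hc) hn
  have h1 := F.u_of_mem_core K H.MX H.MY H.hA H.hS H.hJ (g := (c : G) * g')
    (by rw [show (c : G) * g' * u * ((c : G) * g')⁻¹ = (c : G) * (g' * u * g'⁻¹) * (c : G)⁻¹ by group]; exact hJ)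
  have h2 : g' * u * g'⁻¹ = u := by
    calc g' * u * g'⁻¹ = (c : G)⁻¹ * ((c : G) * g' * u * ((c : G) * g')⁻¹) * c := by group
      _ = u := by rw [h1, mul_assoc, ← (mem_cent.1 c.2).eq, inv_mul_cancel_left]
  refine (H.D.O_sub i r hr).2 (H.ι_injective ?_)
  rw [h, map_one]
  exact F.pr_eq_one.2 (Or.inr h2)

theorem Om_cases : H.Om = {u} ∨
    (H.Om.ncard = 211 ∨ H.Om.ncard = 281 ∨ H.Om.ncard = 421) ∨
    (H.Om.ncard = 561 ∧ ∀ x ∈ H.Om, x ≠ u → x * u ∈ H.Om) := by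
  classical
  by_cases hone : H.Om = {u}
  · exact Or.inl hone
  right
  obtain ⟨i, hi, hnot⟩ := H.not_over_core
  obtain ⟨k, hk0, hki, hcov⟩ : ∃ k : Fin 3, k ≠ 0 ∧ k ≠ i ∧ ∀ j, j = 0 ∨ j = i ∨ j = k := by
    exact (show ∀ i : Fin 3, i ≠ 0 → ∃ k : Fin 3, k ≠ 0 ∧ k ≠ i ∧ ∀ j, j = 0 ∨ j = i ∨ j = k by decide) i hi
  set Om' := {x | x ∈ H.Om ∧ x ≠ u} with hOm'
  have hone' : (1 : G) ∉ H.Om := fun ⟨_, g, hg⟩ => F.u_ne_one (conj_eq_one_iff.1 hg)
  have hover : ∀ x ∈ Om', ∃ hxu : Commute x u, ∃ r ∈ H.D.O k, H.ι r = pr u (cu hxu) := by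
    rintro x ⟨hx, hxne⟩
    obtain ⟨hxu, e, he, hex⟩ := H.mem_A.1 hx.1
    have he1 : e ≠ 1 := by
      rintro rfl
      rw [map_one] at hex
      rcases F.pr_eq_one.1 hex.symm with e' | e'
      · exact hone' ((show x = 1 from e') ▸ hx)
      · exact hxne e'
    obtain ⟨j, hj⟩ := H.D.O_cover e he he1
    rcases hcov j with rfl | rfl | rfl
    · exact absurd hex (H.not_over_zero hx hxu hj)
    · exact absurd hex (hnot x hx hxu e hj)
    · exact ⟨hxu, e, hj, hex⟩
  obtain ⟨x0, hx0⟩ : Om'.Nonempty := by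
    by_contra hne
    refine hone (Set.eq_singleton_iff_unique_mem.2 ⟨H.u_mem_Om, fun x hx => ?_⟩)
    by_contra hxne
    exact hne ⟨x, hx, hxne⟩
  obtain ⟨hx0u, r0, hr0, hr0e⟩ := hover x0 hx0
  -- all classes are moved by the normaliser
  have hmove : ∀ r ∈ H.D.O k, ∃ c : G, Commute c u ∧ c ∈ normalizer (H.A : Set G) ∧
      ∃ h : Commute (c * x0 * c⁻¹) u, H.ι r = pr u (cu h) := by
    intro r hr
    obtain ⟨n, hn, rfl⟩ := H.D.O_trans k r0 hr0 r hr
    obtain ⟨c, hc⟩ := H.exists_lift n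
    refine ⟨c, mem_cent.1 c.2, ?_, H.conj_lift hc hx0u hr0e⟩
    have key : ∀ a ∈ H.A, (c : G) * a * (c : G)⁻¹ ∈ H.A := fun a ha => by
      obtain ⟨hau, e, he, hea⟩ := H.mem_A.1 ha
      obtain ⟨hh, e'⟩ := H.conj_lift hc hau hea
      exact H.mem_A.2 ⟨hh, _, hn e he, e'⟩
    refine mem_normalizer_iff.2 fun x => ⟨key x, fun hx => ?_⟩
    obtain ⟨⟨y, hy⟩, e⟩ := Finite.surjective_of_injective
      (f := fun y : ↥H.A => (⟨(c : G) * y * (c : G)⁻¹, key y y.2⟩ : ↥H.A))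
      (fun a b e => Subtype.ext (mul_left_cancel (mul_right_cancel (congrArg Subtype.val e)))) ⟨_, hx⟩
    have : y = x := mul_left_cancel (mul_right_cancel (congrArg Subtype.val e))
    exact this ▸ hy
  choose c hcu hcN hch hce using hmove
  have hOm'mem : ∀ r (hr : r ∈ H.D.O k), c r hr * x0 * (c r hr)⁻¹ ∈ Om' := fun r hr =>
    ⟨(H.conj_Om (hcN r hr)).2 hx0.1, fun e => hx0.2 (by
      have := congrArg (fun y => (c r hr)⁻¹ * y * c r hr) e
      simp only [mul_assoc, inv_mul_cancel_left, (hcu r hr).eq.symm] at this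
      simpa [mul_assoc] using this)⟩
  have hux : ∀ r (hr : r ∈ H.D.O k), c r hr * x0 * (c r hr)⁻¹ * u ∈ H.Om ↔ x0 * u ∈ H.Om := fun r hr => by
    rw [← H.conj_Om (hcN r hr) (x := x0 * u), show c r hr * (x0 * u) * (c r hr)⁻¹ =
      c r hr * x0 * (c r hr)⁻¹ * u by rw [mul_assoc _ _ u, (hcu r hr).inv_left.eq]; group]
  have hclass : ∀ x ∈ Om', ∃ r, ∃ hr : r ∈ H.D.O k,
      x = c r hr * x0 * (c r hr)⁻¹ ∨ x = c r hr * x0 * (c r hr)⁻¹ * u := by
    intro x hx
    obtain ⟨hxu, r, hr, hre⟩ := hover x hx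
    exact ⟨r, hr, F.pr_eq.1 ((hce r hr).symm.trans hre)⟩
  have hinjOn : ∀ r (hr : r ∈ H.D.O k) r' (hr' : r' ∈ H.D.O k),
      (c r hr * x0 * (c r hr)⁻¹ = c r' hr' * x0 * (c r' hr')⁻¹ ∨
        c r hr * x0 * (c r hr)⁻¹ = c r' hr' * x0 * (c r' hr')⁻¹ * u) → r = r' := by
    intro r hr r' hr' h
    refine H.ι_injective ((hce r hr).trans ((F.pr_eq.2 ?_).trans (hce r' hr').symm))
    rcases h with e | e
    · exact Or.inl e.symm
    · refine Or.inr ?_
      show c r' hr' * x0 * (c r' hr')⁻¹ = c r hr * x0 * (c r hr)⁻¹ * u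
      rw [e, mul_assoc _ u u, F.uu, mul_one]
  have hins : H.Om.ncard = Om'.ncard + 1 := by
    rw [← Set.ncard_insert_of_notMem (fun h => h.2 rfl) (Set.toFinite Om')]
    congr 1
    ext x
    by_cases hx : x = u
    · simp [hx, H.u_mem_Om]
    · simp [hOm', hx]
  have hsize : classSize k = 210 ∨ classSize k = 280 := by
    exact (show ∀ k : Fin 3, k ≠ 0 → classSize k = 210 ∨ classSize k = 280 by decide) k hk0
  have hcardO : Nat.card ↥(H.D.O k) = classSize k := by rw [Nat.card_coe_set_eq, H.D.O_card]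
  by_cases hfull : x0 * u ∈ H.Om
  · have hn : Om'.ncard = 2 * classSize k := by
      let f : Bool × ↥(H.D.O k) → ↥Om' := fun p => ⟨c p.2 p.2.2 * x0 * (c p.2 p.2.2)⁻¹ * (if p.1 then u else 1), by
        rcases p with ⟨_ | _, r, hr⟩
        · simpa using hOm'mem r hr
        · refine ⟨(hux r hr).2 hfull, fun e => hone' ?_⟩
          have e' : c r hr * x0 * (c r hr)⁻¹ = 1 := mul_eq_right.1 e
          exact (conj_eq_one_iff.1 e') ▸ hx0.1⟩
      have hb : Function.Bijective f := by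
        constructor
        · rintro ⟨a, r, hr⟩ ⟨b, r', hr'⟩ e
          have e' : c r hr * x0 * (c r hr)⁻¹ * (if a then u else 1) =
              c r' hr' * x0 * (c r' hr')⁻¹ * (if b then u else 1) := congrArg Subtype.val e
          cases a <;> cases b <;> simp only [if_true, if_false, Bool.false_eq_true, mul_one] at e'
          · obtain rfl := hinjOn r hr r' hr' (Or.inl e'); rfl
          · obtain rfl := hinjOn r hr r' hr' (Or.inr e')
            exact absurd (left_eq_mul.1 e') F.u_ne_one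
          · obtain rfl := hinjOn r' hr' r hr (Or.inr e'.symm)
            exact absurd (mul_eq_left.1 e') F.u_ne_one
          · obtain rfl := hinjOn r hr r' hr' (Or.inl (mul_right_cancel e')); rfl
        · rintro ⟨x, hx⟩
          obtain ⟨r, hr, e | e⟩ := hclass x hx
          · exact ⟨(false, ⟨r, hr⟩), Subtype.ext (by simp [f, e])⟩
          · exact ⟨(true, ⟨r, hr⟩), Subtype.ext (by simp [f, e])⟩
      rw [← Nat.card_coe_set_eq, ← Nat.card_eq_of_bijective f hb, Nat.card_prod, Nat.card_eq_fintype_card,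
        Fintype.card_bool, hcardO]
    rcases hsize with e | e
    · exact Or.inl (Or.inr (Or.inr (by omega)))
    · refine Or.inr ⟨by omega, fun x hx hxne => ?_⟩
      obtain ⟨r, hr, e' | e'⟩ := hclass x ⟨hx, hxne⟩
      · rw [e']; exact (hux r hr).2 hfull
      · rw [e', mul_assoc _ u u, F.uu, mul_one]; exact (hOm'mem r hr).1
  · have hn : Om'.ncard = classSize k := by
      let f : ↥(H.D.O k) → ↥Om' := fun r => ⟨_, hOm'mem r r.2⟩
      have hb : Function.Bijective f := by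
        constructor
        · rintro ⟨r, hr⟩ ⟨r', hr'⟩ e
          obtain rfl := hinjOn r hr r' hr' (Or.inl (congrArg Subtype.val e))
          rfl
        · rintro ⟨x, hx⟩
          obtain ⟨r, hr, e | e⟩ := hclass x hx
          · exact ⟨⟨r, hr⟩, Subtype.ext e.symm⟩
          · exact absurd ((hux r hr).1 (e ▸ hx.1)) hfull
      rw [← Nat.card_coe_set_eq, ← Nat.card_eq_of_bijective f hb, hcardO]
    refine Or.inl ?_
    omega

/-- A prime number of conjugates in `A` is impossible. -/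
theorem prime_bound {p : ℕ} (hp : p.Prime) (hdvd : p ∣ H.Om.ncard) :
    ∃ j < 10, p ∣ 2 ^ 10 - 2 ^ j := by
  haveI : Fact p.Prime := ⟨hp⟩
  set R := (Subgroup.normalizerMonoidHom (H := H.A)).range with hR
  set a : ↥H.A := ⟨u, H.u_mem_A⟩ with ha
  have horb : Subtype.val '' MulAction.orbit ↥R a = H.Om := by
    ext x
    constructor
    · rintro ⟨_, ⟨⟨φ, hφ⟩, rfl⟩, rfl⟩
      obtain ⟨⟨n, hn⟩, rfl⟩ := hφ
      show n * u * n⁻¹ ∈ H.Om
      exact (H.conj_Om hn).2 H.u_mem_Om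
    · rintro ⟨hx, g, hg⟩
      obtain ⟨n, hn, hnx⟩ := H.trans hx hg
      exact ⟨_, ⟨⟨_, ⟨⟨n, hn⟩, rfl⟩⟩, rfl⟩, hnx⟩
  have hcard : H.Om.ncard ∣ Nat.card ↥R := by
    rw [← horb, Set.ncard_image_of_injective _ Subtype.val_injective, ← Nat.card_coe_set_eq,
      Nat.card_congr (MulAction.orbitEquivQuotientStabilizer ↥R a), ← Subgroup.index]
    exact Subgroup.index_dvd_card _
  obtain ⟨⟨φ, hφR⟩, hφ⟩ := exists_prime_orderOf_dvd_card' (G := ↥R) p (hdvd.trans hcard)
  rw [← Subgroup.orderOf_coe] at hφ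
  change orderOf φ = p at hφ
  set Fx : Subgroup ↥H.A := φ.toMonoidHom.eqLocus (MonoidHom.id ↥H.A) with hFx
  have hA10 : Nat.card ↥H.A = 2 ^ 10 := by rw [H.A_card]; norm_num
  have hdiv : Nat.card ↥Fx ∣ 2 ^ 10 := hA10 ▸ Subgroup.card_subgroup_dvd_card Fx
  obtain ⟨j, hj, hjc⟩ := (Nat.dvd_prime_pow Nat.prime_two).1 hdiv
  have hj10 : j ≠ 10 := by
    rintro rfl
    have htop : Fx = ⊤ := Subgroup.eq_top_of_card_eq _ (hjc.trans hA10.symm)
    have h1 : φ = 1 := MulEquiv.ext fun y => (htop.ge (Subgroup.mem_top y) : y ∈ Fx)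
    rw [h1, orderOf_one] at hφ
    exact hp.one_lt.ne hφ
  refine ⟨j, lt_of_le_of_ne hj hj10, ?_⟩
  have hP : IsPGroup p ↥(Subgroup.zpowers φ) :=
    IsPGroup.of_card (n := 1) (by rw [Nat.card_zpowers, hφ, pow_one])
  have hmod := hP.card_modEq_card_fixedPoints ↥H.A
  have hfix : Nat.card ↥(MulAction.fixedPoints ↥(Subgroup.zpowers φ) ↥H.A) = Nat.card ↥Fx := by
    refine Nat.card_congr (Equiv.subtypeEquivRight fun y => ⟨fun h => h ⟨φ, Subgroup.mem_zpowers φ⟩,
      fun h => ?_⟩)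
    rintro ⟨ψ, hψ⟩
    have : ψ ∈ MulAction.stabilizer (MulAut ↥H.A) y :=
      (Subgroup.zpowers_le.2 (show φ ∈ MulAction.stabilizer (MulAut ↥H.A) y from h)) hψ
    exact this
  rw [hfix, hjc, hA10] at hmod
  exact (Nat.modEq_iff_dvd' (Nat.pow_le_pow_right (by norm_num) hj)).1 hmod.symm

/-- `u` is the only one of its conjugates in `A`. -/
theorem Om_eq : H.Om = {u} := by
  rcases H.Om_cases with h | h | ⟨hn, hu⟩
  · exact h
  · exfalso
    have key : ∀ p, p ∈ [211, 281, 421] → ∀ j < 10, ¬ p ∣ 2 ^ 10 - 2 ^ j := by decide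
    obtain ⟨p, hp, hpp, hpd⟩ : ∃ p, p ∈ [211, 281, 421] ∧ p.Prime ∧ p ∣ H.Om.ncard := by
      rcases h with e | e | e <;> rw [e] <;> exact ⟨_, by decide, by norm_num, dvd_rfl⟩
    obtain ⟨j, hj, hd⟩ := H.prime_bound hpp hpd
    exact key p hp j hj hd
  · exfalso
    have hcl : ∀ a ∈ H.Om, ∀ b ∈ H.Om, a ≠ b → a * b ∈ H.Om := by
      intro a ha b hb hne
      obtain ⟨n, hnN, rfl⟩ := H.trans ha.1 ha.2.choose_spec
      have hw : n⁻¹ * b * n ∈ H.Om := (H.conj_Om hnN).1 (by simpa [mul_assoc] using hb)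
      have hwne : n⁻¹ * b * n ≠ u := fun e => hne (by rw [← e]; group)
      have := (H.conj_Om hnN).2 (hu _ hw hwne)
      rw [(H.A_comm_u hw.1).eq] at this
      simpa [mul_assoc] using this
    have hone : (1 : G) ∉ H.Om := fun ⟨_, g, hg⟩ => F.u_ne_one (conj_eq_one_iff.1 hg)
    let L : Subgroup G :=
      { carrier := H.Om ∪ {1}
        one_mem' := Or.inr rfl
        mul_mem' := by
          rintro a b (ha | ha) (hb | hb)
          · by_cases h : a = b
            · subst h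
              exact Or.inr (H.A_sq ha.1)
            · exact Or.inl (hcl a ha b hb h)
          · rw [Set.mem_singleton_iff.1 hb, mul_one]
            exact Or.inl ha
          · rw [Set.mem_singleton_iff.1 ha, one_mul]
            exact Or.inl hb
          · exact Or.inr (by rw [Set.mem_singleton_iff.1 ha, Set.mem_singleton_iff.1 hb, mul_one]; rfl)
        inv_mem' := by
          rintro a (ha | ha)
          · rw [inv_eq_of_mul_eq_one_right (H.A_sq ha.1)]
            exact Or.inl ha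
          · rw [Set.mem_singleton_iff.1 ha, inv_one]
            exact Or.inr rfl }
    have hc : Nat.card ↥L = 562 := by
      rw [show (↥L) = ↥(H.Om ∪ {1} : Set G) from rfl, Nat.card_coe_set_eq,
        Set.ncard_union_eq (Set.disjoint_singleton_right.2 hone), hn, Set.ncard_singleton]
    have hle : L ≤ H.A := by
      rintro a (ha | ha)
      · exact ha.1
      · rw [Set.mem_singleton_iff.1 ha]
        exact one_mem _
    have := Subgroup.card_dvd_of_le hle
    rw [hc, H.A_card] at this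
    norm_num at this

end Half

end Cfsg.Agent.FiTwentyTwoByTwo
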