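import Cfsg.Agent.Lib.ThreeTransp.U62Cent.AutMain

/-!
# Elementary abelian groups of isometries commuting with a semilinear involution
-/

set_option autoImplicit false
set_option linter.unusedSectionVars false
set_option maxRecDepth 100000

namespace Cfsg.Agent.FiTwentyTwoByTwo

open Subgroup Cfsg.Agent.ThreeTransp.U62Cent Cfsg.Agent.ThreeTransp.U62Cent.W8

theorem w8_neg (v : W8) : -v = v := neg_eq_of_add_eq_zero_left (W8.add_self v)

/-- the fixed vectors of an additive map -/
def fixA (τ : Equiv.Perm W8) (hadd : ∀ v w, τ (v + w) = τ v + τ w) : AddSubgroup W8 where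
  carrier := {v | τ v = v}
  add_mem' := fun {a b} ha hb => by
    show τ (a + b) = a + b
    rw [hadd, show τ a = a from ha, show τ b = b from hb]
  zero_mem' := additive_zero hadd
  neg_mem' := fun {a} ha => by rw [w8_neg]; exact ha

/-- the fixed vectors of `τ` fixed by a whole group -/
def fixG {τ : Equiv.Perm W8} (hadd : ∀ v w, τ (v + w) = τ v + τ w) {A : Subgroup (Equiv.Perm W8)} (hA : A ≤ GN) :
    AddSubgroup W8 where
  carrier := {v | τ v = v ∧ ∀ t ∈ A, t v = v}
  add_mem' := fun {a b} ha hb => ⟨(fixA τ hadd).add_mem ha.1 hb.1, fun t ht => by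
    rw [(hA ht).add, ha.2 t ht, hb.2 t ht]⟩
  zero_mem' := ⟨(fixA τ hadd).zero_mem, fun t ht => (hA ht).map_zero⟩
  neg_mem' := fun {a} ha => by rw [w8_neg]; exact ha

theorem mem_fixG {τ : Equiv.Perm W8} {hadd : ∀ v w, τ (v + w) = τ v + τ w} {A : Subgroup (Equiv.Perm W8)}
    {hA : A ≤ GN} {v : W8} : v ∈ fixG hadd hA ↔ τ v = v ∧ ∀ t ∈ A, t v = v := Iff.rfl

namespace SemiAct

variable {τ : Equiv.Perm W8} (h : N.Semi τ)

include h

theorem card_fix : Nat.card ↥(fixA τ h.add) = 16 := by
  refine le_antisymm ?_ ?_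
  · let f : ↥(fixA τ h.add) × ↥(fixA τ h.add) → W8 := fun p => (p.1 : W8) + W8.sig p.2
    have hf : Function.Injective f := by
      rintro ⟨⟨a, ha⟩, ⟨b, hb⟩⟩ ⟨⟨a', ha'⟩, ⟨b', hb'⟩⟩ e
      have e1 : a + W8.sig b = a' + W8.sig b' := e
      have e2 := congrArg τ e1
      rw [h.add, h.add, h.semi, h.semi, show τ a = a from ha, show τ b = b from hb, show τ a' = a' from ha',
        show τ b' = b' from hb', W8.sig_sig, W8.sig_sig, ← add_assoc, ← add_assoc, e1] at e2
      obtain rfl : b = b' := add_left_cancel e2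
      obtain rfl : a = a' := add_right_cancel e1
      rfl
    have := Nat.card_le_card_of_injective f hf
    rw [Nat.card_prod, show Nat.card W8 = 256 from (show Nat.card (Fin 256) = 256 by simp)] at this
    by_contra hlt
    push Not at hlt
    nlinarith
  · exact (ncard_fix_ge h.add h.inv).trans_eq (Nat.card_coe_set_eq _).symm

variable {A : Subgroup (Equiv.Perm W8)} (hA : A ≤ GN) (hc : ∀ t ∈ A, ∀ v, t (τ v) = τ (t v))

include hA

omit hc in
theorem fixG_le : fixG h.add hA ≤ fixA τ h.add := fun _ hv => hv.1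

omit hc in
theorem eq_bot_of_fix_all (hall : fixA τ h.add ≤ fixG h.add hA) : A = ⊥ :=
  (eq_bot_iff_forall _).2 fun t ht => h.ext (hA ht) (GN.one_mem) fun v hv => (hall hv).2 t ht

include hc

/-- At most two elements fix eight fixed vectors. -/
theorem card_le_two {U : AddSubgroup W8} (hU : U ≤ fixG h.add hA) (h8 : 8 ≤ Nat.card ↥U) : Nat.card ↥A ≤ 2 := by
  classical
  by_cases hall : fixA τ h.add ≤ fixG h.add hA
  · rw [eq_bot_of_fix_all h hA hall, card_bot]; norm_num
  obtain ⟨v0, hv0, hv0G⟩ := SetLike.not_le_iff_exists.1 hall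
  refine h.small hA hc (K := (fixG h.add hA : Set W8)) (v0 := v0) hv0 (fun k hk => hk.1) (fun v hv => ?_)
    fun t ht k hk => hk.2 t ht
  by_contra hcov
  push Not at hcov
  obtain ⟨hvK, hvK'⟩ := hcov
  set K : Set W8 := (fixG h.add hA : Set W8) with hK
  have hsub : ((fun k => v0 + k) '' K) ∪ K ∪ ((fun k => v + k) '' K) ⊆ (fixA τ h.add : Set W8) := by
    rintro x ((⟨k, hk, rfl⟩ | hx) | ⟨k, hk, rfl⟩)
    exacts [add_mem hv0 hk.1, hx.1, add_mem (show v ∈ fixA τ h.add from hv) hk.1]
  have hd1 : Disjoint ((fun k => v0 + k) '' K) K := Set.disjoint_left.2 fun x ⟨k, hk, e⟩ hx => hv0G (by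
    have := (fixG h.add hA).add_mem (show v0 + k ∈ fixG h.add hA by rw [show v0 + k = x from e]; exact hx) hk
    rwa [add_assoc, W8.add_self, add_zero] at this)
  have hd2 : Disjoint (((fun k => v0 + k) '' K) ∪ K) ((fun k => v + k) '' K) := Set.disjoint_left.2 (by
    rintro x hx ⟨k, hk, rfl⟩
    rcases hx with ⟨k', hk', e⟩ | hx
    · refine hvK' ?_
      have := (fixG h.add hA).add_mem hk hk'
      rwa [show k + k' = v + v0 from W8.eq_of_add (by
        calc k + k' + (v + v0) = (v0 + k') + (v + k) := by abel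
          _ = 0 := by rw [show v0 + k' = v + k from e, W8.add_self])] at this
    · refine hvK ?_
      have := (fixG h.add hA).add_mem hx hk
      rwa [add_assoc, W8.add_self, add_zero] at this)
  have := Set.ncard_le_ncard hsub (Set.toFinite _)
  rw [Set.ncard_union_eq hd2, Set.ncard_union_eq hd1, Set.ncard_image_of_injective _ (add_right_injective _),
    Set.ncard_image_of_injective _ (add_right_injective _),
    ← Nat.card_coe_set_eq (fixA τ h.add : Set W8)] at this
  change _ ≤ Nat.card ↥(fixA τ h.add) at this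
  rw [card_fix h] at this
  have h8' : 8 ≤ K.ncard := h8.trans ((AddSubgroup.card_le_of_le hU).trans_eq (Nat.card_coe_set_eq _))
  omega

end SemiAct

/-- An abelian group of exponent two commuting with a semilinear involution has order at most sixteen. -/
theorem semi_card_le {τ : Equiv.Perm W8} (h : N.Semi τ) {A : Subgroup (Equiv.Perm W8)} (hA : A ≤ GN)
    (hc : ∀ t ∈ A, ∀ v, t (τ v) = τ (t v)) (hexp : ∀ r ∈ A, r * r = 1)
    (hcom : ∀ r ∈ A, ∀ s ∈ A, r * s = s * r) : Nat.card ↥A ≤ 16 := by
  classical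
  have hFix : ∀ {B : Subgroup (Equiv.Perm W8)} (hB : B ≤ A), Nat.card ↥(fixG h.add (hB.trans hA)) ≤ 16 :=
    fun hB => (AddSubgroup.card_le_of_le (SemiAct.fixG_le h (hB.trans hA))).trans_eq (SemiAct.card_fix h)
  -- orbit and stabiliser
  have horb : ∀ {B : Subgroup (Equiv.Perm W8)}, B ≤ A → ∀ v, Nat.card ↥B =
      ((fun t : Equiv.Perm W8 => t v) '' (B : Set (Equiv.Perm W8))).ncard *
        Nat.card ↥(B ⊓ MulAction.stabilizer (Equiv.Perm W8) v) := by
    intro B hB v
    have h1 := (MulAction.stabilizer ↥B v).card_mul_index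
    rw [MulAction.index_stabilizer] at h1
    have h2 : MulAction.orbit ↥B v = (fun t : Equiv.Perm W8 => t v) '' (B : Set (Equiv.Perm W8)) :=
      Set.ext fun w => ⟨fun ⟨t, e⟩ => ⟨t.1, t.2, e⟩, fun ⟨t, ht, e⟩ => ⟨⟨t, ht⟩, e⟩⟩
    have h3 : Nat.card ↥(MulAction.stabilizer ↥B v) = Nat.card ↥(B ⊓ MulAction.stabilizer (Equiv.Perm W8) v) :=
      Nat.card_congr
      { toFun := fun t => ⟨t.1.1, t.1.2, t.2⟩
        invFun := fun t => ⟨⟨t.1, t.2.1⟩, t.2.2⟩
        left_inv := fun _ => rfl
        right_inv := fun _ => rfl }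
    rw [h2, h3] at h1
    rw [← h1, mul_comm]
  by_cases hlong : ∃ v, τ v = v ∧ 3 ≤ ((fun t : Equiv.Perm W8 => t v) '' (A : Set (Equiv.Perm W8))).ncard
  · obtain ⟨v, hv, h3⟩ := hlong
    set B' := A ⊓ MulAction.stabilizer (Equiv.Perm W8) v with hB'
    have hB'le : B' ≤ A := inf_le_left
    set O : Set W8 := (fun t : Equiv.Perm W8 => t v) '' (A : Set (Equiv.Perm W8)) with hO
    have hOfix : ∀ w ∈ O, w ∈ fixG h.add (hB'le.trans hA) := by
      rintro _ ⟨t, ht, rfl⟩
      refine ⟨h.fix_map (hc t ht) hv, fun s hs => ?_⟩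
      have e := congrArg (fun g : Equiv.Perm W8 => g v) (hcom s hs.1 t ht)
      simp only [Equiv.Perm.mul_apply] at e
      show s (t v) = t v
      rw [e, show s v = v from hs.2]
    have hv0 : v ≠ 0 := by
      rintro rfl
      have : O ⊆ {0} := by rintro _ ⟨t, ht, rfl⟩; exact (hA ht).map_zero
      have := Set.ncard_le_ncard this (Set.toFinite _)
      rw [Set.ncard_singleton] at this
      omega
    have hn0 : ∀ {x}, x ∈ O → x ≠ 0 := fun {x} hx e => by
      obtain ⟨t, ht, rfl⟩ := hx
      exact hv0 (t.injective (e.trans (hA ht).map_zero.symm))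
    -- the fixed space of the stabiliser has at least eight vectors
    obtain ⟨k, hk⟩ := AddSubgroup.card_dvd_of_le (SemiAct.fixG_le h (hB'le.trans hA))
    rw [SemiAct.card_fix h] at hk
    have h8 : 8 ≤ Nat.card ↥(fixG h.add (hB'le.trans hA)) := by
      obtain ⟨a, ha, b, hb, c, hcO, hab, hac, hbc⟩ := (Set.two_lt_ncard (Set.toFinite _)).1 (show 2 < O.ncard by omega)
      have hsum : a + b + c = 0 → False := by
        intro e
        obtain ⟨ta, hta, rfl⟩ := ha
        obtain ⟨tb, htb, rfl⟩ := hb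
        obtain ⟨tc, htc, rfl⟩ := hcO
        have key : ∀ {r s : Equiv.Perm W8}, r ∈ A → s ∈ A → ∀ x, r (s x) = s (r x) := fun hr hs x =>
          congrArg (fun g : Equiv.Perm W8 => g x) (hcom _ hr _ hs)
        set r := tb * ta⁻¹ with hr
        have hrA : r ∈ A := A.mul_mem htb (A.inv_mem hta)
        have hra : r (ta v) = tb v := by simp [hr, Equiv.Perm.mul_apply]
        have hrb : r (tb v) = ta v := by
          rw [← hra]
          exact congrArg (fun g : Equiv.Perm W8 => g (ta v)) (hexp r hrA)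
        have e1 := congrArg r e
        rw [(hA hrA).add, (hA hrA).add, hra, hrb, (hA hrA).map_zero, add_comm (tb v) (ta v)] at e1
        have e2 : r (tc v) = tc v := add_left_cancel (e1.trans e.symm)
        refine hab ?_
        have e3 : r v = v := tc.injective (by rw [key htc hrA]; exact e2)
        show ta v = tb v
        rw [← hra, key hrA hta, e3]
      have hsub : ({0, a, b, a + b, c} : Set W8) ⊆ (fixG h.add (hB'le.trans hA) : Set W8) := by
        intro x hx
        rcases hx with rfl | rfl | rfl | rfl | rfl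
        exacts [zero_mem _, hOfix _ ha, hOfix _ hb, add_mem (hOfix _ ha) (hOfix _ hb), hOfix _ hcO]
      have h5' : ({0, a, b, a + b, c} : Set W8).ncard = 5 := by
        have n1 : a + b ∉ ({c} : Set W8) := fun e => hsum (by rw [Set.mem_singleton_iff.1 e, W8.add_self])
        have n2 : b ∉ ({a + b, c} : Set W8) := by
          rintro (e | e)
          exacts [hn0 ha (right_eq_add.1 e), hbc e]
        have n3 : a ∉ ({b, a + b, c} : Set W8) := by
          rintro (e | e | e)
          exacts [hab e, hn0 hb (left_eq_add.1 e), hac e]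
        have n4 : (0 : W8) ∉ ({a, b, a + b, c} : Set W8) := by
          rintro (e | e | e | e)
          exacts [hn0 ha e.symm, hn0 hb e.symm, hab (W8.eq_of_add e.symm), hn0 hcO e.symm]
        rw [Set.ncard_insert_of_notMem n4 (Set.toFinite _), Set.ncard_insert_of_notMem n3 (Set.toFinite _),
          Set.ncard_insert_of_notMem n2 (Set.toFinite _), Set.ncard_insert_of_notMem n1 (Set.toFinite _),
          Set.ncard_singleton]
      have := Set.ncard_le_ncard hsub (Set.toFinite _)
      rw [h5', ← Nat.card_coe_set_eq] at this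
      change 5 ≤ Nat.card ↥(fixG h.add (hB'le.trans hA)) at this
      generalize Nat.card ↥(fixG h.add (hB'le.trans hA)) = m at hk this ⊢
      by_contra hlt
      interval_cases m <;> omega
    have hle2 : Nat.card ↥B' ≤ 2 := SemiAct.card_le_two h (hB'le.trans hA) (fun t ht => hc t ht.1) le_rfl h8
    have hO15 : O.ncard + 1 ≤ Nat.card ↥(fixG h.add (hB'le.trans hA)) := by
      have h0 : (0 : W8) ∉ O := fun hx => hn0 hx rfl
      rw [← SetLike.coe_sort_coe, Nat.card_coe_set_eq, ← Set.ncard_insert_of_notMem h0 (Set.toFinite _)]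
      exact Set.ncard_le_ncard (Set.insert_subset (zero_mem (fixG h.add (hB'le.trans hA))) hOfix) (Set.toFinite _)
    rw [horb le_rfl v, ← hB', ← hO]
    by_cases hfull : fixA τ h.add ≤ fixG h.add (hB'le.trans hA)
    · rw [SemiAct.eq_bot_of_fix_all h _ hfull, card_bot, mul_one]
      have := hFix hB'le
      omega
    · have hk1 : k ≠ 1 := fun e => hfull (AddSubgroup.eq_of_le_of_card_ge (SemiAct.fixG_le h (hB'le.trans hA))
        (by rw [SemiAct.card_fix h, hk, e, mul_one])).ge
      rcases k with _ | _ | k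
      · omega
      · omega
      · nlinarith
  · push Not at hlong
    have key : ∀ n, ∀ (B : Subgroup (Equiv.Perm W8)) (hB : B ≤ A), Nat.card ↥B = n →
        Nat.card ↥B * Nat.card ↥(fixG h.add (hB.trans hA)) ≤ 16 := by
      intro n
      induction n using Nat.strong_induction_on with
      | _ n ih =>
      intro B hB hn
      set hBG := hB.trans hA
      by_cases hall : fixA τ h.add ≤ fixG h.add hBG
      · obtain rfl := SemiAct.eq_bot_of_fix_all h hBG hall
        rw [card_bot, one_mul]
        exact hFix hB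
      obtain ⟨v, hv, hvG⟩ := SetLike.not_le_iff_exists.1 hall
      set B' := B ⊓ MulAction.stabilizer (Equiv.Perm W8) v with hB'
      have hB'le : B' ≤ B := inf_le_left
      have hcard := horb hB v
      set O : Set W8 := (fun t : Equiv.Perm W8 => t v) '' (B : Set (Equiv.Perm W8)) with hO
      have hO2 : O.ncard = 2 := by
        refine le_antisymm ((Set.ncard_le_ncard (Set.image_mono hB) (Set.toFinite _)).trans
          (Nat.le_of_lt_succ (hlong v hv))) ?_
        have hex : ∃ t ∈ B, t v ≠ v := by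
          by_contra hcon
          push Not at hcon
          exact hvG ⟨hv, hcon⟩
        obtain ⟨t, ht, hne⟩ := hex
        exact (Set.one_lt_ncard (Set.toFinite _)).2 ⟨v, ⟨1, B.one_mem, rfl⟩, t v, ⟨t, ht, rfl⟩, Ne.symm hne⟩
      rw [hO2, ← hB'] at hcard
      have hpos : 0 < Nat.card ↥B' := Nat.card_pos
      have hstrict : 2 * Nat.card ↥(fixG h.add hBG) ≤ Nat.card ↥(fixG h.add (hB'le.trans hBG)) := by
        have hle : fixG h.add hBG ≤ fixG h.add (hB'le.trans hBG) := fun w hw => ⟨hw.1, fun t ht => hw.2 t ht.1⟩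
        obtain ⟨k, hk⟩ := AddSubgroup.card_dvd_of_le hle
        have hne : k ≠ 1 := fun e => hvG (by
          have := AddSubgroup.eq_of_le_of_card_ge hle (by rw [hk, e, mul_one])
          rw [this]
          exact ⟨hv, fun t ht => ht.2⟩)
        have hk0 : k ≠ 0 := fun e => by
          have : 0 < Nat.card ↥(fixG h.add (hB'le.trans hBG)) := Nat.card_pos
          rw [hk, e, mul_zero] at this
          exact lt_irrefl _ this
        rw [hk, mul_comm 2]
        exact Nat.mul_le_mul_left _ (by omega)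
      have h1 := ih _ (by omega) B' (hB'le.trans hB) rfl
      calc Nat.card ↥B * Nat.card ↥(fixG h.add hBG)
          = Nat.card ↥B' * (2 * Nat.card ↥(fixG h.add hBG)) := by rw [hcard]; ring
        _ ≤ _ := (Nat.mul_le_mul_left _ hstrict).trans h1
    have hpos : 0 < Nat.card ↥(fixG h.add (le_rfl.trans hA)) := Nat.card_pos
    exact le_trans (Nat.le_mul_of_pos_right _ hpos) (key _ A le_rfl rfl)

end Cfsg.Agent.FiTwentyTwoByTwo
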