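import Cfsg.Agent.Lib.FiTwentyTwoByTwo.CaseAOmega

/-!
# Case A: `u` is weakly closed in its centraliser
-/

set_option autoImplicit false
set_option linter.unusedSectionVars false
set_option linter.style.haveILetI false

namespace Cfsg.Agent.FiTwentyTwoByTwo

open Subgroup Cfsg.Agent.ThreeTransp.U62Cent Cfsg.Agent.ThreeTransp.U62Cent.W8

universe u'

variable {G : Type u'} [Group G] [Finite G] {z u : G}

/-- A semilinear involution leaves at least seven non-zero singular fixed vectors, with hermitian products. -/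
theorem fix_singular {τ : Equiv.Perm W8} (h : N.Semi τ) :
    7 ≤ {w | τ w = w ∧ qe true w = false ∧ w ≠ 0}.ncard := by
  classical
  set S := {w | τ w = w ∧ qe true w = false} with hS
  have h16 : {w | τ w = w}.ncard = 16 := by
    rw [← Nat.card_coe_set_eq]
    exact SemiAct.card_fix h
  have h8 : 8 ≤ S.ncard := by
    by_cases hall : ∀ w, τ w = w → qe true w = false
    · rw [show S = {w | τ w = w} from Set.ext fun w => ⟨fun hw => hw.1, fun hw => ⟨hw, hall w hw⟩⟩, h16]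
      norm_num
    · push Not at hall
      obtain ⟨a, ha, hqa⟩ := hall
      have hqa' : qe true a = true := by simpa using hqa
      have hsub : {w | τ w = w} \ S ⊆ (fun w => a + w) '' S := by
        rintro w ⟨hw, hwS⟩
        have hqw : qe true w = true := by
          cases hq : qe true w
          · exact absurd ⟨hw, hq⟩ hwS
          · rfl
        refine ⟨a + w, ⟨by rw [h.add, ha, show τ w = w from hw], by
          rw [qe_add, hqa', hqw, h.fix_bb ha hw]; rfl⟩, ?_⟩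
        show a + (a + w) = w
        rw [← add_assoc, W8.add_self, zero_add]
      have h1 := (Set.ncard_le_ncard hsub (Set.toFinite _)).trans (Set.ncard_image_le (Set.toFinite _))
      rw [Set.ncard_sdiff (fun w hw => hw.1), h16] at h1
      omega
  have hins : S ⊆ insert 0 {w | τ w = w ∧ qe true w = false ∧ w ≠ 0} := fun w hw => by
    by_cases h0 : w = 0
    · exact Or.inl h0
    · exact Or.inr ⟨hw.1, hw.2, h0⟩
  have := h8.trans ((Set.ncard_le_ncard hins (Set.toFinite _)).trans (Set.ncard_insert_le _ _))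
  omega

namespace Half

variable {F : Frame z u} {Q : Type} [Group Q] [Finite Q] (H : Half F Q)

include H

/-- inner conjugates of `u` commuting with `u` are `u` -/
theorem inner_eq {v g : G} (hg : g * u * g⁻¹ = v) (hvu : Commute v u) (hX : pr u (cu hvu) ∈ H.X₀) : v = u := by
  obtain ⟨q, hq⟩ := H.exists_ι hX
  have hv2 : v * v = 1 := by
    rw [← hg, show g * u * g⁻¹ * (g * u * g⁻¹) = g * (u * u) * g⁻¹ by group, F.uu, mul_one, mul_inv_cancel]
  have hq2 : q * q = 1 := H.ι_injective (by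
    rw [map_mul, hq, ← map_mul, map_one, show cu hvu * cu hvu = 1 from Subtype.ext hv2, map_one])
  obtain ⟨n, hn⟩ := H.D.conj_into q hq2
  obtain ⟨c, hc⟩ := H.exists_lift n
  obtain ⟨hh, e⟩ := H.conj_lift hc hvu hq
  have h1 : (c : G) * v * (c : G)⁻¹ ∈ H.Om :=
    ⟨H.mem_A.2 ⟨hh, _, hn, e⟩, (c : G) * g, by rw [← hg]; group⟩
  rw [H.Om_eq, Set.mem_singleton_iff] at h1
  calc v = (c : G)⁻¹ * ((c : G) * v * (c : G)⁻¹) * c := by group
    _ = u := by rw [h1, mul_assoc, ← (mem_cent.1 c.2).eq, inv_mul_cancel_left]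

set_option maxHeartbeats 800000 in
/-- there are no outer ones centralising `z` -/
theorem no_outer {v g : G} (hg : g * u * g⁻¹ = v) (hvz : Commute v z) :
    pr u (cu (H.hA v hvz)) ∈ H.X₀ := by
  by_contra hout
  let K : Co z u := mkCo F H.MX.toPre (rngA H.MX) rfl rfl fun c hc hn => absurd (H.hA c hc) hn
  have hvu := H.hA v hvz
  have hKe : K.e = true := H.he
  have hv2 : v * v = 1 := by
    rw [← hg, show g * u * g⁻¹ * (g * u * g⁻¹) = g * (u * u) * g⁻¹ by group, F.uu, mul_one, mul_inv_cancel]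
  have hvi : v⁻¹ = v := inv_eq_of_mul_eq_one_right hv2
  set τ := K.img v with hτ
  have hc : v ∈ cH z u := mem_cH.2 ⟨hvz, hvu⟩
  have hτeq : τ = H.MX.π (F.rho ⟨v, hc⟩) := imgOf_eq F H.MX.toPre hc
  have himg : H.MX.img (pr u (cu hvu)) = τ := by rw [hτeq]; exact H.MX.img_eq (F.rho_mem ⟨v, hc⟩)
  have hτI : τ ∉ H.MX.I := fun h => hout (H.hinf.ge (H.MX.mem_inner.2
    ⟨mem_cent.1 (F.rho_mem ⟨v, hc⟩), himg.symm ▸ h⟩)).1
  have hτR : τ ∈ H.MX.π.range := by rw [hτeq]; exact ⟨_, rfl⟩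
  have hτ2 : τ * τ = 1 := by
    rw [hτeq, ← map_mul, ← map_mul, show (⟨v, hc⟩ : ↥(cH z u)) * ⟨v, hc⟩ = 1 from Subtype.ext hv2, map_one,
      map_one]
  have hS := H.MX.nat_semi_struct H.hN H.he hτR hτI hτ2
  -- the parity of a commutator
  have key : ∀ w, τ w = w → qe true w = false → w ≠ 0 → ∀ j ∈ O2c z, K.vec j = W8.sig w →
      v * j * v⁻¹ * j⁻¹ ∈ O2c z ∧ K.vec (v * j * v⁻¹ * j⁻¹) = w ∧
        ∃ h : Commute (g⁻¹ * (v * j * v⁻¹ * j⁻¹) * g) u, pr u (cu h) ∉ H.X₀ := by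
    intro w hw hq hw0 j hj hjw
    set μ := v * j * v⁻¹ * j⁻¹ with hμ
    have hμJ : μ ∈ O2c z := mul_mem (conj_O2c hvz hj) (inv_mem hj)
    have hvec : K.vec μ = w := by
      rw [hμ, K.vec_mul (conj_O2c hvz hj) (inv_mem hj), K.vec_inv hj, K.vec_conj hvz hvu hj, hjw]
      exact hS.fix_im hw
    have hμ2 : μ * μ = 1 := by rw [K.sq hμJ, hvec, hKe, hq, zb_false]
    refine ⟨hμJ, hvec, ?_⟩
    set v' := j * v * j⁻¹ with hv'
    have hμv : μ = v * v' := by rw [hμ, hv', hvi]; group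
    have hv'2 : v' * v' = 1 := by
      rw [hv', show j * v * j⁻¹ * (j * v * j⁻¹) = j * (v * v) * j⁻¹ by group, hv2]; group
    have hcom : Commute v v' := by
      have h := inv_eq_of_mul_eq_one_right hμ2
      rw [hμv, _root_.mul_inv_rev, hvi, inv_eq_of_mul_eq_one_right hv'2] at h
      exact h.symm
    set w' := g⁻¹ * v' * g with hw'
    have hw'u : Commute w' u := by
      have h := conj_commute g⁻¹ hcom.symm
      rwa [inv_inv, ← hg, show g⁻¹ * (g * u * g⁻¹) * g = u by group] at h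
    have he' : g⁻¹ * μ * g = u * w' := by rw [hμv, hw', ← hg]; group
    have hh : Commute (g⁻¹ * μ * g) u := he' ▸ (Commute.refl u).mul_left hw'u
    refine ⟨hh, fun hX => ?_⟩
    have hpr : pr u (cu hh) = pr u (cu hw'u) := F.pr_eq.2 (Or.inr (by
      show w' = g⁻¹ * μ * g * u
      rw [he', ← hw'u.eq, mul_assoc, F.uu, mul_one]))
    have := H.inner_eq (g := g⁻¹ * j * g) (v := w') (by rw [hw', hv', ← hg]; group) hw'u (hpr ▸ hX)
    refine hw0 ?_
    rw [← hvec, show μ = v * v' from hμv, show v' = v by rw [← hg, ← this, hw']; group, hv2, K.vec_one]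
  have pair : ∀ a b, τ a = a → τ b = b → qe true a = false → qe true b = false → a ≠ 0 → b ≠ 0 → a ≠ b →
      bb (W8.sig a) b = true := by
    intro a b ha hb hqa hqb ha0 hb0 hab
    by_contra hcon
    have hbb : bb (W8.sig a) b = false := by simpa using hcon
    set j1 := K.lift (W8.sig a) with hj1
    set j2 := K.lift (W8.sig b) with hj2
    obtain ⟨h1J, h1v, h1c, h1X⟩ := key a ha hqa ha0 j1 (K.lift_mem _) (K.vec_lift _)
    obtain ⟨h2J, h2v, h2c, h2X⟩ := key b hb hqb hb0 j2 (K.lift_mem _) (K.vec_lift _)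
    obtain ⟨-, -, h12c, h12X⟩ := key (a + b) (by rw [hS.add, ha, hb])
      (by rw [qe_add, hqa, hqb, hS.fix_bb ha hb]; rfl) (fun e => hab (W8.eq_of_add e))
      (j1 * j2) (mul_mem (K.lift_mem _) (K.lift_mem _))
      (by rw [K.vec_mul (K.lift_mem _) (K.lift_mem _), K.vec_lift, K.vec_lift, W8.sig_add])
    have hc1 : Commute j1 (v * j2 * v⁻¹ * j2⁻¹) :=
      (K.commute_iff_bb (K.lift_mem _) h2J).2 (by rw [K.vec_lift, h2v, hbb])
    have hprod : v * (j1 * j2) * v⁻¹ * (j1 * j2)⁻¹ =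
        (v * j1 * v⁻¹ * j1⁻¹) * (v * j2 * v⁻¹ * j2⁻¹) := by
      calc v * (j1 * j2) * v⁻¹ * (j1 * j2)⁻¹
          = v * j1 * v⁻¹ * (v * j2 * v⁻¹ * j2⁻¹) * j1⁻¹ := by group
        _ = v * j1 * v⁻¹ * ((v * j2 * v⁻¹ * j2⁻¹) * j1⁻¹) := by rw [mul_assoc]
        _ = _ := by rw [← hc1.inv_left.eq, ← mul_assoc]
    refine h12X ?_
    have e : cu h12c = cu h1c * cu h2c := Subtype.ext (by
      show g⁻¹ * (v * (j1 * j2) * v⁻¹ * (j1 * j2)⁻¹) * g = _
      rw [hprod]
      show _ = g⁻¹ * (v * j1 * v⁻¹ * j1⁻¹) * g * (g⁻¹ * (v * j2 * v⁻¹ * j2⁻¹) * g)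
      group)
    rw [e, map_mul]
    exact (mul_mem_iff_of_index_two H.hidx).2 (iff_of_false h1X h2X)
  have h7 := fix_singular hS
  set W := {w | τ w = w ∧ qe true w = false ∧ w ≠ 0} with hW
  obtain ⟨a, ha⟩ : W.Nonempty := Set.nonempty_of_ncard_ne_zero (by omega)
  obtain ⟨b, hb, hba⟩ := Set.exists_ne_of_one_lt_ncard (show 1 < W.ncard by omega) a
  obtain ⟨c, hc', hcne⟩ : ∃ c ∈ W, c ∉ ({a, b, a + b} : Set W8) := by
    by_contra hcon
    push Not at hcon
    have h3 := Set.ncard_le_ncard (show W ⊆ {a, b, a + b} from hcon) (Set.toFinite _)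
    have h4 : ({a, b, a + b} : Set W8).ncard ≤ 3 :=
      (Set.ncard_insert_le _ _).trans (Nat.succ_le_succ ((Set.ncard_insert_le _ _).trans
        (Nat.succ_le_succ (Set.ncard_singleton _).le)))
    omega
  simp only [Set.mem_insert_iff, Set.mem_singleton_iff, not_or] at hcne
  obtain ⟨hca, hcb, hcab⟩ := hcne
  have e1 := pair a b ha.1 hb.1 ha.2.1 hb.2.1 ha.2.2 hb.2.2 (Ne.symm hba)
  have e2 := pair a c ha.1 hc'.1 ha.2.1 hc'.2.1 ha.2.2 hc'.2.2 (Ne.symm hca)
  have e3 := pair a (b + c) ha.1 (by rw [hS.add, hb.1, hc'.1]) ha.2.1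
    (by rw [qe_add, hb.2.1, hc'.2.1, hS.fix_bb hb.1 hc'.1]; rfl) ha.2.2
    (fun e => hcb (W8.eq_of_add e).symm)
    (fun e => hcab (by rw [e, add_comm b c, add_assoc, W8.add_self, add_zero]))
  rw [bb_add_right, e1, e2] at e3
  exact absurd e3 (by decide)

/-- `u` is isolated. -/
theorem weakly_closed {v g : G} (hg : g * u * g⁻¹ = v) (hvu : Commute v u) : v = u := by
  haveI : Fact (Nat.Prime 2) := ⟨Nat.prime_two⟩
  have hv2 : v * v = 1 := by
    rw [← hg, show g * u * g⁻¹ * (g * u * g⁻¹) = g * (u * u) * g⁻¹ by group, F.uu, mul_one, mul_inv_cancel]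
  have hp : IsPGroup 2 ↥(zpowers v) := fun x => ⟨1, by
    obtain ⟨k, hk⟩ := mem_zpowers_iff.1 x.2
    refine Subtype.ext ?_
    show (x : G) ^ 2 ^ 1 = 1
    rw [pow_one, pow_two, ← hk, ← (Commute.refl v).mul_zpow, hv2, one_zpow]⟩
  obtain ⟨c, hc, hcS⟩ := F.conj_into H.hS (x := u) H.hA hp (fun t ht => by
    obtain ⟨k, rfl⟩ := mem_zpowers_iff.1 ht
    exact hvu.zpow_left k)
  have hz : Commute (c⁻¹ * v * c) z := mem_cent.1 (H.hS (hcS v (mem_zpowers v)))
  have hg' : c⁻¹ * g * u * (c⁻¹ * g)⁻¹ = c⁻¹ * v * c := by rw [← hg]; group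
  have h := H.inner_eq hg' (H.hA _ hz) (H.no_outer hg' hz)
  calc v = c * (c⁻¹ * v * c) * c⁻¹ := by group
    _ = u := by rw [h, hc.eq, mul_inv_cancel_right]

end Half

end Cfsg.Agent.FiTwentyTwoByTwo
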