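import Cfsg.Agent.Lib.FiTwentyTwoByTwo.Basic

/-!
# The shape `2 × 2^{1+8}` of the core: consequences of the hypotheses
-/

set_option autoImplicit false
set_option linter.unusedSectionVars false

namespace Cfsg.Agent.FiTwentyTwoByTwo

open Subgroup Cfsg.Agent.ThreeTransp.U62Cent
open scoped commutatorElement

universe u'

variable {G : Type u'} [Group G]

/-- the core of `C(z)` is `⟨u⟩ × E` with `E` extraspecial of order `2^9` and self-centralising -/
structure Frame (z u : G) : Prop where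
  zz : z * z = 1
  z_ne : z ≠ 1
  uu : u * u = 1
  u_ne_one : u ≠ 1
  u_ne : u ≠ z
  z_mem : z ∈ O2c z
  u_mem : u ∈ O2c z
  u_cent : ∀ x ∈ O2c z, Commute x u
  card : Nat.card ↥(O2c z) = 1024
  center : ∀ x ∈ O2c z, (∀ y ∈ O2c z, Commute x y) → InZ z u x
  sq : ∀ x ∈ O2c z, x * x = 1 ∨ x * x = z
  comm : ∀ x ∈ O2c z, ∀ y ∈ O2c z, x * y = y * x ∨ x * y = z * (y * x)
  cent : ∀ c, (∀ j ∈ O2c z, Commute c j) → c ∈ O2c z
  compl : ∃ E : Subgroup G, E ≤ O2c z ∧ Cfsg.IsExtraspecial 2 ↥E ∧ Nat.card ↥E = 512 ∧ z ∈ E ∧ u ∉ E ∧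
    ∀ x ∈ O2c z, x ∈ E ∨ u * x ∈ E

/-- squares in an extraspecial 2-group are central -/
theorem extra_sq {P : Type*} [Group P] (h : Cfsg.IsExtraspecial 2 P) (e : P) : e * e ∈ center P := by
  haveI : Finite ↥(center P) := Nat.finite_of_card_ne_zero (by rw [h.2]; norm_num)
  refine mem_center_iff.2 fun f => ?_
  have hc : ⁅e, f⁆ ∈ center P := h.1.2.2 ▸ commutator_mem_commutator (mem_top e) (mem_top f)
  have hcf : Commute e ⁅e, f⁆ := mem_center_iff.1 hc e
  have h2 : ⁅e, f⁆ * ⁅e, f⁆ = 1 := by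
    have : (⟨⁅e, f⁆, hc⟩ : ↥(center P)) ^ Nat.card ↥(center P) = 1 := pow_card_eq_one'
    rw [h.2, pow_two] at this
    exact congrArg Subtype.val this
  have e1 : e * f * e⁻¹ = ⁅e, f⁆ * f := by rw [commutatorElement_def]; group
  symm
  refine mul_inv_eq_iff_eq_mul.1 ?_
  calc e * e * f * (e * e)⁻¹ = e * (e * f * e⁻¹) * e⁻¹ := by group
    _ = (e * ⁅e, f⁆ * e⁻¹) * (e * f * e⁻¹) := by rw [e1]; group
    _ = f := by rw [hcf.eq, mul_inv_cancel_right, e1, ← mul_assoc, h2, one_mul]

theorem extra_nonabelian {P : Type*} [Group P] (h : Cfsg.IsExtraspecial 2 P) :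
    ∃ x y : P, x * y ≠ y * x := by
  by_contra hc
  push Not at hc
  have h1 : commutator P = ⊥ := by
    rw [_root_.commutator_def, commutator_eq_bot_iff_le_centralizer]
    exact fun x _ => mem_centralizer_iff.2 fun y _ => hc y x
  have h2 := h.2
  rw [← h.1.2.2, h1, card_bot] at h2
  exact absurd h2 (by norm_num)

theorem frame_of_hyp [Finite G] {z : G} (hz : orderOf z = 2)
    {A E : Subgroup ↥(centralizer ({z} : Set G))}
    (hAE : Cfsg.IsInternalDirectProduct A E (Cfsg.pCore 2 ↥(centralizer ({z} : Set G))))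
    (hA : Nat.card ↥A = 2) (hE : Cfsg.IsExtraspecial 2 ↥E) (hEc : Nat.card ↥E = 2 ^ 9)
    {zc : ↥(centralizer ({z} : Set G))} (hzc : (zc : G) = z)
    (hJ' : ⁅(Cfsg.pCore 2 ↥(centralizer ({z} : Set G))), (Cfsg.pCore 2 ↥(centralizer ({z} : Set G)))⁆ =
      zpowers zc)
    (hCJ : centralizer ((Cfsg.pCore 2 ↥(centralizer ({z} : Set G))) : Set ↥(centralizer ({z} : Set G))) ≤
      Cfsg.pCore 2 ↥(centralizer ({z} : Set G))) : ∃ u, Frame z u := by
  classical
  obtain ⟨hAP, hEP, hAE', hinf, hsup⟩ := hAE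
  have hzz : z * z = 1 := by rw [← pow_two, ← hz]; exact pow_orderOf_eq_one z
  have hz1 : z ≠ 1 := fun e => by rw [e, orderOf_one] at hz; norm_num at hz
  have hzc1 : zc ≠ 1 := fun e => hz1 (by rw [← hzc, e]; rfl)
  have hzc2 : zc * zc = 1 := Subtype.ext (by rw [Subgroup.coe_mul, hzc]; exact hzz)
  have hcases : ∀ {w}, w ∈ zpowers zc → w = 1 ∨ w = zc := by
    rintro _ ⟨k, rfl⟩
    rcases Int.even_or_odd k with ⟨m, rfl⟩ | ⟨m, rfl⟩
    · left
      show zc ^ (m + m) = 1
      rw [zpow_add, ← (Commute.refl zc).mul_zpow, hzc2, one_zpow]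
    · right
      show zc ^ (2 * m + 1) = zc
      rw [zpow_add, zpow_mul, zpow_one, zpow_two, hzc2, one_zpow, one_mul]
  have hcomm : ∀ x ∈ (Cfsg.pCore 2 ↥(centralizer ({z} : Set G))), ∀ y ∈ (Cfsg.pCore 2 ↥(centralizer ({z} : Set G))), x * y = y * x ∨ x * y = zc * (y * x) := by
    intro x hx y hy
    rcases hcases (hJ' ▸ commutator_mem_commutator hx hy) with e | e
    · exact Or.inl (commutatorElement_eq_one_iff_mul_comm.1 e)
    · right; rw [← e, commutatorElement_def]; group
  obtain ⟨x0, y0, hxy⟩ := extra_nonabelian hE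
  have hzE : zc ∈ E ∧ ∃ h : zc ∈ E, (⟨zc, h⟩ : ↥E) ∈ center ↥E := by
    have he : ⁅(x0 : ↥(centralizer ({z} : Set G))), (y0 : ↥(centralizer ({z} : Set G)))⁆ = zc := by
      refine (hcases (hJ' ▸ commutator_mem_commutator (hEP x0.2) (hEP y0.2))).resolve_left fun e => hxy ?_
      exact Subtype.ext (commutatorElement_eq_one_iff_mul_comm.1 e)
    have hmem : zc ∈ E := he ▸ (⁅x0, y0⁆ : ↥E).2
    refine ⟨hmem, hmem, ?_⟩
    have : (⟨zc, hmem⟩ : ↥E) = ⁅x0, y0⁆ := Subtype.ext he.symm
    rw [this, ← hE.1.2.2]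
    exact commutator_mem_commutator (mem_top _) (mem_top _)
  obtain ⟨hzE, _, hzEc⟩ := hzE
  have hEctr : ∀ w : ↥E, w ∈ center ↥E → (w : ↥(centralizer ({z} : Set G))) = 1 ∨ (w : ↥(centralizer ({z} : Set G))) = zc := by
    intro w hw
    by_contra hne
    push Not at hne
    have h3 : ({1, ⟨zc, hzE⟩, w} : Finset ↥E).card = 3 := by
      rw [Finset.card_eq_three]
      exact ⟨1, ⟨zc, hzE⟩, w, fun e => hzc1 (congrArg Subtype.val e).symm,
        fun e => hne.1 (congrArg Subtype.val e).symm, fun e => hne.2 (congrArg Subtype.val e).symm, rfl⟩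
    have hle : (({1, ⟨zc, hzE⟩, w} : Finset ↥E) : Set ↥E) ⊆ (center ↥E : Set ↥E) := by
      intro x hx
      simp only [Finset.coe_insert, Finset.coe_singleton, Set.mem_insert_iff, Set.mem_singleton_iff] at hx
      rcases hx with rfl | rfl | rfl
      exacts [one_mem _, hzEc, hw]
    have h4 := Set.ncard_le_ncard hle (Set.toFinite _)
    rw [Set.ncard_coe_finset, h3, ← Nat.card_coe_set_eq] at h4
    have h5 := hE.2
    exact absurd (h4.trans h5.le) (by norm_num)
  -- the complement
  obtain ⟨⟨u, hu⟩, hu1⟩ : ∃ u : ↥A, u ≠ 1 := by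
    haveI : Nontrivial ↥A := Finite.one_lt_card_iff_nontrivial.1 (by rw [hA]; norm_num)
    exact exists_ne 1
  have hu1' : u ≠ 1 := fun e => hu1 (Subtype.ext e)
  have hA' : ∀ a ∈ A, a = 1 ∨ a = u := by
    intro a ha
    by_contra hne
    push Not at hne
    have h3 : ({1, ⟨u, hu⟩, ⟨a, ha⟩} : Finset ↥A).card = 3 := by
      rw [Finset.card_eq_three]
      exact ⟨1, ⟨u, hu⟩, ⟨a, ha⟩, fun e => hu1' (congrArg Subtype.val e).symm,
        fun e => hne.1 (congrArg Subtype.val e).symm, fun e => hne.2 (congrArg Subtype.val e).symm, rfl⟩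
    letI := Fintype.ofFinite ↥A
    have h4 := Finset.card_le_univ ({1, ⟨u, hu⟩, ⟨a, ha⟩} : Finset ↥A) (α := ↥A)
    rw [h3, ← Nat.card_eq_fintype_card, hA] at h4
    omega
  have huu : u * u = 1 := by
    rcases hA' _ (mul_mem hu hu) with e | e
    · exact e
    · exact absurd (mul_eq_left.1 e) hu1'
  have huE : u ∉ E := fun h => hu1' (by
    have : u ∈ A ⊓ E := ⟨hu, h⟩
    rwa [hinf, mem_bot] at this)
  have huc : ∀ f ∈ E, u * f = f * u := fun f hf => hAE' u hu f hf
  let S : Subgroup ↥(centralizer ({z} : Set G)) :=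
    { carrier := {x | x ∈ E ∨ u * x ∈ E}
      one_mem' := Or.inl (one_mem _)
      mul_mem' := by
        rintro x y (hx | hx) (hy | hy)
        · exact Or.inl (mul_mem hx hy)
        · right
          rw [← mul_assoc, huc x hx, mul_assoc]
          exact mul_mem hx hy
        · right
          rw [← mul_assoc]
          exact mul_mem hx hy
        · left
          have h := mul_mem hx hy
          have hxu : x * u = u * x := by
            have h1 := huc _ hx
            rw [mul_assoc u x u] at h1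
            exact (mul_left_cancel h1).symm
          rwa [mul_assoc u x, ← mul_assoc x, hxu, mul_assoc u x y, ← mul_assoc u u, huu, one_mul] at h
      inv_mem' := by
        rintro x (hx | hx)
        · exact Or.inl (inv_mem hx)
        · right
          have h1 : (u * x)⁻¹ = u * x⁻¹ := by
            have h3 : Commute u x := by
              have h2 := huc _ hx
              rw [mul_assoc u x u] at h2
              exact mul_left_cancel h2
            rw [mul_inv_rev, inv_eq_of_mul_eq_one_right huu]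
            exact h3.inv_right.eq.symm
          rw [← h1]
          exact inv_mem hx }
  have hS : (Cfsg.pCore 2 ↥(centralizer ({z} : Set G))) ≤ S := by
    rw [← hsup, sup_le_iff]
    refine ⟨fun a ha => ?_, fun e he => Or.inl he⟩
    rcases hA' a ha with rfl | rfl
    · exact Or.inl (one_mem _)
    · exact Or.inr (by rw [huu]; exact one_mem _)
  -- `u` is central in the core
  have hucP : ∀ x ∈ (Cfsg.pCore 2 ↥(centralizer ({z} : Set G))), u * x = x * u := by
    intro x hx
    rcases hS hx with h | h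
    · exact huc x h
    · have := huc _ h
      rw [mul_assoc u x u] at this
      exact mul_left_cancel this
  have hsqP : ∀ x ∈ (Cfsg.pCore 2 ↥(centralizer ({z} : Set G))), x * x = 1 ∨ x * x = zc := by
    intro x hx
    have key : ∀ f (hf : f ∈ E), f * f = 1 ∨ f * f = zc := fun f hf => hEctr _ (extra_sq hE ⟨f, hf⟩)
    rcases hS hx with h | h
    · exact key x h
    · have e : u * x * (u * x) = x * x := by
        rw [(show Commute u x from hucP x hx).symm.mul_mul_mul_comm, huu, one_mul]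
      rw [← e]
      exact key _ h
  have hctrP : ∀ x ∈ (Cfsg.pCore 2 ↥(centralizer ({z} : Set G))), (∀ y ∈ (Cfsg.pCore 2 ↥(centralizer ({z} : Set G))), x * y = y * x) → x = 1 ∨ x = zc ∨ x = u ∨ x = u * zc := by
    intro x hx hc
    rcases hS hx with h | h
    · rcases hEctr ⟨x, h⟩ (mem_center_iff.2 fun f => Subtype.ext (hc f (hEP f.2)).symm) with e | e
      · exact Or.inl e
      · exact Or.inr (Or.inl e)
    · have hf : ∀ f : ↥E, (u * x) * (f : ↥(centralizer ({z} : Set G))) = f * (u * x) := fun f => by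
        rw [mul_assoc, hc f (hEP f.2), ← mul_assoc, huc f f.2, mul_assoc]
      have ex : x = u * (u * x) := by rw [← mul_assoc, huu, one_mul]
      rcases hEctr ⟨u * x, h⟩ (mem_center_iff.2 fun f => Subtype.ext (hf f).symm) with e | e
      · right; right; left; rw [ex, show u * x = 1 from e, mul_one]
      · right; right; right; rw [ex, show u * x = zc from e]
  -- the order of the core
  have hcard : Nat.card ↥(Cfsg.pCore 2 ↥(centralizer ({z} : Set G))) = 1024 := by
    let f : Bool × ↥E → ↥(Cfsg.pCore 2 ↥(centralizer ({z} : Set G))) := fun p => ⟨(if p.1 then u else 1) * p.2,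
      mul_mem (by cases p.1 <;> simp [hAP hu, one_mem]) (hEP p.2.2)⟩
    have hb : Function.Bijective f := by
      constructor
      · rintro ⟨a, x⟩ ⟨b, y⟩ h
        have h' : (if a then u else 1) * (x : ↥(centralizer ({z} : Set G))) = (if b then u else 1) * (y : ↥(centralizer ({z} : Set G))) := congrArg Subtype.val h
        cases a <;> cases b <;> simp only [if_true, if_false, Bool.false_eq_true, one_mul] at h'
        · exact congrArg _ (Subtype.ext h')
        · exact absurd (by rw [eq_mul_inv_of_mul_eq h'.symm]; exact mul_mem x.2 (inv_mem y.2)) huE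
        · exact absurd (by rw [eq_mul_inv_of_mul_eq h']; exact mul_mem y.2 (inv_mem x.2)) huE
        · exact congrArg _ (Subtype.ext (mul_left_cancel h'))
      · rintro ⟨x, hx⟩
        rcases hS hx with h | h
        · exact ⟨(false, ⟨x, h⟩), Subtype.ext (one_mul x)⟩
        · exact ⟨(true, ⟨u * x, h⟩), Subtype.ext (show u * (u * x) = x by rw [← mul_assoc, huu, one_mul])⟩
    rw [← Nat.card_eq_of_bijective f hb, Nat.card_prod, hEc, Nat.card_eq_fintype_card, Fintype.card_bool]
    norm_num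
  -- move to `G`
  have hmem : ∀ {x : G}, x ∈ O2c z ↔ ∃ h : x ∈ (centralizer ({z} : Set G)), (⟨x, h⟩ : ↥(centralizer ({z} : Set G))) ∈ (Cfsg.pCore 2 ↥(centralizer ({z} : Set G))) := fun {x} =>
    ⟨fun ⟨c, hc, e⟩ => e ▸ ⟨c.2, hc⟩, fun ⟨h, hx⟩ => ⟨⟨x, h⟩, hx, rfl⟩⟩
  have hzP : zc ∈ (Cfsg.pCore 2 ↥(centralizer ({z} : Set G))) := hEP hzE
  refine ⟨(u : G), ⟨hzz, hz1, congrArg Subtype.val huu, fun e => hu1' (Subtype.ext e),
    fun e => huE (by rwa [show u = zc from Subtype.ext (e.trans hzc.symm)]),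
    hmem.2 ⟨mem_cent.2 (Commute.refl z), by rwa [show (⟨z, _⟩ : ↥(centralizer ({z} : Set G))) = zc from Subtype.ext hzc.symm]⟩,
    ⟨u, hAP hu, rfl⟩, ?_, ?_, ?_, ?_, ?_, ?_, ?_⟩⟩
  · intro x hx
    obtain ⟨h, hx⟩ := hmem.1 hx
    exact (congrArg Subtype.val (hucP _ hx)).symm
  · rw [card_map_of_injective (centralizer ({z} : Set G)).subtype_injective]; exact hcard
  · intro x hx hc
    obtain ⟨h, hx⟩ := hmem.1 hx
    rcases hctrP _ hx fun y hy => Subtype.ext (hc y ⟨y, hy, rfl⟩) with e | e | e | e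
    · exact Or.inl (congrArg Subtype.val e)
    · exact Or.inr (Or.inl ((congrArg Subtype.val e).trans hzc))
    · exact Or.inr (Or.inr (Or.inl (congrArg Subtype.val e)))
    · refine Or.inr (Or.inr (Or.inr ?_))
      have := congrArg Subtype.val e
      rwa [Subgroup.coe_mul, hzc] at this
  · intro x hx
    obtain ⟨h, hx⟩ := hmem.1 hx
    exact (hsqP _ hx).imp (congrArg Subtype.val) fun e => (congrArg Subtype.val e).trans hzc
  · intro x hx y hy
    obtain ⟨h, hx⟩ := hmem.1 hx
    obtain ⟨h', hy⟩ := hmem.1 hy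
    refine (hcomm _ hx _ hy).imp (congrArg Subtype.val) fun e => ?_
    have := congrArg Subtype.val e
    simpa [hzc] using this
  · intro c hc
    have hcC : c ∈ (centralizer ({z} : Set G)) := mem_cent.2 (hzc ▸ hc _ ⟨zc, hzP, rfl⟩)
    exact ⟨⟨c, hcC⟩, hCJ (mem_centralizer_iff.2 fun j hj => Subtype.ext (hc j ⟨j, hj, rfl⟩).eq.symm), rfl⟩
  · refine ⟨E.map (centralizer ({z} : Set G)).subtype, map_mono hEP,
      Cfsg.Agent.LargeExtra.isExtraspecial_of_equiv hE (E.equivMapOfInjective (centralizer ({z} : Set G)).subtype (centralizer ({z} : Set G)).subtype_injective),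
      by rw [card_map_of_injective (centralizer ({z} : Set G)).subtype_injective, hEc]; norm_num, ⟨zc, hzE, hzc⟩, ?_, ?_⟩
    · rintro ⟨e, he, heu⟩
      exact huE ((centralizer ({z} : Set G)).subtype_injective heu ▸ he)
    · intro x hx
      obtain ⟨h, hx⟩ := hmem.1 hx
      exact (hS hx).imp (fun h' => ⟨_, h', rfl⟩) fun h' => ⟨_, h', rfl⟩

end Cfsg.Agent.FiTwentyTwoByTwo
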