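import Cfsg.Agent.Lib.FiTwentyTwoByTwo.NoPair

/-!
# Fusion of the central elements inside `C(z)`, and the action of all of `C(z)` on the core
-/

set_option autoImplicit false
set_option linter.unusedSectionVars false

namespace Cfsg.Agent.FiTwentyTwoByTwo

open Subgroup Cfsg.Agent.ThreeTransp.U62Cent Cfsg.Agent.ThreeTransp.U62Cent.W8

universe u'

variable {G : Type u'} [Group G] [Finite G] {z u : G}

namespace Co

variable (K : Co z u)

include K

/-- two elements moving `u` have their product fixing it -/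
theorem outer_mul {x y : G} (hx : Commute x z) (hy : Commute y z) (hxu : ¬ Commute x u)
    (hyu : ¬ Commute y u) : Commute (x * y) u := by
  have e1 : x * u * x⁻¹ = u * z := (K.perm x hx).resolve_left fun h => hxu (mul_inv_eq_iff_eq_mul.1 h)
  have e2 : y * u * y⁻¹ = u * z := (K.perm y hy).resolve_left fun h => hyu (mul_inv_eq_iff_eq_mul.1 h)
  refine mul_inv_eq_iff_eq_mul.1 ?_
  calc x * y * u * (x * y)⁻¹ = x * (y * u * y⁻¹) * x⁻¹ := by group
    _ = (x * u * x⁻¹) * (x * z * x⁻¹) := by rw [e2]; group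
    _ = u * z * z := by rw [e1, hx.eq, mul_inv_cancel_right]
    _ = u := by rw [mul_assoc, K.zz, mul_one]

/-- conjugation by `u` of an involution moving it -/
theorem flip_z {x : G} (hx : Commute x z) (hx2 : x * x = 1) (hxu : ¬ Commute x u) :
    u * x * u⁻¹ = x * z := by
  have e1 : x * u * x⁻¹ = u * z := (K.perm x hx).resolve_left fun h => hxu (mul_inv_eq_iff_eq_mul.1 h)
  rw [inv_eq_of_mul_eq_one_right hx2] at e1
  calc u * x * u⁻¹ = (x * x) * (u * x * u) := by rw [hx2, K.u_inv, one_mul]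
    _ = x * ((x * u * x) * u) := by group
    _ = x * (u * z * u) := by rw [e1]
    _ = x * z := by rw [mul_assoc u, ← K.comm_zu.eq, ← mul_assoc u, K.uu, one_mul]

theorem conj_mem_pair (h1 : TI z u) (h2 : TI z (u * z)) {g : G} (hz : Commute (g * u * g⁻¹) z)
    (hu : Commute (g * u * g⁻¹) u) : g * u * g⁻¹ = u ∨ g * u * g⁻¹ = u * z := by
  rcases K.inZ_of_conj h1 h2 g hz hu with e | e | e | e
  · exact absurd (by simpa using e) K.u_ne_one
  · refine absurd ?_ (K.not_conj g⁻¹).1
    rw [← e]; group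
  · exact Or.inl e
  · exact Or.inr e

/-- Every conjugate of `u` in `C(z)` is `u` or `uz`. -/
theorem fusion_u (h1 : TI z u) (h2 : TI z (u * z)) (g : G) (hz : Commute (g * u * g⁻¹) z) :
    g * u * g⁻¹ = u ∨ g * u * g⁻¹ = u * z := by
  refine K.conj_mem_pair h1 h2 hz ?_
  by_contra hvu
  set v := g * u * g⁻¹ with hv
  have hv2 : v * v = 1 := by
    rw [hv, show g * u * g⁻¹ * (g * u * g⁻¹) = g * (u * u) * g⁻¹ by group, K.uu]; group
  have hflip := K.flip_z hz hv2 hvu
  have hzu' : Commute (g⁻¹ * z * g) u := by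
    have := conj_commute g⁻¹ hz.symm
    rwa [hv, show g⁻¹ * (g * u * g⁻¹) * g⁻¹⁻¹ = u by group, inv_inv] at this
  set w := g⁻¹ * (v * z) * g with hw
  have hwe : w = u * (g⁻¹ * z * g) := by rw [hw, hv]; group
  have hwu : Commute w u := by rw [hwe]; exact (Commute.refl u).mul_left hzu'
  have hw2 : w * w = 1 := by
    rw [hwe, hzu'.mul_mul_mul_comm, K.uu, one_mul,
      show g⁻¹ * z * g * (g⁻¹ * z * g) = g⁻¹ * (z * z) * g by group, K.zz]
    group
  obtain ⟨o, ho, hoc⟩ := h1.exists_into K.comm_zu.symm K.zz hwu hw2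
  have hou := oCore_le u ho
  have hz' : Commute (o⁻¹ * w * o) z := by
    have := conj_commute o⁻¹ hoc.symm
    rwa [show o⁻¹ * (o * z * o⁻¹) * o⁻¹⁻¹ = z by group, inv_inv] at this
  have hu' : Commute (o⁻¹ * w * o) u := (hou.inv_left.mul_left hwu).mul_left hou
  have he : o⁻¹ * w * o = (o⁻¹ * g⁻¹ * u * g) * u * (o⁻¹ * g⁻¹ * u * g)⁻¹ := by
    rw [hw, ← hflip, hv]; group
  rw [he] at hz' hu'
  rcases K.conj_mem_pair h1 h2 hz' hu' with e | e <;> rw [← he] at e
  · have : w = u := by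
      calc w = o * (o⁻¹ * w * o) * o⁻¹ := by group
        _ = u := by rw [e, hou.eq, mul_inv_cancel_right]
    rw [hwe, mul_eq_left] at this
    exact K.z_ne (by
      have := congrArg (fun y => g * y * g⁻¹) this
      simpa [mul_assoc] using this)
  · have hm : g⁻¹ * z * g = o * z * o⁻¹ := by
      have : w = u * (o * z * o⁻¹) := by
        calc w = o * (o⁻¹ * w * o) * o⁻¹ := by group
          _ = (o * u * o⁻¹) * (o * z * o⁻¹) := by rw [e]; group
          _ = _ := by rw [hou.eq, mul_inv_cancel_right]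
      rw [hwe] at this
      exact mul_left_cancel this
    have hgo : Commute (g * o) z := by
      refine mul_inv_eq_iff_eq_mul.1 ?_
      calc g * o * z * (g * o)⁻¹ = g * (o * z * o⁻¹) * g⁻¹ := by group
        _ = z := by rw [← hm]; group
    have hve : v = g * o * u * (g * o)⁻¹ := by
      calc v = g * (u * o) * o⁻¹ * g⁻¹ := by rw [hv]; group
        _ = _ := by rw [← hou.eq]; group
    refine hvu ?_
    rw [hve]
    rcases K.perm _ hgo with e' | e' <;> rw [e']
    exact (Commute.refl u).mul_left K.comm_zu.symm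

/-- A conjugate of `z` in `C(z) ∩ C(u)` is `z`. -/
theorem fusion_z (h1 : TI z u) (h2 : TI z (u * z)) (g : G) (hz : Commute (g * z * g⁻¹) z)
    (hu : Commute (g * z * g⁻¹) u) : g * z * g⁻¹ = z := by
  have key : ∀ {x : G}, Commute (g * z * g⁻¹) x → Commute (g⁻¹ * x * g⁻¹⁻¹) z := fun {x} hx => by
    have := conj_commute g⁻¹ hx.symm
    rwa [show g⁻¹ * (g * z * g⁻¹) * g⁻¹⁻¹ = z by group] at this
  have hA := K.fusion_u h1 h2 g⁻¹ (key hu)
  have hB := K.swap.fusion_u h2 (by rwa [mul_assoc, K.zz, mul_one]) g⁻¹ (key (hu.mul_right hz))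
  rw [mul_assoc u z z, K.zz, mul_one] at hB
  have hne : g⁻¹ * u * g⁻¹⁻¹ ≠ g⁻¹ * (u * z) * g⁻¹⁻¹ := fun e =>
    K.u_ne_uz (mul_left_cancel (mul_right_cancel e))
  have hprod : g⁻¹ * z * g⁻¹⁻¹ = (g⁻¹ * u * g⁻¹⁻¹) * (g⁻¹ * (u * z) * g⁻¹⁻¹) := by
    conv_lhs => rw [← K.uz_uz]
    group
  have hz' : g⁻¹ * z * g⁻¹⁻¹ = z := by
    rw [hprod]
    rcases hA with a | a <;> rcases hB with b | b <;> rw [a, b] at hne ⊢
    · exact K.uz_uz
    · exact absurd rfl hne
    · exact absurd rfl hne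
    · rw [K.comm_zu.eq, mul_assoc, K.uu, mul_one]
  calc g * z * g⁻¹ = g * (g⁻¹ * z * g⁻¹⁻¹) * g⁻¹ := by rw [hz']
    _ = z := by group

theorem conj_inZ {c x : G} (hc : Commute c z) (hx : InZ z u x) : InZ z u (c * x * c⁻¹) := by
  obtain ⟨p, q, rfl⟩ := K.inZ_iff.1 hx
  have e : c * zu z u p q * c⁻¹ = (c * zb z p * c⁻¹) * (c * zb u q * c⁻¹) := by unfold zu; group
  rw [e]
  refine K.inZ_mul ?_ ?_
  · cases p
    · simp [InZ, zb]
    · rw [zb_true, hc.eq, mul_inv_cancel_right]; exact Or.inr (Or.inl rfl)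
  · cases q
    · simp [InZ, zb]
    · rw [zb_true]; exact K.inZ_conj_u hc

/-- the action of `C(z)` on the core modulo the centre -/
noncomputable def act (c : G) (v : W8) : W8 := K.vec (c * K.lift v * c⁻¹)

theorem act_vec {c x : G} (hc : Commute c z) (hx : x ∈ O2c z) :
    K.vec (c * x * c⁻¹) = K.act c (K.vec x) := by
  set l := K.lift (K.vec x) with hl
  have hlJ : l ∈ O2c z := K.lift_mem _
  have hζ : InZ z u (l⁻¹ * x) := K.eq_mul_inZ hlJ hx (K.vec_lift _)
  have e : c * x * c⁻¹ = (c * l * c⁻¹) * (c * (l⁻¹ * x) * c⁻¹) := by group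
  have hζ' := K.conj_inZ hc hζ
  rw [e, K.vec_mul (conj_O2c hc hlJ) (K.inZ_mem hζ'), (K.vec_eq_zero (K.inZ_mem hζ')).2 hζ', add_zero]
  rfl

theorem act_add {c : G} (hc : Commute c z) (v w : W8) : K.act c (v + w) = K.act c v + K.act c w := by
  have e := K.act_vec hc (mul_mem (K.lift_mem v) (K.lift_mem w))
  rw [K.vec_mul (K.lift_mem v) (K.lift_mem w), K.vec_lift, K.vec_lift] at e
  rw [← e, show c * (K.lift v * K.lift w) * c⁻¹ = (c * K.lift v * c⁻¹) * (c * K.lift w * c⁻¹) by group,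
    K.vec_mul (conj_O2c hc (K.lift_mem v)) (conj_O2c hc (K.lift_mem w))]
  rfl

theorem act_mul {c d : G} (hc : Commute c z) (hd : Commute d z) (v : W8) :
    K.act (c * d) v = K.act c (K.act d v) := by
  have e := K.act_vec hc (conj_O2c hd (K.lift_mem v))
  rw [show c * (d * K.lift v * d⁻¹) * c⁻¹ = c * d * K.lift v * (c * d)⁻¹ by group] at e
  exact e

theorem act_one (v : W8) : K.act 1 v = v := by simp [act, K.vec_lift]

theorem act_img {c : G} (hc : Commute c z) (hcu : Commute c u) (v : W8) : K.act c v = K.img c v := by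
  rw [act, K.vec_conj hc hcu (K.lift_mem v), K.vec_lift]

theorem act_q {c : G} (hc : Commute c z) (v : W8) : qe K.e (K.act c v) = qe K.e v := by
  have h1 := K.sq (conj_O2c hc (K.lift_mem v))
  rw [show c * K.lift v * c⁻¹ * (c * K.lift v * c⁻¹) = c * (K.lift v * K.lift v) * c⁻¹ by group,
    K.sq (K.lift_mem v), K.vec_lift] at h1
  change _ = zb z (qe K.e (K.act c v)) at h1
  revert h1
  cases qe K.e v <;> cases qe K.e (K.act c v) <;>
    simp [zb, hc.eq, K.z_ne, K.z_ne.symm]

/-- the action of an element of `C(z)` as a permutation -/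
noncomputable def actP {c : G} (hc : Commute c z) : Equiv.Perm W8 where
  toFun := K.act c
  invFun := K.act c⁻¹
  left_inv v := by rw [← K.act_mul hc.inv_left hc, inv_mul_cancel, K.act_one]
  right_inv v := by rw [← K.act_mul hc hc.inv_left, mul_inv_cancel, K.act_one]

theorem actP_apply {c : G} (hc : Commute c z) (v : W8) : K.actP hc v = K.act c v := rfl

theorem actP_isInv {c : G} (hc : Commute c z) (hc2 : c * c = 1) : IsInv K.e (K.actP hc) :=
  ⟨⟨K.act_add hc, K.act_q hc, fun h => absurd h (by decide)⟩, Equiv.ext fun v => by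
    show K.act c (K.act c v) = v
    rw [← K.act_mul hc hc, hc2, K.act_one]⟩

end Co

end Cfsg.Agent.FiTwentyTwoByTwo
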