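import Cfsg.Agent.Lib.FiTwentyTwoByTwo.Lifts
import Cfsg.Agent.Lib.FiTwentyTwoByTwo.Scalar

/-!
# The partner of a conjugate of `u` is outside the core
-/

set_option autoImplicit false
set_option linter.unusedSectionVars false

namespace Cfsg.Agent.FiTwentyTwoByTwo

open Subgroup Cfsg.Agent.ThreeTransp.U62Cent Cfsg.Agent.ThreeTransp.U62Cent.W8

universe u'

variable {G : Type u'} [Group G] [Finite G] {z u v a : G}

namespace Pr

variable (P : Pr z u v a) (K : Co z u)

include P K

theorem v_img_ne (h1 : TI z u) (h2 : TI z (u * z)) : K.img v ≠ 1 := fun e => by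
  rcases K.cent_in_J ((K.ker P.vz P.vu).1 e) (P.v_sq K) P.az P.au (P.a_sq K)
    fun j hj hc => P.cent_v K h1 (K.J_comm_z hj) (K.J_comm_u hj) hc with h | h
  · exact P.a_nz K h
  · exact P.va_nz K h2 h

theorem va_img_ne (h1 : TI z u) (h2 : TI z (u * z)) : K.img (v * a) ≠ 1 := fun e => by
  rcases K.cent_in_J ((K.ker (P.vz.mul_left P.az) (P.vu.mul_left P.au)).1 e) (P.va_sq K) P.az P.au (P.a_sq K)
    fun j hj hc => P.cent_va K h2 (K.J_comm_z hj) (K.J_comm_u hj) hc with h | h
  · exact P.a_nz K h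
  · exact P.nz (by rwa [mul_assoc, P.a_sq K, mul_one] at h)

/-- The partner is outside the core. -/
theorem a_img_ne (h1 : TI z u) (h2 : TI z (u * z)) : K.img a ≠ 1 := fun e => by
  have haJ : a ∈ O2c z := (K.ker P.az P.au).1 e
  set t := K.img v with ht
  have htv : IsInv K.e t := K.img_isInv P.vz P.vu (P.v_sq K)
  have ht1 : t ≠ 1 := P.v_img_ne K h1 h2
  set d := K.vec a with hd
  have hd0 : d ≠ 0 := fun h => P.a_nz K ((K.vec_eq_zero haJ).1 h)
  have hqd : qe K.e d = false := K.q_of_sq haJ (P.a_sq K)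
  have htd : t d = d := K.fix_of_commute P.vz P.vu haJ (P.va K).symm
  -- some element of `C(z)` moves `u`
  have hR : K.R = K.I := by
    by_contra hne
    refine ht1 (eq_one_of_fix_perp htv hqd fun y hy => ?_)
    have hja : Commute (K.lift y) a :=
      (K.commute_iff_bb (K.lift_mem y) haJ).2 (by rw [K.vec_lift, bb_comm]; exact hy)
    obtain ⟨g, g1, g2⟩ := P.ex
    have hz : Commute (g⁻¹ * K.lift y * g) z := by
      have := conj_commute g⁻¹ hja
      rwa [← g2, show g⁻¹ * (g * z * g⁻¹) * g⁻¹⁻¹ = z by group, inv_inv] at this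
    have hu : Commute (g⁻¹ * K.lift y * g) u := by
      by_contra h
      exact hne (K.inner_only _ hz h)
    have hjv : Commute (K.lift y) v := by
      have := conj_commute g hu
      rwa [g1, show g * (g⁻¹ * K.lift y * g) * g⁻¹ = K.lift y by group] at this
    have := K.fix_of_commute P.vz P.vu (K.lift_mem y) hjv
    rwa [K.vec_lift] at this
  have htI : t ∈ K.I := hR ▸ K.img_mem P.vz P.vu
  -- lifts of fixed vectors orthogonal to `d` commute with `v`
  have hswap : ∀ j ∈ O2c z, t (K.vec j) = K.vec j → Commute j a → Commute j v := by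
    intro j hj hfix hja
    rcases P.perm_a K hja with h | h
    · exact mul_inv_eq_iff_eq_mul.1 h
    · exfalso
      have hm := K.mv_mem P.vz P.vu hj hfix
      have e' : mv v j = a := by
        show v * j * v⁻¹ * j⁻¹ = a
        calc v * j * v⁻¹ * j⁻¹ = v * (j * v * j⁻¹)⁻¹ := by group
          _ = v * (v * a) := by rw [h, inv_eq_of_mul_eq_one_right (P.va_sq K)]
          _ = a := by rw [← mul_assoc, P.v_sq K, one_mul]
      rw [e'] at hm
      exact P.a_nz K hm
  -- elements of order three fixing `d` commute with `t`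
  have hord : ∀ h ∈ K.I, h * (h * h) = 1 → h d = d → h * t = t * h := by
    intro h hh h3 hhd
    obtain ⟨c, hcz, hcu, hc, hc3⟩ := K.lift_three hh h3
    have hm : InZ z u (a⁻¹ * (c * a * c⁻¹)) := K.eq_mul_inZ haJ (conj_O2c hcz haJ) (by
      rw [K.vec_conj hcz hcu haJ, hc, ← hd, hhd])
    set ζ := a⁻¹ * (c * a * c⁻¹) with hζ
    have hca : c * a * c⁻¹ = a * ζ := by rw [hζ]; group
    have hcζ : c * ζ * c⁻¹ = ζ := by rw [(K.inZ_comm hm hcz hcu).eq, mul_inv_cancel_right]
    have hζ1 : ζ = 1 := by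
      have e3 : (c * (c * c)) * a * (c * (c * c))⁻¹ = a * ζ := by
        calc (c * (c * c)) * a * (c * (c * c))⁻¹ = c * (c * (c * a * c⁻¹) * c⁻¹) * c⁻¹ := by group
          _ = c * (c * (a * ζ) * c⁻¹) * c⁻¹ := by rw [hca]
          _ = c * ((c * a * c⁻¹) * (c * ζ * c⁻¹)) * c⁻¹ := by group
          _ = c * (a * (ζ * ζ)) * c⁻¹ := by rw [hca, hcζ, mul_assoc a]
          _ = _ := by rw [K.inZ_sq hm, mul_one, hca]
      rw [hc3] at e3
      simpa using e3
    rw [hζ1, mul_one] at hca
    have hcom : Commute c a := mul_inv_eq_iff_eq_mul.1 hca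
    have hcv : Commute c v := by
      rcases P.perm_a K hcom with h | h
      · exact mul_inv_eq_iff_eq_mul.1 h
      · exfalso
        have e3 : (c * (c * c)) * v * (c * (c * c))⁻¹ = v * a := by
          calc (c * (c * c)) * v * (c * (c * c))⁻¹ = c * (c * (c * v * c⁻¹) * c⁻¹) * c⁻¹ := by group
            _ = c * (c * (v * a) * c⁻¹) * c⁻¹ := by rw [h]
            _ = c * ((c * v * c⁻¹) * (c * a * c⁻¹)) * c⁻¹ := by group
            _ = c * (v * (a * a)) * c⁻¹ := by rw [h, hca, mul_assoc v]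
            _ = _ := by rw [P.a_sq K, mul_one, h]
        rw [hc3] at e3
        have : a = 1 := by simpa using e3
        exact P.a_nz K (Or.inl this)
    rw [← hc, ht, ← K.img_mul hcz hcu P.vz P.vu, hcv.eq, K.img_mul P.vz P.vu hcz hcu]
  rcases K.shape with ⟨he, hN⟩ | hS
  · rcases moved_nat hN htI htv.sq ht1 htd hd0 (he ▸ hqd) with ⟨h64, him⟩ | hM
    · obtain ⟨h, hh, h3, hcom, hne, hsing⟩ := nat_scalar hN htI htv.sq ht1 h64 him hd0
      obtain ⟨c, hcz, hcu, hcv, hc⟩ := K.lift_commute P.vz P.vu (P.v_sq K) hh h3 hcom (fun j hj hfix => by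
        obtain ⟨w, hw⟩ := him
        refine hswap j hj hfix ((K.commute_iff_bb hj haJ).2 ?_)
        rw [← hd, ← hw]
        exact htv.perp_im hfix w) (fun y h1' h2' h3' => hsing y h1' (he ▸ h2') h3')
      refine hne ?_
      rw [← hc, hd]
      exact K.fix_of_commute hcz hcu haJ (P.cent_v K h1 hcz hcu hcv).symm
    · obtain ⟨h, hh, h3, hhd, hne⟩ := hM.not_commute htv.iso.add htv.sq
      exact hne (hord h hh h3 hhd)
  · rcases moved_split hS htI htv.sq ht1 htd with ⟨-, h, hh, h3, hhd, hne⟩ | hM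
    · exact hne (hord h hh h3 hhd)
    · obtain ⟨h, hh, h3, hhd, hne⟩ := hM.not_commute htv.iso.add htv.sq
      exact hne (hord h hh h3 hhd)

end Pr

end Cfsg.Agent.FiTwentyTwoByTwo
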