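import Cfsg.Agent.Lib.FiTwentyTwoByTwo.Quot

/-!
# The group induced by `C(z) ∩ C(u)` on the core
-/

set_option autoImplicit false
set_option linter.unusedSectionVars false
set_option linter.style.haveILetI false

namespace Cfsg.Agent.FiTwentyTwoByTwo

open Subgroup Cfsg.Agent.ThreeTransp.U62Cent

universe u' v w

/-- `PSp₄(3)` is simple of order 25920 and its automorphism group has twice that order. -/
theorem psp_facts {F : Type v} [Field F] [Fintype F] (hF : Fintype.card F = 3) {K : Type w} [Field K] [Fintype K]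
    (hK : Fintype.card K = 4) :
    IsSimpleGroup (Cfsg.PSp 2 F) ∧ Nat.card (Cfsg.PSp 2 F) = 25920 ∧
      Nat.card (MulAut (Cfsg.PSp 2 F)) = 51840 ∧
      Function.Injective (MulAut.conj : Cfsg.PSp 2 F →* MulAut (Cfsg.PSp 2 F)) := by
  classical
  haveI : Fact (Nat.Prime 2) := ⟨Nat.prime_two⟩
  haveI : Fact (Nat.Prime 3) := ⟨Nat.prime_three⟩
  obtain ⟨e2⟩ := Cfsg.Agent.S0822.result (F := K) (K := F) hK hF
  obtain ⟨e3⟩ := Cfsg.Agent.S0303.result (F := ZMod 2) (K := K) (q := 2) (ZMod.card 2)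
    (by rw [hK]; norm_num) (1 : ZMod 2) 1 Cfsg.Agent.SuzukiType.anis
  rw [← Cfsg.Agent.Classical.OrthForms.minQ_eq] at e3
  have hc := Cfsg.Agent.Classical.Orth.natCard_center_one
    (Cfsg.Agent.Classical.OrthForms.minQ_nondeg 2 Cfsg.Agent.SuzukiType.anis)
    (Cfsg.Agent.Classical.OrthForms.minFrame (ZMod 2) le_rfl 1 1) (by simp) (Or.inl (show (2 : ZMod 2) = 0 from rfl))
  rw [Subgroup.card_eq_one] at hc
  let e1 : OmG ≃* Cfsg.PSU 4 K 2 :=
    ((QuotientGroup.quotientMulEquivOfEq hc).trans QuotientGroup.quotientBot).symm.trans e3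
  let ι : Cfsg.PSp 2 F ≃* OmG := e2.symm.trans e1.symm
  haveI : IsSimpleGroup OmG := Cfsg.Agent.SuzukiType.omega_simple
  haveI : Nontrivial (Cfsg.PSp 2 F) := ι.toEquiv.nontrivial
  have hs : IsSimpleGroup (Cfsg.PSp 2 F) :=
    IsSimpleGroup.isSimpleGroup_of_surjective ι.symm.toMonoidHom ι.symm.surjective
  have hcardS : Nat.card (Cfsg.PSp 2 F) = 25920 :=
    (Nat.card_congr ι.toEquiv).trans Cfsg.Agent.SuzukiType.card_omega
  refine ⟨hs, hcardS, ?_, Cfsg.Agent.AutPSp.Count.conj_injective (by norm_num)⟩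
  rw [Cfsg.Agent.AutPSp.Count.card_mulAut 3 1 (by rw [Nat.card_eq_fintype_card, hF]; norm_num) le_rfl, hcardS]
  norm_num

variable {G : Type u'} [Group G] [Finite G] {z u : G}

/-- the map to the automorphism group -/
theorem exists_aut_hom {S : Type v} [Group S]
    [(Cfsg.pCore 2 ↥(centralizer ({z} : Set G))).Normal]
    (e : (↥(centralizer ({z} : Set G)) ⧸ Cfsg.pCore 2 ↥(centralizer ({z} : Set G))) ≃* S) :
    ∃ φ : ↥(centralizer ({z} : Set G)) →* S, Function.Surjective φ ∧ ∀ c, φ c = 1 ↔ (c : G) ∈ O2c z := by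
  refine ⟨e.toMonoidHom.comp (QuotientGroup.mk' _), e.surjective.comp (QuotientGroup.mk'_surjective _),
    fun c => ?_⟩
  show e (QuotientGroup.mk' _ c) = 1 ↔ _
  rw [map_eq_one_iff e e.injective, QuotientGroup.mk'_apply, QuotientGroup.eq_one_iff]
  exact ⟨fun h => ⟨c, h, rfl⟩, fun ⟨d, hd, ed⟩ => ((centralizer ({z} : Set G)).subtype_injective ed) ▸ hd⟩

namespace Frame

variable (F : Frame z u)

include F

/-- case A: the whole centraliser of `z` fixes `u` -/
theorem hom_A {S : Type v} [Group S] (φ : ↥(centralizer ({z} : Set G)) →* S) (hφ : Function.Surjective φ)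
    (hk : ∀ c, φ c = 1 ↔ (c : G) ∈ O2c z) (hA : ∀ c, Commute c z → Commute c u) :
    ∃ ψ : ↥(cH z u) →* S, Function.Surjective ψ ∧ ∀ c, ψ c = 1 ↔ (c : G) ∈ O2c z := by
  refine ⟨φ.comp (inclusion (cH_le z u)), fun s => ?_, fun c => hk _⟩
  obtain ⟨c, rfl⟩ := hφ s
  exact ⟨⟨c, mem_cH.2 ⟨mem_cent.1 c.2, hA _ (mem_cent.1 c.2)⟩⟩, rfl⟩

theorem cH_index (hB : ∃ c, Commute c z ∧ ¬ Commute c u) :
    ((cH z u).subgroupOf (centralizer ({z} : Set G))).index = 2 := by
  obtain ⟨c0, hc0, hc0u⟩ := hB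
  refine index_eq_two_iff.2 ⟨⟨c0, mem_cent.2 hc0⟩, fun d => ?_⟩
  have key : ∀ {x : G}, Commute x z → ¬ Commute x u → x * u * x⁻¹ = u * z := fun hx hn =>
    (F.perm hx).resolve_left fun e => hn (mul_inv_eq_iff_eq_mul.1 e)
  have hd := mem_cent.1 d.2
  simp only [mem_subgroupOf, coe_mul, mem_cH]
  by_cases hdu : Commute (d : G) u
  · refine Or.inr ⟨⟨hd, hdu⟩, fun ⟨_, h⟩ => hc0u ?_⟩
    have := hdu.inv_left.mul_left h
    rwa [inv_mul_cancel_left] at this
  · refine Or.inl ⟨⟨hd.mul_left hc0, mul_inv_eq_iff_eq_mul.1 ?_⟩, fun ⟨_, h⟩ => hdu h⟩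
    calc (d : G) * c0 * u * ((d : G) * c0)⁻¹ = (d : G) * (c0 * u * c0⁻¹) * (d : G)⁻¹ := by group
      _ = ((d : G) * u * (d : G)⁻¹) * ((d : G) * z * (d : G)⁻¹) := by rw [key hc0 hc0u]; group
      _ = u := by rw [key hd hdu, hd.eq, mul_inv_cancel_right, F.uzz]

set_option maxHeartbeats 800000 in
/-- case B: a subgroup of index two induces the inner automorphisms -/
theorem hom_B {S : Type v} [Group S] (hs : IsSimpleGroup S) (hS : Nat.card S = 25920)
    (hA : Nat.card (MulAut S) = 51840) (hconj : Function.Injective (MulAut.conj : S →* MulAut S))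
    (φ : ↥(centralizer ({z} : Set G)) →* MulAut S) (hφ : Function.Surjective φ)
    (hk : ∀ c, φ c = 1 ↔ (c : G) ∈ O2c z) (hB : ∃ c, Commute c z ∧ ¬ Commute c u) :
    ∃ ψ : ↥(cH z u) →* S, Function.Surjective ψ ∧ ∀ c, ψ c = 1 ↔ (c : G) ∈ O2c z := by
  haveI := hs
  haveI : Finite (MulAut S) := Nat.finite_of_card_ne_zero (by rw [hA]; norm_num)
  set cj : S →* MulAut S := MulAut.conj with hcj
  set A := ((cH z u).subgroupOf (centralizer ({z} : Set G))).map φ with hAdef
  have hker : φ.ker ≤ (cH z u).subgroupOf (centralizer ({z} : Set G)) := fun c hc =>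
    mem_subgroupOf.2 (F.J_le_cH ((hk c).1 hc))
  have hA2 : A.index = 2 := by rw [hAdef, index_map_eq _ hφ hker, F.cH_index hB]
  have hcardN : Nat.card ↥cj.range = 25920 := by
    rw [← Nat.card_congr (MonoidHom.ofInjective hconj).toEquiv, hS]
  have hle : cj.range ≤ A := by
    haveI : Nontrivial ↥cj.range := (MonoidHom.ofInjective hconj).symm.toEquiv.nontrivial
    haveI : IsSimpleGroup ↥cj.range :=
      IsSimpleGroup.isSimpleGroup_of_surjective cj.rangeRestrict cj.rangeRestrict_surjective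
    haveI : A.Normal := normal_of_index_eq_two hA2
    rcases (Normal.subgroupOf (inferInstance : A.Normal) cj.range).eq_bot_or_eq_top with h | h
    · exfalso
      have h1 : (A.subgroupOf cj.range).index ∣ A.index := relIndex_dvd_index_of_normal A cj.range
      rw [h, index_bot, hcardN, hA2] at h1
      norm_num at h1
    · exact subgroupOf_eq_top.1 h
  have heq : A = cj.range := by
    refine (eq_of_le_of_card_ge hle ?_).symm
    have e1 := A.card_mul_index
    rw [hA2, hA] at e1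
    rw [hcardN]
    omega
  let inc : ↥(cH z u) →* ↥(centralizer ({z} : Set G)) := inclusion (cH_le z u)
  have hmem : ∀ x, φ (inc x) ∈ cj.range := fun x => heq ▸ mem_map_of_mem φ (mem_subgroupOf.2 x.2)
  refine ⟨(MonoidHom.ofInjective hconj).symm.toMonoidHom.comp ((φ.comp inc).codRestrict cj.range hmem),
    fun s => ?_, fun x => ?_⟩
  · have hs : cj s ∈ A := heq.symm ▸ ⟨s, rfl⟩
    obtain ⟨c, hc, e⟩ := hs
    refine ⟨⟨c, mem_subgroupOf.1 hc⟩, (MonoidHom.ofInjective hconj).symm_apply_eq.2 (Subtype.ext ?_)⟩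
    exact e
  · show (MonoidHom.ofInjective hconj).symm _ = 1 ↔ _
    rw [map_eq_one_iff _ (MonoidHom.ofInjective hconj).symm.injective, ← Subtype.coe_inj]
    exact hk (inc x)

omit F in
theorem card_of_hom {S : Type v} [Group S] {n : ℕ} (hS : Nat.card S = n) (hcard : Nat.card ↥(O2c z) = 1024)
    (hle : O2c z ≤ cH z u) (ψ : ↥(cH z u) →* S) (hψ : Function.Surjective ψ)
    (hk : ∀ c, ψ c = 1 ↔ (c : G) ∈ O2c z) : Nat.card ↥(cH z u) = n * 1024 := by
  rw [ψ.ker.card_eq_card_quotient_mul_card_subgroup,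
    Nat.card_congr (QuotientGroup.quotientKerEquivOfSurjective ψ hψ).toEquiv, hS]
  congr 1
  rw [← hcard]
  exact Nat.card_congr
    { toFun := fun c => ⟨((c : ↥(cH z u)) : G), (hk _).1 c.2⟩
      invFun := fun x => ⟨⟨x, hle x.2⟩, (hk _).2 x.2⟩
      left_inv := fun _ => rfl
      right_inv := fun _ => rfl }

end Frame

end Cfsg.Agent.FiTwentyTwoByTwo
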