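import Cfsg.Agent.Lib.FiTwentyTwoByTwo.OuterInvol

/-!
# When both central elements have centralisers of the first type, `z` is isolated
-/

set_option autoImplicit false
set_option linter.unusedSectionVars false

namespace Cfsg.Agent.FiTwentyTwoByTwo

open Subgroup Cfsg.Agent.ThreeTransp.U62Cent Cfsg.Agent.ThreeTransp.U62Cent.W8

universe u'

variable {G : Type u'} [Group G] [Finite G] {z u : G}

namespace Co

variable (K : Co z u)

include K

/-- A conjugate of `z` in `C(z)` centralises `u`. -/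
theorem conj_z_comm (h1 : TI z u) (h2 : TI z (u * z))
    (hf : ∀ c, Commute c z → (∀ v, K.act c v = v) → Commute c u)
    (g : G) (hz : Commute (g * z * g⁻¹) z) : Commute (g * z * g⁻¹) u := by
  by_contra hu
  obtain ⟨n, hqn, hrfx⟩ := K.act_rfx h1 h2 hz hu hf
  obtain ⟨hS, hnex⟩ := K.split_vector h1 h2 hz hu hqn hrfx
  obtain ⟨hfz, hfu⟩ := K.frame h1 h2 hz hu
  set a := g * z * g⁻¹ with ha
  have ha2 : a * a = 1 := K.conj_sq g
  have hai : a⁻¹ = a := K.conj_z_inv g
  have haJ : a ∉ O2c z := fun h => hu (K.J_comm_u h)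
  -- conjugation by `x = g u g⁻¹` exchanges `z` and `za`
  set x := g * u * g⁻¹ with hx
  have hx2 : x * x = 1 := by
    rw [hx, show g * u * g⁻¹ * (g * u * g⁻¹) = g * (u * u) * g⁻¹ by group, K.uu]; group
  have hxi : x⁻¹ = x := inv_eq_of_mul_eq_one_right hx2
  have hxa : Commute x a := conj_commute g K.comm_zu
  have hxz : x * z * x⁻¹ = z * a := by
    have hflip := K.flip_z hfz (by
      rw [show g⁻¹ * z * g * (g⁻¹ * z * g) = g⁻¹ * (z * z) * g by group, K.zz]; group) hfu
    calc x * z * x⁻¹ = g * (u * (g⁻¹ * z * g) * u⁻¹) * g⁻¹ := by rw [hx]; group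
      _ = g * (g⁻¹ * z * g * z) * g⁻¹ := by rw [hflip]
      _ = _ := by rw [ha]; group
  have hza : z * a = a * z := hz.symm.eq
  -- images of the core part centralising `a`
  have himg : ∀ {p : G}, p ∈ O2c z → Commute p a →
      Commute (x * p * x⁻¹) z ∧ Commute (x * p * x⁻¹) a := by
    intro p hp hpa
    constructor
    · have := conj_commute x ((K.J_comm_z hp).mul_right hpa)
      have e : x * (z * a) * x⁻¹ = z := by
        calc x * (z * a) * x⁻¹ = (x * z * x⁻¹) * (x * a * x⁻¹) := by group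
          _ = z * a * a := by rw [hxz, hxa.eq, mul_inv_cancel_right]
          _ = z := by rw [mul_assoc, ha2, mul_one]
      rwa [e] at this
    · have := conj_commute x hpa
      rwa [hxa.eq, mul_inv_cancel_right] at this
  have hzaJ : z * a ∉ O2c z := fun h => haJ (by
    have := mul_mem K.z_mem h
    rwa [← mul_assoc, K.zz, one_mul] at this)
  have hboth : ∀ {p : G}, p ∈ O2c z → x * p * x⁻¹ ∈ O2c z → qe K.e (K.vec p) = false := by
    intro p hp hp'
    by_contra hq
    refine hzaJ ?_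
    have : x * p * x⁻¹ * (x * p * x⁻¹) = z * a := by
      rw [show x * p * x⁻¹ * (x * p * x⁻¹) = x * (p * p) * x⁻¹ by group, K.sq hp,
        show qe K.e (K.vec p) = true by simpa using hq, zb_true, hxz]
    rw [← this]
    exact mul_mem hp' hp'
  -- some image acts as an involution
  obtain ⟨p0, hp0, hp0a, hp0u, hg1⟩ : ∃ p ∈ O2c z, Commute p a ∧ Commute (x * p * x⁻¹) u ∧
      K.img (x * p * x⁻¹) ≠ 1 := by
    by_contra hc
    push Not at hc
    have hin : ∀ p ∈ O2c z, Commute p a → Commute (x * p * x⁻¹) u → x * p * x⁻¹ ∈ O2c z :=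
      fun p hp hpa hpu => (K.ker (himg hp hpa).1 hpu).1 (hc p hp hpa hpu)
    set W : Set W8 := {y | ∃ p ∈ O2c z, K.vec p = y ∧ Commute p a ∧ x * p * x⁻¹ ∈ O2c z} with hW
    have hWq : ∀ y ∈ W, qe K.e y = false := by
      rintro _ ⟨p, hp, rfl, -, hp'⟩
      exact hboth hp hp'
    have hWadd : ∀ y ∈ W, ∀ w ∈ W, y + w ∈ W := by
      rintro _ ⟨p, hp, rfl, hpa, hp'⟩ _ ⟨q, hq, rfl, hqa, hq'⟩
      refine ⟨p * q, mul_mem hp hq, K.vec_mul hp hq, hpa.mul_left hqa, ?_⟩
      rw [show x * (p * q) * x⁻¹ = (x * p * x⁻¹) * (x * q * x⁻¹) by group]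
      exact mul_mem hp' hq'
    have hWb : ∀ y ∈ W, ∀ w ∈ W, bb y w = false := fun y hy w hw => by
      have h := hWq _ (hWadd y hy w hw)
      rw [qe_add, hWq y hy, hWq w hw] at h
      simpa using h
    have hWn : ∀ y ∈ W, bb y n = false := by
      rintro _ ⟨p, hp, rfl, hpa, -⟩
      exact K.perp_of_commute h1 h2 hz hu hqn hrfx hp hpa
    -- one more vector generates the hyperplane with `W`
    obtain ⟨y1, hy1⟩ : ∃ y1, ∀ y, bb y n = false → y ∈ W ∨ y + y1 ∈ W := by
      by_cases hout : ∃ p ∈ O2c z, Commute p a ∧ ¬ Commute (x * p * x⁻¹) u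
      · obtain ⟨p1, hp1, hp1a, hp1u⟩ := hout
        refine ⟨K.vec p1, fun y hy => ?_⟩
        obtain ⟨p, hp, rfl, hpa⟩ := K.lift_comm h1 h2 hz hu hqn hrfx hy
        by_cases hpu : Commute (x * p * x⁻¹) u
        · exact Or.inl ⟨p, hp, rfl, hpa, hin p hp hpa hpu⟩
        · refine Or.inr ⟨p * p1, mul_mem hp hp1, K.vec_mul hp hp1, hpa.mul_left hp1a,
            hin _ (mul_mem hp hp1) (hpa.mul_left hp1a) ?_⟩
          rw [show x * (p * p1) * x⁻¹ = (x * p * x⁻¹) * (x * p1 * x⁻¹) by group]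
          exact K.outer_mul (himg hp hpa).1 (himg hp1 hp1a).1 hpu hp1u
      · push Not at hout
        refine ⟨0, fun y hy => ?_⟩
        obtain ⟨p, hp, rfl, hpa⟩ := K.lift_comm h1 h2 hz hu hqn hrfx hy
        exact Or.inl ⟨p, hp, rfl, hpa, hin p hp hpa (hout p hp hpa)⟩
    have hn0 := K.n_ne h1 h2 hz hu hqn hrfx
    have hker : ∀ y ∈ W, bb y y1 = false → y = 0 := by
      intro y hy hy'
      rcases perp_perp (d := n) (w := y) (fun w hw => by
        rcases hy1 w (by rw [bb_comm]; exact hw) with h | h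
        · exact hWb y hy w h
        · have h' := hWb y hy _ h
          rwa [bb_add_right, hy', Bool.xor_false] at h') with e | e
      · exact e
      · have := hWq y hy
        rw [e, hqn] at this
        exact absurd this (by decide)
    have hW2 : W.ncard ≤ 2 := by
      refine le_trans (Set.ncard_le_ncard_of_injOn (t := (Set.univ : Set Bool)) (fun y => bb y y1)
        (fun _ _ => trivial) (fun y hy w hw e => W8.eq_of_add (hker _ (hWadd y hy w hw) ?_)) (Set.toFinite _)) ?_
      · rw [bb_add_left, show bb y y1 = bb w y1 from e, Bool.xor_self]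
      · rw [Set.ncard_univ, Nat.card_eq_fintype_card, Fintype.card_bool]
    have h128 : {v : W8 | bb v n = false}.ncard ≤ W.ncard + W.ncard := by
      refine (Set.ncard_le_ncard (t := W ∪ (y1 + ·) '' W) (fun y hy => ?_) (Set.toFinite _)).trans
        ((Set.ncard_union_le _ _).trans (Nat.add_le_add_left (Set.ncard_image_le (Set.toFinite _)) _))
      rcases hy1 y hy with h | h
      · exact Or.inl h
      · refine Or.inr ⟨y + y1, h, ?_⟩
        show y1 + (y + y1) = y
        rw [add_comm y, ← add_assoc, W8.add_self, zero_add]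
    rw [ncard_perp hn0] at h128
    omega
  set p' := x * p0 * x⁻¹ with hp'
  have hpz : Commute p' z := (himg hp0 hp0a).1
  have hpa : Commute p' a := (himg hp0 hp0a).2
  set t' := K.img p' with ht'
  have hg2 : p' * p' = 1 := by
    have e : p' * p' = x * (p0 * p0) * x⁻¹ := by rw [hp']; group
    rw [K.sq hp0] at e
    cases hq : qe K.e (K.vec p0) <;> rw [hq] at e
    · rw [e, zb_false]; group
    · exfalso
      rw [zb_true, hxz] at e
      refine hu ?_
      have h := (Commute.refl z).mul_left (Commute.refl z)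
      have hzau : Commute (z * a) u := e ▸ hp0u.mul_left hp0u
      have := K.comm_zu.symm.mul_left hzau
      rwa [← mul_assoc, K.zz, one_mul] at this
  have hg2' := (K.img_isInv hpz hp0u hg2).sq
  have hgI : t' ∈ K.I := K.inner_only a hz hu ▸ K.img_mem hpz hp0u
  have hcomm : ∀ v, t' (rfx n v) = rfx n (t' v) := fun v => by
    have hu' : Commute (a * p' * a⁻¹) u := by rw [hpa.symm.eq, mul_inv_cancel_right]; exact hp0u
    have e := K.img_conj_outer h1 h2 hz hu hrfx hpz hp0u hu' (rfx n v)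
    rw [← ha, rfx_inv] at e
    rw [← e, hpa.symm.eq, mul_inv_cancel_right]
  have hgn : t' n = n := by
    obtain ⟨w, -, hw⟩ := (bb_nondeg n).resolve_left (K.n_ne h1 h2 hz hu hqn hrfx)
    have e := hcomm w
    have hi := K.img_iso hpz hp0u
    rw [rfx, rfx, show bb w n = true by rw [bb_comm]; exact hw, if_pos rfl, hi.add] at e
    cases hb : bb (t' w) n <;> rw [hb] at e
    · exfalso
      have h0 : t' n = 0 := add_left_cancel (e.trans (by simp [ht']))
      exact K.n_ne h1 h2 hz hu hqn hrfx (hi.injective (h0.trans hi.map_zero.symm))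
    · exact add_left_cancel (e.trans (by simp [ht']))
  -- commutators with the core part are fixed by all the images
  have hfixed : ∀ y, bb y n = false → ∀ q ∈ O2c z, Commute q a → Commute (x * q * x⁻¹) u →
      K.img (x * q * x⁻¹) (t' y + y) = t' y + y := by
    intro y hy q hq hqa hqu
    obtain ⟨j, hj, rfl, hja⟩ := K.lift_comm h1 h2 hz hu hqn hrfx hy
    set f := mv p' j with hf'
    have hfJ : f ∈ O2c z := mul_mem (conj_O2c hpz hj) (inv_mem hj)
    have hfv : K.vec f = t' (K.vec j) + K.vec j := K.vec_mv hpz hp0u hj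
    have hj1 : Commute (x⁻¹ * j * x) z := by
      have := conj_commute x⁻¹ ((K.J_comm_z hj).mul_right hja)
      rwa [← hxz, show x⁻¹ * (x * z * x⁻¹) * x⁻¹⁻¹ = z by group, inv_inv] at this
    have hf1 : x⁻¹ * f * x ∈ O2c z := by
      rw [show x⁻¹ * f * x = p0 * ((x⁻¹ * j * x) * p0⁻¹ * (x⁻¹ * j * x)⁻¹) by
        rw [hf', hp']; unfold mv; group]
      exact mul_mem hp0 (conj_O2c hj1 (inv_mem hp0))
    have hqz := (himg hq hqa).1
    have hc : Commute (x * q * x⁻¹) f := by
      refine K.mv_eq_one_iff.1 ?_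
      have e : mv (x * q * x⁻¹) f = x * mv q (x⁻¹ * f * x) * x⁻¹ := by unfold mv; group
      rw [K.mv_J hq hf1] at e
      cases hb : bb (K.vec q) (K.vec (x⁻¹ * f * x)) <;> rw [hb] at e
      · rw [e, zb_false]; group
      · exfalso
        rw [zb_true, hxz] at e
        exact hzaJ (e ▸ mul_mem (conj_O2c hqz hfJ) (inv_mem hfJ))
    rw [← hfv]
    exact K.fix_of_commute hqz hqu hfJ hc.symm
  rcases moved_split hS hgI hg2' hg1 hgn with ⟨hex, -⟩ | ⟨h, hh, -, hhn, y, hy, hne⟩
  · exact hnex hex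
  refine hne ?_
  -- lift `h` into `C(a)`
  obtain ⟨c, hcz, hcu, rfl⟩ := (K.img_range h).1 (K.I_le hh)
  have hbz : Commute (c * g * z * (c * g)⁻¹) z := by
    rw [show c * g * z * (c * g)⁻¹ = c * a * c⁻¹ by rw [ha]; group]
    exact (hcz.mul_left hz).mul_left hcz.inv_left
  have hbu : ¬ Commute (c * g * z * (c * g)⁻¹) u := fun h => hu (by
    rw [show a = c⁻¹ * (c * g * z * (c * g)⁻¹) * c by rw [ha]; group]
    exact (hcu.inv_left.mul_left h).mul_left hcu)
  have haca : Commute (a * c * a⁻¹) u := K.conj_outer_comm h1 h2 hz hu hrfx hcz hcu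
  have hbJ : a * (c * g * z * (c * g)⁻¹) ∈ O2c z := by
    rw [show a * (c * g * z * (c * g)⁻¹) = (a * c * a⁻¹) * c⁻¹ by
      rw [hai, show c * g * z * (c * g)⁻¹ = c * a * c⁻¹ by rw [ha]; group]; group]
    refine (K.ker (((hz.mul_left hcz).mul_left hz.inv_left).mul_left hcz.inv_left)
      (haca.mul_left hcu.inv_left)).1 (Equiv.ext fun w => ?_)
    rw [K.img_mul ((hz.mul_left hcz).mul_left hz.inv_left) haca hcz.inv_left hcu.inv_left,
      Equiv.Perm.mul_apply, ha, K.img_conj_outer h1 h2 hz hu hrfx hcz hcu haca,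
      rfx_conj (K.img_iso hcz hcu), hhn, K.img_inv hcz hcu, Equiv.Perm.inv_def, Equiv.apply_symm_apply,
      rfx_inv]
    rfl
  obtain ⟨j, hj, hje⟩ := K.class_lemma h1 h2 hz hu hqn hrfx hbz hbu hbJ
  set c' := j * c with hc'
  have hc'z : Commute c' z := (K.J_comm_z hj).mul_left hcz
  have hc'u : Commute c' u := (K.J_comm_u hj).mul_left hcu
  have hc'a : Commute c' a := by
    refine mul_inv_eq_iff_eq_mul.1 ?_
    calc c' * a * c'⁻¹ = j * (c * g * z * (c * g)⁻¹) * j⁻¹ := by rw [hc', ha]; group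
      _ = a := hje
  set c1 := x⁻¹ * c' * x with hc1
  have hc1z : Commute c1 z := by
    have := conj_commute x⁻¹ (hc'z.mul_right hc'a)
    rwa [← hxz, show x⁻¹ * (x * z * x⁻¹) * x⁻¹⁻¹ = z by group, inv_inv] at this
  have hc1a : Commute c1 a := (hxa.inv_left.mul_left hc'a).mul_left hxa
  have hq : c1 * p0 * c1⁻¹ ∈ O2c z := conj_O2c hc1z hp0
  have hqa : Commute (c1 * p0 * c1⁻¹) a := (hc1a.mul_left hp0a).mul_left hc1a.inv_left
  have hconj : x * (c1 * p0 * c1⁻¹) * x⁻¹ = c' * p' * c'⁻¹ := by rw [hc1, hp']; group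
  have hqu : Commute (x * (c1 * p0 * c1⁻¹) * x⁻¹) u := by
    rw [hconj]; exact (hc'u.mul_left hp0u).mul_left hc'u.inv_left
  have e := hfixed y hy _ hq hqa hqu
  rw [hconj, K.img_conj hc'z hc'u hpz hp0u, hc', K.img_mul (K.J_comm_z hj) (K.J_comm_u hj) hcz hcu,
    K.img_J hj, one_mul, ← ht', Equiv.Perm.mul_apply, Equiv.Perm.mul_apply] at e
  exact (K.img c).injective (e.trans (by simp))

/-- If both central elements have centralisers of the first type, then `z` is isolated. -/
theorem isolated (h1 : TI z u) (h2 : TI z (u * z))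
    (hf : ∀ c, Commute c z → (∀ v, K.act c v = v) → Commute c u) :
    centralizer ({z} : Set G) ⊔ Cfsg.oddCore G = ⊤ := by
  rw [sup_comm]
  refine Cfsg.Agent.ZStar.InvariantSylow.oddCore_sup_centralizer
    ⟨orderOf_eq_prime (by rw [pow_two]; exact K.zz) K.z_ne, fun g hg => ?_⟩
  exact K.fusion_z h1 h2 g hg.symm (K.conj_z_comm h1 h2 hf g hg.symm)

end Co

end Cfsg.Agent.FiTwentyTwoByTwo
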