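import Cfsg.Agent.Lib.FiTwentyTwoByTwo.Invol

/-!
# Elements of order three fixing a vector and moving a commutator space
-/

set_option autoImplicit false
set_option linter.unusedSectionVars false
set_option maxRecDepth 100000

namespace Cfsg.Agent.FiTwentyTwoByTwo

open Cfsg.Agent.ThreeTransp.U62Cent Cfsg.Agent.ThreeTransp.U62Cent.W8

theorem wT_append : ∀ (a b : List ℕ) (v : W8), wT (a ++ b) v = wT a (wT b v)
  | [], _, _ => rfl
  | p :: a, b, v => by simp only [List.cons_append, wT, wT_append a b v]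

theorem wF_append : ∀ (a b : List ℕ) (v : W8), wF (a ++ b) v = wF a (wF b v)
  | [], _, _ => rfl
  | p :: a, b, v => by simp only [List.cons_append, wF, wF_append a b v]

/-- some element of order three of `I` fixing `d` moves the commutator space of `d^⊥` out of the fixed
space of `g` -/
def Moved (I : Subgroup (Equiv.Perm W8)) (g : Equiv.Perm W8) (d : W8) : Prop :=
  ∃ h ∈ I, h * (h * h) = 1 ∧ h d = d ∧ ∃ y, bb y d = false ∧ g (h⁻¹ (g y + y)) ≠ h⁻¹ (g y + y)

theorem Moved.not_commute {I : Subgroup (Equiv.Perm W8)} {g : Equiv.Perm W8} {d : W8}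
    (h : Moved I g d) (hadd : ∀ v w, g (v + w) = g v + g w) (hg : g * g = 1) :
    ∃ h ∈ I, h * (h * h) = 1 ∧ h d = d ∧ h * g ≠ g * h := by
  obtain ⟨k, hk, h3, hd, y, -, hy⟩ := h
  refine ⟨k, hk, h3, hd, fun e => hy ?_⟩
  have hc : Commute k⁻¹ g := (show Commute k g from e).inv_left
  have h1 : g (k⁻¹ (g y + y)) = k⁻¹ (g (g y + y)) := (congrArg (fun s : Equiv.Perm W8 => s (g y + y)) hc.eq).symm
  rw [h1, hadd, show g (g y) = y from congrArg (fun s : Equiv.Perm W8 => s y) hg, add_comm]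

theorem moved_transport {I : Subgroup (Equiv.Perm W8)} (hI : I ≤ addPerm)
    (hbb : ∀ t ∈ I, ∀ v w, bb (t v) (t w) = bb v w) {g y : Equiv.Perm W8} (hy : y ∈ I) {f : W8 → W8}
    (hyg : ∀ v, (y * g * y⁻¹ : Equiv.Perm W8) v = f v) {W : List ℕ → W8 → W8}
    (hW : ∀ a b v, W (a ++ b) v = W a (W b v)) {w : List ℕ}
    (hw : ∃ k ∈ I, ⇑k = W w) {ys : List W8} {d : W8} (h : Tables.moves W f ys (y d) w = true) :
    Moved I g d := by
  obtain ⟨k, hk, hkw⟩ := hw
  simp only [Tables.moves, Bool.and_eq_true, beq_iff_eq, List.any_eq_true, Bool.not_eq_true', bne_iff_ne] at h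
  obtain ⟨⟨h1, h2⟩, z, -, h3, h4⟩ := h
  have hk3 : k * (k * k) = 1 := by
    refine perm_ext (mul_mem (hI hk) (mul_mem (hI hk) (hI hk))) (one_mem _) ?_
    rw [show cols (1 : Equiv.Perm W8) = cols id from rfl, ← h2]
    refine List.map_congr_left fun v _ => ?_
    show k (k (k v)) = W (w ++ w ++ w) v
    rw [hW, hW, hkw]
  have hk2 : ∀ v, k⁻¹ v = W (w ++ w) v := fun v => by
    rw [inv_eq_of_mul_eq_one_right hk3, hW, ← hkw]
    rfl
  have hg : ∀ v, g (y⁻¹ v) = y⁻¹ (f v) := fun v => by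
    rw [← hyg]
    simp
  refine ⟨y⁻¹ * k * y, mul_mem (mul_mem (inv_mem hy) hk) hy, ?_, ?_, y⁻¹ z, ?_, ?_⟩
  · calc y⁻¹ * k * y * (y⁻¹ * k * y * (y⁻¹ * k * y)) = y⁻¹ * (k * (k * k)) * y := by group
      _ = 1 := by rw [hk3]; group
  · show y⁻¹ (k (y d)) = d
    rw [hkw, h1]; simp
  · rw [← hbb y hy]; simpa using h3
  · intro e
    apply h4
    have hadd : ∀ v w, y⁻¹ (v + w) = y⁻¹ v + y⁻¹ w := hI (inv_mem hy)
    have e1 : (y⁻¹ * k * y)⁻¹ (g (y⁻¹ z) + y⁻¹ z) = y⁻¹ (W (w ++ w) (f z + z)) := by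
      rw [hg, ← hadd, show (y⁻¹ * k * y)⁻¹ = y⁻¹ * k⁻¹ * y by group]
      show y⁻¹ (k⁻¹ (y (y⁻¹ (f z + z)))) = _
      rw [hk2]; simp
    rw [e1, hg] at e
    exact y⁻¹.injective e

theorem moved_nat {I : Subgroup (Equiv.Perm W8)} (hN : INat I) {g : Equiv.Perm W8} (hg : g ∈ I)
    (h2 : g * g = 1) (hne : g ≠ 1) {d : W8} (hgd : g d = d) (hd0 : d ≠ 0) (hq : qe true d = false) :
    ((fixV g).ncard = 64 ∧ d ∈ imV g) ∨ Moved I g d := by
  obtain ⟨y, hy, hc⟩ := hN.classes hg h2 hne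
  have hiso := hN.le hy
  have hd' : y d ≠ 0 := fun e => hd0 (hiso.injective (e.trans hiso.map_zero.symm))
  have hq' : qe true (y d) = false := (hiso.q d).trans hq
  have hb : ∀ t ∈ I, ∀ v w, bb (t v) (t w) = bb v w := fun t ht v w => (hN.le ht).bb v w
  rcases hc with hc | hc
  · have hm := (transport_fix hc).1 hgd
    rcases Tables.natMove0.2 _ ((N.C0_iff _).1 hm) with e | e | e | ⟨w, hw, e⟩
    · exact absurd e hd'
    · rw [hq'] at e; exact absurd e (by decide)
    · left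
      obtain ⟨v, hv⟩ := N.L0_iff.2 _ e
      refine ⟨?_, y⁻¹ v, ?_⟩
      · rw [← Set.ncard_image_of_injective (fixV g) y.injective, ← N.ncard_fix0]
        congr 1
        ext x
        constructor
        · rintro ⟨x, hx, rfl⟩; exact (transport_fix hc).1 hx
        · intro hx
          exact ⟨y.symm x, (transport_fix hc).2 (by rw [Equiv.apply_symm_apply]; exact hx),
            y.apply_symm_apply x⟩
      · have hg' : g (y⁻¹ v) = y⁻¹ (N.a0 v) := by rw [← hc]; simp
        show g (y⁻¹ v) + y⁻¹ v = d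
        rw [hg', ← (hN.add (inv_mem hy) : ∀ a b, y⁻¹ (a + b) = y⁻¹ a + y⁻¹ b), hv]
        simp
    · exact Or.inr (moved_transport hN.add hb hy hc wT_append (hN.word (Tables.natMove0.1 w hw)) e)
  · have hm := (transport_fix hc).1 hgd
    rcases Tables.natMove1.2 _ ((N.L1_iff.1 _).1 hm) with e | ⟨w, hw, e⟩
    · exact absurd e hd'
    · exact Or.inr (moved_transport hN.add hb hy hc wT_append (hN.word (Tables.natMove1.1 w hw)) e)

/-- Two transvections with a common commutator are equal. -/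
theorem nat_transvection_eq {I : Subgroup (Equiv.Perm W8)} (hN : INat I) {g g' : Equiv.Perm W8}
    (hg : g ∈ I) (h2 : g * g = 1) (hne : g ≠ 1) (hg' : g' ∈ I) (h2' : g' * g' = 1) (hne' : g' ≠ 1)
    (hF : (fixV g).ncard = 64) (hF' : (fixV g').ncard = 64) {d : W8} (hd0 : d ≠ 0) (hd : d ∈ imV g)
    (hd' : d ∈ imV g') : g = g' := by
  obtain ⟨y, hy, hc⟩ := hN.classes hg h2 hne
  have hiso := hN.le hy
  have key : ∀ f : W8 → W8, (∀ v, (y * g * y⁻¹ : Equiv.Perm W8) v = f v) →
      (fixV g).ncard = {v | f v = v}.ncard := fun f hf => by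
    rw [← Set.ncard_image_of_injective (fixV g) y.injective]
    congr 1
    ext x
    constructor
    · rintro ⟨x, hx, rfl⟩; exact (transport_fix hf).1 hx
    · intro hx
      exact ⟨y.symm x, (transport_fix hf).2 (by rw [Equiv.apply_symm_apply]; exact hx), y.apply_symm_apply x⟩
  rcases hc with hc | hc
  swap
  · rw [key _ hc, N.ncard_fix1] at hF; omega
  set s := y * g' * y⁻¹ with hs
  have hsI : s ∈ I := mul_mem (mul_mem hy hg') (inv_mem hy)
  have hsiso := hN.le hsI
  have hs2 : s * s = 1 := by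
    rw [hs, show y * g' * y⁻¹ * (y * g' * y⁻¹) = y * (g' * g') * y⁻¹ by group, h2']; group
  have hsv : IsInv true s := ⟨⟨hsiso.add, hsiso.q, fun h => absurd h (by decide)⟩, hs2⟩
  -- the commutator space of `s` contains the four vectors of `L0`
  have hl : y d ∈ N.L0 := by
    obtain ⟨v, rfl⟩ := hd
    show y (g v + v) ∈ N.L0
    rw [hiso.add, show y (g v) = N.a0 (y v) by rw [← hc]; simp]
    exact N.L0_iff.1 _
  obtain ⟨v', hv'⟩ := hd'
  have hw' : s (y v') + y v' = y d := by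
    rw [← hv', hiso.add, hs]; simp
  have hsig : ∀ x, W8.sig x ∈ imV s ↔ x ∈ imV s := by
    have h1 : ∀ x, x ∈ imV s → W8.sig x ∈ imV s := by
      rintro _ ⟨x, rfl⟩
      exact ⟨W8.sig x, by show s (W8.sig x) + W8.sig x = _; rw [hsiso.sig rfl, ← W8.sig_add]⟩
    refine fun x => ⟨fun h => ?_, h1 x⟩
    have := h1 _ (h1 _ h)
    rwa [W8.sig_three] at this
  have hL : ∀ l ∈ N.L0, l ∈ imV s := by
    have h0 : (0 : W8) ∈ imV s := ⟨0, by show s 0 + 0 = 0; rw [hsiso.map_zero, add_zero]⟩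
    have hyd : y d ∈ imV s := ⟨y v', hw'⟩
    have hyd0 : y d ≠ 0 := fun e => hd0 (hiso.injective (e.trans hiso.map_zero.symm))
    obtain ⟨-, hL5, -⟩ := N.five_facts
    have h5 : W8.mk 5 ∈ imV s := by
      rcases hL5 _ hl with e | e | e | e
      · exact absurd e hyd0
      · rw [← e]; exact hyd
      · rw [e] at hyd; exact (hsig _).1 hyd
      · rw [e] at hyd; exact (hsig _).1 ((hsig _).1 hyd)
    intro l hl'
    rcases hL5 _ hl' with rfl | rfl | rfl | rfl
    exacts [h0, h5, (hsig _).2 h5, (hsig _).2 ((hsig _).2 h5)]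
  -- so the two fixed spaces agree
  have hsF : (fixV s).ncard = 64 := by
    rw [← hF', ← Set.ncard_image_of_injective (fixV g') y.injective]
    congr 1
    ext x
    constructor
    · intro hx
      refine ⟨y.symm x, ?_, y.apply_symm_apply x⟩
      show g' (y.symm x) = y.symm x
      exact y.injective (by rw [Equiv.apply_symm_apply]; exact hx)
    · rintro ⟨x, hx, rfl⟩
      show y (g' (y.symm (y x))) = y x
      rw [Equiv.symm_apply_apply, show g' x = x from hx]
  have hCfix : ∀ v ∈ N.C0, s v = v := by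
    have hsub : fixV s ⊆ {v | N.a0 v = v} := fun v hv => by
      refine (N.C0_iff v).2 ((N.perp_C0 v).1 ⟨?_, ?_⟩)
      · obtain ⟨x, hx⟩ := hL _ (by decide +kernel : W8.mk 5 ∈ N.L0)
        rw [← hx]; exact hsv.perp_im hv x
      · obtain ⟨x, hx⟩ := hL _ (by decide +kernel : W8.mk 10 ∈ N.L0)
        rw [← hx]; exact hsv.perp_im hv x
    have e := Set.eq_of_subset_of_ncard_le hsub (by rw [N.ncard_fix0, hsF]) (Set.toFinite _)
    exact fun v hv => (show v ∈ fixV s by rw [e]; exact (N.C0_iff v).2 hv)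
  rcases N.fix0_group hsiso hCfix with e | e
  · exact absurd (by rw [hs, mul_inv_eq_one, mul_eq_left] at e; exact e) hne'
  · have : y * g' * y⁻¹ = y * g * y⁻¹ := Equiv.ext fun v => (e v).trans (hc v).symm
    exact (mul_left_cancel (mul_right_cancel this)).symm

theorem moved_split {I : Subgroup (Equiv.Perm W8)} (hS : ISplit I) {g : Equiv.Perm W8} (hg : g ∈ I)
    (h2 : g * g = 1) (hne : g ≠ 1) {d : W8} (hgd : g d = d) :
    ((qe true (S.sixp d) = false ∧ S.sixp d ≠ 0) ∧
      ∃ h ∈ I, h * (h * h) = 1 ∧ h d = d ∧ h * g ≠ g * h) ∨ Moved I g d := by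
  obtain ⟨h1, h3, h4⟩ := S.proj_spec d
  obtain ⟨y, hy, hc⟩ := hS.classes hg h2 hne
  have hiso := hS.le hy
  have hgd6 : g (S.sixp d) = S.sixp d := by
    have e := hgd
    rw [← h4, (hS.le hg).1.add, hS.fix_plane hg h3] at e
    exact add_right_cancel e
  have h6 : y (S.sixp d) ∈ six := GS_six hiso h1
  have hb : ∀ t ∈ I, ∀ v w, bb (t v) (t w) = bb v w := fun t ht v w => (hS.le ht).1.bb v w
  -- passing from the six-part to the vector itself
  have lift : ∀ {f : W8 → W8}, (∀ v, (y * g * y⁻¹ : Equiv.Perm W8) v = f v) →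
      ∀ {w : List ℕ}, okF w = true →
      Tables.moves wF f six (y (S.sixp d)) w = true → Moved I g d := by
    intro f hf w hw e
    refine moved_transport hS.add hb hy hf wF_append (hS.word hw) (ys := six) ?_
    obtain ⟨k, hk, hkw⟩ := hS.word hw
    simp only [Tables.moves, Bool.and_eq_true, beq_iff_eq, List.any_eq_true, Bool.not_eq_true', bne_iff_ne] at e ⊢
    obtain ⟨⟨e1, e2⟩, z, hz, e3, e4⟩ := e
    have ed : y d = y (S.sixp d) + S.planep d := by
      conv_lhs => rw [← h4]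
      rw [hiso.1.add, hS.fix_plane hy h3]
    refine ⟨⟨?_, e2⟩, z, hz, ?_, e4⟩
    · rw [← hkw] at e1 ⊢
      rw [ed, (hS.le hk).1.add, e1, hS.fix_plane hk h3]
    · rw [ed, bb_add_right, e3, S.plane_bb z hz _ h3]; rfl
  have extra : ∀ {f : W8 → W8}, (∀ v, (y * g * y⁻¹ : Equiv.Perm W8) v = f v) →
      ∀ {w : List ℕ}, okF w = true → cols (wF (w ++ w ++ w)) = cols id →
      wF w (y (S.sixp d)) = y (S.sixp d) → cols (fun v => wF w (f v)) ≠ cols (fun v => f (wF w v)) →
      ∃ h ∈ I, h * (h * h) = 1 ∧ h d = d ∧ h * g ≠ g * h := by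
    intro f hf w hw e2 e1 e4
    obtain ⟨k, hk, hkw⟩ := hS.word hw
    have hk3 : k * (k * k) = 1 := by
      refine perm_ext (mul_mem (hS.add hk) (mul_mem (hS.add hk) (hS.add hk))) (one_mem _) ?_
      rw [show cols (1 : Equiv.Perm W8) = cols id from rfl, ← e2]
      refine List.map_congr_left fun v _ => ?_
      show k (k (k v)) = wF (w ++ w ++ w) v
      rw [wF_append, wF_append, hkw]
    refine ⟨y⁻¹ * k * y, mul_mem (mul_mem (inv_mem hy) hk) hy, ?_, ?_, fun e => e4 ?_⟩
    · calc y⁻¹ * k * y * (y⁻¹ * k * y * (y⁻¹ * k * y)) = y⁻¹ * (k * (k * k)) * y := by group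
        _ = 1 := by rw [hk3]; group
    · show y⁻¹ (k (y d)) = d
      conv_lhs => rw [← h4, hiso.1.add, hS.fix_plane hy h3, (hS.le hk).1.add, hkw, e1]
      rw [← hkw, hS.fix_plane hk h3, (hS.le (inv_mem hy)).1.add, hS.fix_plane (inv_mem hy) h3]
      simp [h4]
    · refine List.map_congr_left fun v _ => ?_
      have e' : k * (y * g * y⁻¹) = y * g * y⁻¹ * k := by
        calc k * (y * g * y⁻¹) = y * (y⁻¹ * k * y * g) * y⁻¹ := by group
          _ = y * (g * (y⁻¹ * k * y)) * y⁻¹ := by rw [e]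
          _ = _ := by group
      have := congrArg (fun s : Equiv.Perm W8 => s v) e'
      simp only [Equiv.Perm.mul_apply] at this
      simp only [Equiv.Perm.mul_apply] at hf
      rw [hf, hf] at this
      rw [hkw] at this
      exact this
  have hinj : ∀ {x : W8}, y x = 0 → x = 0 := fun e => hiso.1.injective (e.trans hiso.1.map_zero.symm)
  have hq : qe true (y (S.sixp d)) = qe true (S.sixp d) := by
    rw [← qe_six true _ h6, hiso.1.q]
  have hnz : y (S.sixp d) = 0 → S.sixp d = 0 := hinj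
  rcases hc with hc | hc
  · rcases Tables.splitMove0.2 _ ((S.D0_iff _ h6).1 ((transport_fix hc).1 hgd6)) with ⟨e, e0, eq⟩ | ⟨w, hw, e⟩
    · rcases Tables.splitExtra.2.1 _ e with e' | e' | ⟨w, hw, e1, e4⟩
      · exact absurd e' e0
      · rw [eq] at e'; exact absurd e' (by decide)
      · exact Or.inl ⟨⟨hq.symm.trans eq, fun h => e0 (by rw [h, hiso.1.map_zero])⟩,
          extra hc (Tables.splitExtra.1 w hw).1 (Tables.splitExtra.1 w hw).2 e1 e4⟩
    · exact Or.inr (lift hc (Tables.splitMove0.1 w hw) e)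
  · rcases Tables.splitMove1.2 _ ((S.D1_iff _ h6).1 ((transport_fix hc).1 hgd6)) with ⟨e, e0, eq⟩ | ⟨w, hw, e⟩
    · rcases Tables.splitExtra.2.2 _ e with e' | e' | ⟨w, hw, e1, e4⟩
      · exact absurd e' e0
      · rw [eq] at e'; exact absurd e' (by decide)
      · exact Or.inl ⟨⟨hq.symm.trans eq, fun h => e0 (by rw [h, hiso.1.map_zero])⟩,
          extra hc (Tables.splitExtra.1 w hw).1 (Tables.splitExtra.1 w hw).2 e1 e4⟩
    · exact Or.inr (lift hc (Tables.splitMove1.1 w hw) e)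

end Cfsg.Agent.FiTwentyTwoByTwo
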