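import Cfsg.Agent.Lib.FiTwentyTwoByTwo.InCore

/-!
# A conjugate of `u` commuting with `z` and `u` is central in the core
-/

set_option autoImplicit false
set_option linter.unusedSectionVars false

namespace Cfsg.Agent.FiTwentyTwoByTwo

open Subgroup Cfsg.Agent.ThreeTransp.U62Cent Cfsg.Agent.ThreeTransp.U62Cent.W8

universe u'

variable {G : Type u'} [Group G] [Finite G] {z u v a : G}

namespace Pr

variable (P : Pr z u v a) (K : Co z u)

include P K

theorem img_va : K.img (v * a) = K.img v * K.img a := K.img_mul P.vz P.vu P.az P.au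

theorem pair (h1 : TI z u) (h2 : TI z (u * z)) : K.toRng.Pair (K.img v) (K.img a) := by
  refine ⟨K.img_mem P.vz P.vu, K.img_mem P.az P.au, (K.img_isInv P.vz P.vu (P.v_sq K)).sq,
    (K.img_isInv P.az P.au (P.a_sq K)).sq, P.v_img_ne K h1 h2, P.a_img_ne K h1 h2, fun e => ?_, ?_⟩
  · refine P.va_img_ne K h1 h2 ?_
    rw [P.img_va K, e, (K.img_isInv P.az P.au (P.a_sq K)).sq]
  · show K.img v * K.img a = K.img a * K.img v
    rw [← K.img_mul P.vz P.vu P.az P.au, (P.va K).eq, K.img_mul P.az P.au P.vz P.vu]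

/-- In the core the three elements have one centraliser. -/
theorem comm_iff (h1 : TI z u) (h2 : TI z (u * z)) {j : G} (hj : j ∈ O2c z) :
    (Commute j v ↔ Commute j a) ∧ (Commute j (v * a) ↔ Commute j a) := by
  have hz := K.J_comm_z hj
  have hu := K.J_comm_u hj
  have hav : Commute j a → Commute j v := fun h => by
    rcases P.perm_a K h with e | e
    · exact mul_inv_eq_iff_eq_mul.1 e
    · exfalso
      refine P.a_img_ne K h1 h2 ((K.ker P.az P.au).2 ?_)
      have : a = (v * j * v⁻¹) * j⁻¹ := by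
        calc a = v⁻¹ * (v * a) := by group
          _ = v⁻¹ * (j * v * j⁻¹) := by rw [e]
          _ = v * j * v⁻¹ * j⁻¹ := by rw [inv_eq_of_mul_eq_one_right (P.v_sq K)]; group
      rw [this]
      exact mul_mem (conj_O2c P.vz hj) (inv_mem hj)
  exact ⟨⟨P.cent_v K h1 hz hu, hav⟩, ⟨P.cent_va K h2 hz hu, fun h => (hav h).mul_right h⟩⟩

theorem mv_va {j : G} {p : Bool} (h : mv a j = zb z p) : mv (v * a) j = zb z p * mv v j := by
  rw [K.mv_mul_left P.vz P.vu (by rw [h]; exact K.zb_inZ p), h]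

/-- Common fixed vectors not moved by `u` lift into the centralisers. -/
theorem commute_all (h1 : TI z u) (h2 : TI z (u * z)) {j : G} (hj : j ∈ O2c z)
    (hv : K.img v (K.vec j) = K.vec j) (ha : K.img a (K.vec j) = K.vec j)
    (bv : K.ub v (K.vec j) = false) (ba : K.ub a (K.vec j) = false) : Commute j v := by
  obtain ⟨p, hp⟩ := K.mv_zb P.vz P.vu hj hv bv
  obtain ⟨q, hq⟩ := K.mv_zb P.az P.au hj ha ba
  obtain ⟨i1, i2⟩ := P.comm_iff K h1 h2 hj
  have hw := P.mv_va K hq
  rw [hp, zb_mul K.zz] at hw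
  cases p
  · exact (K.mv_eq_one_iff.1 hp).symm
  cases q
  · exact i1.2 (K.mv_eq_one_iff.1 hq).symm
  · exact i1.2 (i2.1 (K.mv_eq_one_iff.1 hw).symm)

theorem fix_all {j : G} (hj : j ∈ O2c z) (hv : Commute j v) (ha : Commute j a) :
    K.vec j ∈ fixV (K.img v) ∩ fixV (K.img a) :=
  ⟨K.fix_of_commute P.vz P.vu hj hv, K.fix_of_commute P.az P.au hj ha⟩

/-- The fixed vectors of one of the three are at most twice as many as the common ones. -/
theorem fix_le (h1 : TI z u) (h2 : TI z (u * z)) {w : G} (hwz : Commute w z) (hwu : Commute w u)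
    {D : Set W8} (hD : ∀ x ∈ D, ∀ y ∈ D, x + y ∈ D)
    (hb : ∀ x ∈ D, K.img w x = x → K.ub w x = false)
    (hw : ∀ j ∈ O2c z, Commute j w → Commute j v) :
    (fixV (K.img w) ∩ D).ncard ≤ 2 * (fixV (K.img v) ∩ fixV (K.img a) ∩ D).ncard := by
  set C := fixV (K.img v) ∩ fixV (K.img a) ∩ D with hC
  have hker : ∀ j ∈ O2c z, K.vec j ∈ D → mv w j = 1 → K.vec j ∈ C := fun j hj hjD e => by
    have hc := hw j hj (K.mv_eq_one_iff.1 e).symm
    exact ⟨P.fix_all K hj hc ((P.comm_iff K h1 h2 hj).1.1 hc), hjD⟩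
  by_cases hx : ∃ x ∈ fixV (K.img w) ∩ D, mv w (K.lift x) = z
  · obtain ⟨x0, hx0, e0⟩ := hx
    refine (Set.ncard_le_ncard (t := C ∪ (x0 + ·) '' C) (fun x hx => ?_) (Set.toFinite _)).trans ?_
    · obtain ⟨p, hp⟩ := K.mv_zb hwz hwu (K.lift_mem x) (by rw [K.vec_lift]; exact hx.1)
        (by rw [K.vec_lift]; exact hb x hx.2 hx.1)
      cases p
      · left
        have := hker _ (K.lift_mem x) (by rw [K.vec_lift]; exact hx.2) hp
        rwa [K.vec_lift] at this
      · right
        refine ⟨x0 + x, ?_, by show x0 + (x0 + x) = x; rw [← add_assoc, W8.add_self, zero_add]⟩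
        have e1 := K.mv_mul_right (c := w) (K.lift_mem x0) (y := K.lift x) (by rw [hp]; exact K.zb_inZ _)
        rw [e0, hp, zb_true, K.zz] at e1
        have := hker _ (mul_mem (K.lift_mem x0) (K.lift_mem x)) (by
          rw [K.vec_mul (K.lift_mem x0) (K.lift_mem x), K.vec_lift, K.vec_lift]
          exact hD _ hx0.2 _ hx.2) e1
        rwa [K.vec_mul (K.lift_mem x0) (K.lift_mem x), K.vec_lift, K.vec_lift] at this
    · refine (Set.ncard_union_le _ _).trans ?_
      rw [two_mul]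
      exact Nat.add_le_add_left (Set.ncard_image_le (Set.toFinite _)) _
  · push Not at hx
    refine le_trans (Set.ncard_le_ncard (fun x hx' => ?_) (Set.toFinite _)) (Nat.le_mul_of_pos_left _ two_pos)
    obtain ⟨p, hp⟩ := K.mv_zb hwz hwu (K.lift_mem x) (by rw [K.vec_lift]; exact hx'.1)
      (by rw [K.vec_lift]; exact hb x hx'.2 hx'.1)
    cases p
    · have := hker _ (K.lift_mem x) (by rw [K.vec_lift]; exact hx'.2) hp
      rwa [K.vec_lift] at this
    · exact absurd hp (hx x hx')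

theorem not_natural (h1 : TI z u) (h2 : TI z (u * z)) (he : K.e = true) (hN : INat K.I) : False := by
  have hP := P.pair K h1 h2
  have hub : ∀ {w : G}, Commute w z → Commute w u → w * w = 1 → K.img w ≠ 1 →
      ∀ x, K.img w x = x → K.ub w x = false := fun hz hu h2 hne => (K.ub_fix hz hu h2 hne).1 ⟨he, hN⟩
  have bv := hub P.vz P.vu (P.v_sq K) hP.t1
  have ba := hub P.az P.au (P.a_sq K) hP.s1
  have bva := hub (P.vz.mul_left P.az) (P.vu.mul_left P.au) (P.va_sq K) (P.va_img_ne K h1 h2)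
  have hle : ∀ {w : G}, Commute w z → Commute w u → (∀ x, K.img w x = x → K.ub w x = false) →
      (∀ j ∈ O2c z, Commute j w → Commute j v) →
      (fixV (K.img w)).ncard ≤ 2 * (fixV (K.img v) ∩ fixV (K.img a)).ncard := fun {w} hz hu hb hw => by
    have := P.fix_le K h1 h2 hz hu (D := Set.univ) (fun _ _ _ _ => trivial) (fun x _ => hb x) hw
    rwa [Set.inter_univ, Set.inter_univ] at this
  obtain ⟨hvI, haI, hF, h16⟩ := hP.natural he hN (hle P.vz P.vu bv fun j _ h => h)
    (hle P.az P.au ba fun j hj => (P.comm_iff K h1 h2 hj).1.2)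
    (by
      rw [← P.img_va K]
      exact hle (P.vz.mul_left P.az) (P.vu.mul_left P.au) bva fun j hj h =>
        (P.comm_iff K h1 h2 hj).1.2 ((P.comm_iff K h1 h2 hj).2.1 h))
  obtain ⟨h, hh, h3, hcom, hne⟩ := hP.natural_witness hN hvI haI hF h16
  have hvi := K.img_isInv P.vz P.vu (P.v_sq K)
  obtain ⟨c, hcz, hcu, hcv, hc⟩ := K.lift_commute P.vz P.vu (P.v_sq K) hh h3 hcom (fun j hj hfix => by
    have hfa : K.img a (K.vec j) = K.vec j := show K.vec j ∈ fixV (K.img a) by rw [← hF]; exact hfix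
    exact P.commute_all K h1 h2 hj hfix hfa (bv _ hfix) (ba _ hfa)) (fun y hy _ _ => by
    have hsub : imV (K.img v) ⊆ fixV (K.img v) := fun x hx => hvi.im_fix hx
    have hcard := card_fix_mul_im (S := Set.univ) trivial (fun _ _ _ _ => trivial) hvi.iso.add
      (fun _ _ => trivial)
    rw [Set.inter_univ, Set.image_univ, h16, Set.ncard_univ,
      show Nat.card W8 = 256 by show Nat.card (Fin 256) = 256; simp] at hcard
    have e := Set.eq_of_subset_of_ncard_le hsub (by
      show _ ≤ (Set.range fun v' => K.img v v' + v').ncard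
      omega) (Set.toFinite _)
    rw [e]
    exact hy)
  refine hne ?_
  have hca := P.cent_v K h1 hcz hcu hcv
  rw [← hc, ← K.img_mul hcz hcu P.az P.au, hca.eq, K.img_mul P.az P.au hcz hcu]

/-- In the split shape none of the three is a reflection, and the plane is not moved by `u`. -/
theorem split_ub (h1 : TI z u) (h2 : TI z (u * z)) (hS : ISplit K.I) {w : G}
    (hw : v = w ∨ a = w ∨ v * a = w) :
    ∀ x ∈ sixV, K.img w x = x → K.ub w x = false := by
  have hP := P.pair K h1 h2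
  obtain ⟨hwz, hwu, hw2, hwne⟩ : Commute w z ∧ Commute w u ∧ w * w = 1 ∧ K.img w ≠ 1 := by
    rcases hw with rfl | rfl | rfl
    exacts [⟨P.vz, P.vu, P.v_sq K, hP.t1⟩, ⟨P.az, P.au, P.a_sq K, hP.s1⟩,
      ⟨P.vz.mul_left P.az, P.vu.mul_left P.au, P.va_sq K, P.va_img_ne K h1 h2⟩]
  obtain ⟨-, hin, hout⟩ := K.ub_fix hwz hwu hw2 hwne
  intro x hx6 hx
  by_cases hwI : K.img w ∈ K.I
  · exact hin hS hwI x hx6 hx
  refine hout hS hwI ?_ x hx6 hx
  refine ((K.outer_six hS (K.img_mem hwz hwu) hwI (K.img_isInv hwz hwu hw2).sq).resolve_left ?_).1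
  rintro ⟨-, n, hn, hqn, hcases, y, hy, hyn⟩
  have hwi := K.img_isInv hwz hwu hw2
  have hyv : K.img w y + y = n := hyn
  -- the other two fix `n`
  have hfix : ∀ {s : Equiv.Perm W8}, s ∈ K.R → Commute s (K.img w) → s n = n := by
    intro s hs hc
    have h1' : s n = K.img w (s y) + s y := by
      rw [← hyv, (K.iso s hs).add, show s (K.img w y) = K.img w (s y) from
        congrArg (fun g : Equiv.Perm W8 => g y) hc.eq]
    rcases hcases _ (K.six_map hS s hs y hy) with e | e
    · exfalso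
      rw [e] at h1'
      have h0 : n = 0 := (K.iso s hs).injective (h1'.trans (K.iso s hs).map_zero.symm)
      rw [h0, qe_zero] at hqn
      exact absurd hqn (by decide)
    · rw [h1', e]
  have hwn : K.ub w n = false := by rw [← hyv]; exact K.ub_im hwz hwu hw2 y
  set j := mv w (K.lift y) with hj
  have hjJ : j ∈ O2c z := mul_mem (conj_O2c hwz (K.lift_mem y)) (inv_mem (K.lift_mem y))
  have hjn : K.vec j = n := by rw [hj, K.vec_mv hwz hwu (K.lift_mem y), K.vec_lift, hyv]
  have hjw : mv w j = z := by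
    rw [hj, K.mv_comm hwz hw2 (K.lift_mem y), ← hj, hjn, hqn, zb_true]
  have hjw' : mv w j = zu z u true false := hjw.trans (by simp [zu, zb])
  have hwv : Commute (K.img v) (K.img w) ∧ Commute (K.img a) (K.img w) := by
    rcases hw with rfl | rfl | rfl
    · exact ⟨Commute.refl _, hP.comm.symm⟩
    · exact ⟨hP.comm, Commute.refl _⟩
    · rw [P.img_va K]
      exact ⟨(Commute.refl _).mul_right hP.comm, hP.comm.symm.mul_right (Commute.refl _)⟩
  have fv := hfix (K.img_mem P.vz P.vu) hwv.1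
  have fa := hfix (K.img_mem P.az P.au) hwv.2
  -- all three values vanish
  have hsum : ∀ p, mv a j = zb z p → False := by
    intro p hp
    have bv : K.ub v n = false := by
      rcases hw with rfl | rfl | rfl
      · exact hwn
      all_goals
        by_cases hvI : K.img v ∈ K.I
        · exact (K.ub_fix P.vz P.vu (P.v_sq K) hP.t1).2.1 hS hvI n hn fv
      all_goals
        obtain ⟨q, r, hq⟩ := K.inZ_iff.1 (K.mv_mem P.vz P.vu hjJ (by rw [hjn]; exact fv))
        have hr := K.ub_eq P.vz P.vu hjJ hq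
        rw [hjn] at hr
        rw [hr]
        have hva := P.mv_va K hp
        rw [hq, show zb z p = zu z u p false by simp [zu, zb], K.zu_mul, Bool.false_xor] at hva
      · have hI' : K.img (v * a) ∈ K.I := by
          rw [P.img_va K, K.mul_mem_iff _ hP.tR _ hP.sR]; exact iff_of_false hvI hwI
        have h3 := (K.ub_fix (P.vz.mul_left P.az) (P.vu.mul_left P.au) (P.va_sq K)
          (P.va_img_ne K h1 h2)).2.1 hS hI' n hn (by
            rw [P.img_va K, Equiv.Perm.mul_apply, fa, fv])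
        have h4 := K.ub_eq (P.vz.mul_left P.az) (P.vu.mul_left P.au) hjJ hva
        rw [hjn, h3] at h4
        exact h4.symm
      · rw [hjw'] at hva
        exact (K.zu_inj hva).2.symm
    have ba : K.ub a n = false := by
      have := K.ub_eq P.az P.au hjJ (p := p) (q := false) (by rw [hp]; simp [zu, zb])
      rwa [hjn] at this
    have hc := P.commute_all K h1 h2 hjJ (by rw [hjn]; exact fv) (by rw [hjn]; exact fa)
      (by rw [hjn]; exact bv) (by rw [hjn]; exact ba)
    have hca := (P.comm_iff K h1 h2 hjJ).1.1 hc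
    have hcw : Commute j w := by
      rcases hw with rfl | rfl | rfl
      exacts [hc, hca, hc.mul_right hca]
    rw [K.mv_eq_one_iff.2 hcw.symm] at hjw
    exact K.z_ne hjw.symm
  -- the value of `a`
  suffices ba : K.ub a n = false by
    obtain ⟨p, hp⟩ := K.mv_zb P.az P.au hjJ (by rw [hjn]; exact fa) (by rw [hjn]; exact ba)
    exact hsum p hp
  rcases hw with rfl | rfl | rfl
  rotate_left
  · exact hwn
  rotate_left
  all_goals
    by_cases haI : K.img a ∈ K.I
    · exact (K.ub_fix P.az P.au (P.a_sq K) hP.s1).2.1 hS haI n hn fa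
  all_goals
    obtain ⟨p, r, hp⟩ := K.inZ_iff.1 (K.mv_mem P.az P.au hjJ (by rw [hjn]; exact fa))
    have hr := K.ub_eq P.az P.au hjJ hp
    rw [hjn] at hr
    rw [hr]
    obtain ⟨q, r', hq⟩ := K.inZ_iff.1 (K.mv_mem P.vz P.vu hjJ (by rw [hjn]; exact fv))
    have hva : mv (v * a) j = zu z u p r * mv v j := by
      rw [K.mv_mul_left P.vz P.vu (by rw [hp]; exact K.inZ_iff.2 ⟨p, r, rfl⟩), hp]
    rw [hq, K.zu_mul] at hva
  · have hI' : K.img (v * a) ∈ K.I := by
      rw [P.img_va K, K.mul_mem_iff _ hP.tR _ hP.sR]; exact iff_of_false hwI haI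
    have h3 := (K.ub_fix (P.vz.mul_left P.az) (P.vu.mul_left P.au) (P.va_sq K)
      (P.va_img_ne K h1 h2)).2.1 hS hI' n hn (by
        rw [P.img_va K, Equiv.Perm.mul_apply, fa, fv])
    have h4 := K.ub_eq (P.vz.mul_left P.az) (P.vu.mul_left P.au) hjJ hva
    rw [hjn, h3] at h4
    have hr' : r' = false := by
      rw [hjw'] at hq
      exact (K.zu_inj hq).2.symm
    rw [hr', Bool.xor_false] at h4
    exact h4.symm
  · have hvI : K.img v ∈ K.I := by
      by_contra hvI
      exact hwI (by rw [P.img_va K, K.mul_mem_iff _ hP.tR _ hP.sR]; exact iff_of_false hvI haI)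
    have h3 := (K.ub_fix P.vz P.vu (P.v_sq K) hP.t1).2.1 hS hvI n hn fv
    have h4 := K.ub_eq P.vz P.vu hjJ hq
    rw [hjn, h3] at h4
    rw [hjw', ← h4, Bool.xor_false] at hva
    exact (K.zu_inj hva).2.symm

theorem split_data (h1 : TI z u) (h2 : TI z (u * z)) (hS : ISplit K.I) :
    K.img v ∈ K.I ∧ K.img a ∈ K.I ∧ (P.pair K h1 h2).C6.ncard = 8 ∧
      (∀ x ∈ (P.pair K h1 h2).C6, (∃ y ∈ sixV, K.img v y + y = x) → qe K.e x = false) ∧
      (∀ x ∈ (P.pair K h1 h2).C6, (∃ y ∈ sixV, K.img a y + y = x) → qe K.e x = false) := by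
  have hP := P.pair K h1 h2
  have bv := P.split_ub K h1 h2 hS (w := v) (Or.inl rfl)
  have ba := P.split_ub K h1 h2 hS (w := a) (Or.inr (Or.inl rfl))
  have bva := P.split_ub K h1 h2 hS (w := v * a) (Or.inr (Or.inr rfl))
  have hq : ∀ {w : G}, Commute w z → Commute w u → w * w = 1 → (v = w ∨ a = w ∨ v * a = w) →
      ∀ x ∈ hP.C6, (∃ y ∈ sixV, K.img w y + y = x) → qe K.e x = false := by
    rintro w hz hu hw2 hw x ⟨⟨fv, fa⟩, hx6⟩ ⟨y, -, hyx⟩
    set j := mv w (K.lift y) with hj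
    have hjJ : j ∈ O2c z := mul_mem (conj_O2c hz (K.lift_mem y)) (inv_mem (K.lift_mem y))
    have hjn : K.vec j = x := by rw [hj, K.vec_mv hz hu (K.lift_mem y), K.vec_lift, hyx]
    have hjw : mv w j = zb z (qe K.e x) := by rw [hj, K.mv_comm hz hw2 (K.lift_mem y), ← hj, hjn]
    have hc := P.commute_all K h1 h2 hjJ (by rw [hjn]; exact fv) (by rw [hjn]; exact fa)
      (by rw [hjn]; exact bv x hx6 fv) (by rw [hjn]; exact ba x hx6 fa)
    have hca := (P.comm_iff K h1 h2 hjJ).1.1 hc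
    have hcw : Commute j w := by
      rcases hw with rfl | rfl | rfl
      exacts [hc, hca, hc.mul_right hca]
    rw [K.mv_eq_one_iff.2 hcw.symm] at hjw
    exact K.zb_eq_one hjw.symm
  have hqt := hq P.vz P.vu (P.v_sq K) (Or.inl rfl)
  have hqs := hq P.az P.au (P.a_sq K) (Or.inr (Or.inl rfl))
  have hqts := hq (P.vz.mul_left P.az) (P.vu.mul_left P.au) (P.va_sq K) (Or.inr (Or.inr rfl))
  rw [P.img_va K] at hqts
  obtain ⟨h3, h4, h5⟩ := hP.split hS hqt hqs hqts
    (P.fix_le K h1 h2 P.vz P.vu (fun x hx y hy => add_six hx hy) bv fun j _ h => h)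
    (P.fix_le K h1 h2 P.az P.au (fun x hx y hy => add_six hx hy) ba
      fun j hj => (P.comm_iff K h1 h2 hj).1.2)
    (by
      rw [← P.img_va K]
      exact P.fix_le K h1 h2 (P.vz.mul_left P.az) (P.vu.mul_left P.au) (fun x hx y hy => add_six hx hy) bva
        fun j hj h => (P.comm_iff K h1 h2 hj).1.2 ((P.comm_iff K h1 h2 hj).2.1 h))
  exact ⟨h3, h4, h5, hqt, hqs⟩

theorem not_split (h1 : TI z u) (h2 : TI z (u * z)) (hS : ISplit K.I) : False := by
  obtain ⟨hvI, haI, h8, hqt, hqs⟩ := P.split_data K h1 h2 hS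
  obtain ⟨g, g1, g2, P'⟩ := P.flip K h2
  obtain ⟨hvI', haI', -⟩ := P'.split_data K h1 h2 hS
  -- lifts of the plane commute with the flipped pair
  have hpl : ∀ p ∈ vecs [0, 64, 128, 192], Commute (K.lift p) (g⁻¹ * u * g) := by
    intro p hp
    refine P'.commute_all K h1 h2 (K.lift_mem p) ?_ ?_ ?_ ?_ <;> rw [K.vec_lift]
    exacts [hS.fix_plane hvI' hp, hS.fix_plane haI' hp, K.ub_plane hS hp P'.vz P'.vu hvI',
      K.ub_plane hS hp P'.az P'.au haI']
  have hpa : ∀ p ∈ vecs [0, 64, 128, 192], Commute (K.lift p) (g⁻¹ * z * g) := fun p hp =>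
    (P'.comm_iff K h1 h2 (K.lift_mem p)).1.1 (hpl p hp)
  set x := K.lift (W8.mk 64) with hx
  set y := K.lift (W8.mk 128) with hy
  have hxp : W8.mk 64 ∈ vecs [0, 64, 128, 192] := by decide +kernel
  have hyp : W8.mk 128 ∈ vecs [0, 64, 128, 192] := by decide +kernel
  have hxy : x * y * x⁻¹ * y⁻¹ = z := by
    show mv x y = z
    rw [hx, hy, K.mv_J (K.lift_mem _) (K.lift_mem _), K.vec_lift, K.vec_lift,
      show bb (W8.mk 64) (W8.mk 128) = true by decide +kernel, zb_true]
  have conj : ∀ {p : W8}, p ∈ vecs [0, 64, 128, 192] →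
      Commute (g * K.lift p * g⁻¹) z ∧ Commute (g * K.lift p * g⁻¹) u ∧
      Commute (g * K.lift p * g⁻¹) v ∧ Commute (g * K.lift p * g⁻¹) a := fun {p} hp => by
    have h1' := conj_commute g (hpa p hp)
    have h2' := conj_commute g (hpl p hp)
    have h3' := conj_commute g (K.J_comm_u (K.lift_mem p))
    have h4' := conj_commute g (K.J_comm_z (K.lift_mem p))
    rw [show g * (g⁻¹ * z * g) * g⁻¹ = z by group] at h1'
    rw [show g * (g⁻¹ * u * g) * g⁻¹ = u by group] at h2'
    rw [g1] at h3'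
    rw [g2] at h4'
    exact ⟨h1', h2', h3', h4'⟩
  obtain ⟨Xz, Xu, Xv, Xa⟩ := conj hxp
  obtain ⟨Yz, Yu, Yv, Ya⟩ := conj hyp
  set X := g * x * g⁻¹ with hX
  set Y := g * y * g⁻¹ with hY
  have hXY : X * Y * X⁻¹ * Y⁻¹ = a := by
    rw [hX, hY, ← g2, ← hxy]; group
  obtain ⟨χ, hχs, hχ⟩ := (P.pair K h1 h2).split_functional hS hvI haI h8 hqt hqs
  have hc : ∀ {c : G}, Commute c z → Commute c u → Commute c v → Commute c a →
      K.img c ∈ K.R ∧ K.img c * K.img v = K.img v * K.img c ∧ K.img c * K.img a = K.img a * K.img c :=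
    fun {c} hz hu hv ha => ⟨K.img_mem hz hu,
      by rw [← K.img_mul hz hu P.vz P.vu, hv.eq, K.img_mul P.vz P.vu hz hu],
      by rw [← K.img_mul hz hu P.az P.au, ha.eq, K.img_mul P.az P.au hz hu]⟩
  obtain ⟨A1, A2, A3⟩ := hc Xz Xu Xv Xa
  obtain ⟨B1, B2, B3⟩ := hc Yz Yu Yv Ya
  have hadd : ∀ {p q : Equiv.Perm W8}, p ∈ K.R → q ∈ K.R → Commute p (K.img v) → Commute p (K.img a) →
      Commute q (K.img v) → Commute q (K.img a) → χ (p * q) = xor (χ p) (χ q) := fun hp hq c1 c2 c3 c4 =>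
    hχ _ _ hp hq c1 c2 c3 c4
  have hone : χ 1 = false := by
    have := hadd (one_mem K.R) (one_mem K.R) (Commute.one_left _) (Commute.one_left _)
      (Commute.one_left _) (Commute.one_left _)
    simpa using this
  have hAB : Commute (K.img X) (K.img v) ∧ Commute (K.img X) (K.img a) := ⟨A2, A3⟩
  have hBB : Commute (K.img Y) (K.img v) ∧ Commute (K.img Y) (K.img a) := ⟨B2, B3⟩
  have e1 : K.img X * K.img Y = K.img a * (K.img Y * K.img X) := by
    rw [← K.img_mul Xz Xu Yz Yu, ← K.img_mul Yz Yu Xz Xu, ← K.img_mul P.az P.au (Yz.mul_left Xz)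
      (Yu.mul_left Xu), ← hXY]
    congr 1
    group
  have e2 := congrArg χ e1
  rw [hadd A1 B1 hAB.1 hAB.2 hBB.1 hBB.2, hadd (K.img_mem P.az P.au) (mul_mem B1 A1)
      (P.pair K h1 h2).comm.symm (Commute.refl _) (hBB.1.mul_left hAB.1) (hBB.2.mul_left hAB.2),
    hadd B1 A1 hBB.1 hBB.2 hAB.1 hAB.2, hχs] at e2
  revert e2
  cases χ (K.img X) <;> cases χ (K.img Y) <;> decide

theorem false_of_TI (h1 : TI z u) (h2 : TI z (u * z)) : False := by
  rcases K.shape with ⟨he, hN⟩ | hS
  exacts [P.not_natural K h1 h2 he hN, P.not_split K h1 h2 hS]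

end Pr

/-- A conjugate of `u` centralising `z` and `u` is central in the core. -/
theorem Co.inZ_of_conj (K : Co z u) (h1 : TI z u) (h2 : TI z (u * z)) (g : G)
    (hz : Commute (g * u * g⁻¹) z) (hu : Commute (g * u * g⁻¹) u) : InZ z u (g * u * g⁻¹) := by
  by_contra hnz
  obtain ⟨a, P⟩ := exists_pr K h1 g hz hu hnz
  exact P.false_of_TI K h1 h2

end Cfsg.Agent.FiTwentyTwoByTwo
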