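import Cfsg.Agent.Lib.FiTwentyTwoByTwo.Fusion

/-!
# No conjugate of `z` in `C(z)` moves `u`
-/

set_option autoImplicit false
set_option linter.unusedSectionVars false
set_option maxRecDepth 100000

namespace Cfsg.Agent.FiTwentyTwoByTwo

open Subgroup Cfsg.Agent.ThreeTransp.U62Cent Cfsg.Agent.ThreeTransp.U62Cent.W8

/-- A reflection does not normalise the natural group. -/
theorem nat_rfx : ∀ v : W8, qe true v = false ∨ ∃ p ∈ pts,
    cols (fun x => rfx v (tv p (rfx v (W8.sig x)))) ≠ cols (fun x => W8.sig (rfx v (tv p (rfx v x)))) := by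
  decide +kernel

universe u'

variable {G : Type u'} [Group G] [Finite G] {z u g : G}

namespace Co

variable (K : Co z u) (h1 : TI z u) (h2 : TI z (u * z)) (hz : Commute (g * z * g⁻¹) z)
  (hu : ¬ Commute (g * z * g⁻¹) u)


include K

theorem conj_sq (k : G) : k * z * k⁻¹ * (k * z * k⁻¹) = 1 := by
  rw [show k * z * k⁻¹ * (k * z * k⁻¹) = k * (z * z) * k⁻¹ by group, K.zz]; group

theorem conj_z_inv (k : G) : (k * z * k⁻¹)⁻¹ = k * z * k⁻¹ := inv_eq_of_mul_eq_one_right (K.conj_sq k)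

include h1 h2 hz hu

theorem frame : Commute (g⁻¹ * z * g) z ∧ ¬ Commute (g⁻¹ * z * g) u := by
  have hf : Commute (g⁻¹ * z * g) z := by
    have := conj_commute g⁻¹ hz.symm
    rwa [show g⁻¹ * (g * z * g⁻¹) * g⁻¹⁻¹ = z by group, inv_inv] at this
  refine ⟨hf, fun h => hu ?_⟩
  have e := K.fusion_z h1 h2 g⁻¹ (by rwa [inv_inv]) (by rwa [inv_inv])
  have e' : (g * z * g⁻¹) = z := by
    calc g * z * g⁻¹ = g * (g⁻¹ * z * g⁻¹⁻¹) * g⁻¹ := by rw [e]
      _ = z := by group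
  rw [e']
  exact K.comm_zu.symm

/-- A conjugate of `z` moving `u` and commuting with `a` is `a` or `az`. -/
theorem outer_pair {k : G} (hkz : Commute (k * z * k⁻¹) z) (hku : ¬ Commute (k * z * k⁻¹) u)
    (hka : Commute (k * z * k⁻¹) (g * z * g⁻¹)) : k * z * k⁻¹ = (g * z * g⁻¹) ∨ k * z * k⁻¹ = (g * z * g⁻¹) * z := by
  obtain ⟨hf, hfu⟩ := K.frame h1 h2 hz hu
  have hbz : Commute (g⁻¹ * k * z * (g⁻¹ * k)⁻¹) z := by
    have := conj_commute g⁻¹ hka
    rwa [show g⁻¹ * (k * z * k⁻¹) * g⁻¹⁻¹ = g⁻¹ * k * z * (g⁻¹ * k)⁻¹ by group,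
      show g⁻¹ * (g * z * g⁻¹) * g⁻¹⁻¹ = z by group] at this
  by_cases hbu : Commute (g⁻¹ * k * z * (g⁻¹ * k)⁻¹) u
  · left
    have e := K.fusion_z h1 h2 _ hbz hbu
    calc k * z * k⁻¹ = g * (g⁻¹ * k * z * (g⁻¹ * k)⁻¹) * g⁻¹ := by group
      _ = (g * z * g⁻¹) := by rw [e]
  · right
    have hp := K.outer_mul hbz hf hbu hfu
    have hflip := K.flip_z hkz (K.conj_sq k) hku
    have he : g⁻¹ * k * z * (g⁻¹ * k)⁻¹ * (g⁻¹ * z * g) = (g⁻¹ * u * k) * z * (g⁻¹ * u * k)⁻¹ := by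
      calc g⁻¹ * k * z * (g⁻¹ * k)⁻¹ * (g⁻¹ * z * g) = g⁻¹ * (k * z * k⁻¹ * z) * g := by group
        _ = g⁻¹ * (u * (k * z * k⁻¹) * u⁻¹) * g := by rw [hflip]
        _ = _ := by group
    have hp' : Commute (g⁻¹ * k * z * (g⁻¹ * k)⁻¹ * (g⁻¹ * z * g)) z := hbz.mul_left hf
    rw [he] at hp hp'
    have e := K.fusion_z h1 h2 _ hp' hp
    have e' : k * z * k⁻¹ * z = (g * z * g⁻¹) := by
      calc k * z * k⁻¹ * z = g * (g⁻¹ * k * z * (g⁻¹ * k)⁻¹ * (g⁻¹ * z * g)) * g⁻¹ := by group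
        _ = (g * z * g⁻¹) := by rw [he, e]
    rw [← e', mul_assoc (k * z * k⁻¹), K.zz, mul_one]

/-- The action is a reflection. -/
theorem act_rfx (hf : ∀ c, Commute c z → (∀ v, K.act c v = v) → Commute c u) :
    ∃ n, qe K.e n = true ∧ ∀ v, K.act (g * z * g⁻¹) v = rfx n v := by
  set t := K.actP hz with ht
  have htv : IsInv K.e t := K.actP_isInv hz (K.conj_sq g)
  have hsing : ∀ v, qe K.e (t v + v) = false → t v + v = 0 := by
    intro v hq
    set j := K.lift v with hj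
    have hjJ : j ∈ O2c z := K.lift_mem v
    have hfJ : mv (g * z * g⁻¹) j ∈ O2c z := mul_mem (conj_O2c hz hjJ) (inv_mem hjJ)
    have hvec : K.vec (mv (g * z * g⁻¹) j) = t v + v := by
      rw [K.vec_mul (conj_O2c hz hjJ) (inv_mem hjJ), K.vec_inv hjJ, hj, K.vec_lift]
      rfl
    have h2' : mv (g * z * g⁻¹) j * mv (g * z * g⁻¹) j = 1 := by rw [K.sq hfJ, hvec, hq]; rfl
    have hb : mv (g * z * g⁻¹) j = (g * z * g⁻¹) * (j * g * z * (j * g)⁻¹) := by
      calc mv (g * z * g⁻¹) j = (g * z * g⁻¹) * (j * (g * z * g⁻¹)⁻¹ * j⁻¹) := by unfold mv; group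
        _ = (g * z * g⁻¹) * (j * (g * z * g⁻¹) * j⁻¹) := by rw [K.conj_z_inv g]
        _ = _ := by group
    set b := j * g * z * (j * g)⁻¹ with hbd
    have hbz : Commute b z := by
      rw [hbd, show j * g * z * (j * g)⁻¹ = j * (g * z * g⁻¹) * j⁻¹ by group]
      exact ((K.J_comm_z hjJ).mul_left hz).mul_left (K.J_comm_z hjJ).inv_left
    have hbu : ¬ Commute b u := fun h => hu (by
      rw [show g * z * g⁻¹ = j⁻¹ * b * j by rw [hbd]; group]
      exact ((K.J_comm_u hjJ).inv_left.mul_left h).mul_left (K.J_comm_u hjJ))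
    have hba : Commute b (g * z * g⁻¹) := by
      rw [hb] at h2'
      have e := inv_eq_of_mul_eq_one_right h2'
      rw [mul_inv_rev, K.conj_z_inv g, inv_eq_of_mul_eq_one_right (K.conj_sq (j * g))] at e
      exact e
    rw [← hvec, hb]
    rcases K.outer_pair h1 h2 hz hu hbz hbu hba with e | e <;> rw [hbd, e]
    · rw [K.conj_sq g, K.vec_one]
    · rw [← mul_assoc, K.conj_sq g, one_mul, K.vec_z]
  obtain ⟨y0, hy0⟩ : ∃ v, t v + v ≠ 0 := by
    by_contra hc
    push Not at hc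
    exact hu (hf _ hz fun v => W8.eq_of_add (hc v))
  set n := t y0 + y0 with hn
  have hq1 : ∀ v, t v + v ≠ 0 → qe K.e (t v + v) = true := fun v hv => by
    by_contra hc
    exact hv (hsing v (by simpa using hc))
  have hqn : qe K.e n = true := hq1 y0 hy0
  refine ⟨n, hqn, fun v => ?_⟩
  show t v = rfx n v
  by_cases hv : t v + v = 0
  · have hfix := W8.eq_of_add hv
    rw [rfx, show bb v n = false from htv.perp_im hfix y0, hfix]
    simp
  · have he : t v + v = n := by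
      refine W8.eq_of_add ?_
      have hsum : t (v + y0) + (v + y0) = (t v + v) + n := by
        rw [htv.iso.add, hn, add_add_add_comm]
      rw [← hsum]
      refine hsing _ ?_
      rw [hsum, qe_add, hq1 v hv, hqn,
        show bb (t v + v) n = false from htv.perp_im (htv.im_fix ⟨v, rfl⟩) y0]
      rfl
    have hte : t v = v + n := by rw [← he, add_left_comm, W8.add_self, add_zero]
    have hb : bb v n = true := by
      have h := htv.iso.q v
      rw [hte, qe_add, hqn] at h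
      revert h
      cases qe K.e v <;> cases bb v n <;> decide
    rw [hte, rfx, hb]
    rfl

variable {n : W8} (hqn : qe K.e n = true) (hrfx : ∀ v, K.act (g * z * g⁻¹) v = rfx n v)

include hqn hrfx

theorem act_n : K.act (g * z * g⁻¹) n = n := by rw [hrfx, rfx, bb_self]; simp

theorem n_ne : n ≠ 0 := fun e => by rw [e, qe_zero] at hqn; exact absurd hqn (by decide)

theorem perp_of_commute {j : G} (hj : j ∈ O2c z) (hja : Commute j (g * z * g⁻¹)) : bb (K.vec j) n = false := by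
  have e := K.act_vec hz hj
  rw [hja.symm.eq, mul_inv_cancel_right, hrfx, rfx] at e
  cases hb : bb (K.vec j) n
  · rfl
  · rw [hb] at e
    exact absurd (left_eq_add.1 e) (K.n_ne h1 h2 hz hu hqn hrfx)

/-- vectors orthogonal to `n` lift into `C(a)` -/
theorem lift_comm {y : W8} (hy : bb y n = false) : ∃ j ∈ O2c z, K.vec j = y ∧ Commute j (g * z * g⁻¹) := by
  set j := K.lift y with hj
  have hjJ : j ∈ O2c z := K.lift_mem y
  have hm : InZ z u (mv (g * z * g⁻¹) j) := (K.vec_eq_zero (mul_mem (conj_O2c hz hjJ) (inv_mem hjJ))).1 (by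
    rw [K.vec_mul (conj_O2c hz hjJ) (inv_mem hjJ), K.act_vec hz hjJ, K.vec_inv hjJ, hj, K.vec_lift, hrfx, rfx, hy]
    simp [W8.add_self])
  have hc : Commute (g * z * g⁻¹) (mv (g * z * g⁻¹) j) := K.mv_eq_one_iff.1 (by
    rw [K.mv_comm hz (K.conj_sq g) hjJ, (K.vec_eq_zero (K.inZ_mem hm)).2 hm, qe_zero]; rfl)
  have hcases : mv (g * z * g⁻¹) j = 1 ∨ mv (g * z * g⁻¹) j = z := by
    rcases hm with e | e | e | e
    · exact Or.inl e
    · exact Or.inr e
    · rw [e] at hc; exact absurd hc hu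
    · rw [e] at hc
      refine absurd ?_ hu
      have := hc.mul_right hz
      rwa [mul_assoc u, K.zz, mul_one] at this
  rcases hcases with e | e
  · exact ⟨j, hjJ, K.vec_lift y, (K.mv_eq_one_iff.1 e).symm⟩
  · refine ⟨j * u, mul_mem hjJ K.u_mem, by rw [K.vec_mul hjJ K.u_mem, K.vec_u, add_zero, hj, K.vec_lift], ?_⟩
    have hau : mv (g * z * g⁻¹) u = z := by
      have e1 : (g * z * g⁻¹) * u * (g * z * g⁻¹)⁻¹ = u * z :=
        (K.perm _ hz).resolve_left fun h => hu (mul_inv_eq_iff_eq_mul.1 h)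
      show (g * z * g⁻¹) * u * (g * z * g⁻¹)⁻¹ * u⁻¹ = z
      rw [e1, K.comm_zu.eq, mul_assoc, mul_inv_cancel, mul_one]
    refine (K.mv_eq_one_iff.1 ?_).symm
    rw [K.mv_mul_right hjJ (by rw [hau]; exact Or.inr (Or.inl rfl)), e, hau, K.zz]

/-- The conjugates of `z` over `a` are conjugate to `a` under the core. -/
theorem class_lemma {k : G} (hkz : Commute (k * z * k⁻¹) z) (hku : ¬ Commute (k * z * k⁻¹) u)
    (hJ : (g * z * g⁻¹) * (k * z * k⁻¹) ∈ O2c z) : ∃ j ∈ O2c z, j * (k * z * k⁻¹) * j⁻¹ = (g * z * g⁻¹) := by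
  -- first the conjugates commuting with `a`
  have hcomm : ∀ k : G, Commute (k * z * k⁻¹) z → ¬ Commute (k * z * k⁻¹) u →
      ∀ hm : (g * z * g⁻¹) * (k * z * k⁻¹) ∈ O2c z, qe K.e (K.vec ((g * z * g⁻¹) * (k * z * k⁻¹))) = false →
        ∃ j ∈ O2c z, j * (k * z * k⁻¹) * j⁻¹ = (g * z * g⁻¹) := by
    intro k hkz hku hm hq
    have h2' : (g * z * g⁻¹) * (k * z * k⁻¹) * ((g * z * g⁻¹) * (k * z * k⁻¹)) = 1 := by rw [K.sq hm, hq]; rfl
    have e := inv_eq_of_mul_eq_one_right h2'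
    rw [mul_inv_rev, K.conj_z_inv g, K.conj_z_inv k] at e
    rcases K.outer_pair h1 h2 hz hu hkz hku e with e | e
    · exact ⟨1, one_mem _, by rw [e]; group⟩
    · refine ⟨u, K.u_mem, ?_⟩
      rw [e]
      calc u * ((g * z * g⁻¹) * z) * u⁻¹ = (u * (g * z * g⁻¹) * u⁻¹) * (u * z * u⁻¹) := by group
        _ = (g * z * g⁻¹) * z * z := by rw [K.flip_z hz (K.conj_sq g) hu, K.comm_zu.eq, mul_inv_cancel_right]
        _ = (g * z * g⁻¹) := by rw [mul_assoc, K.zz, mul_one]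
  cases hq : qe K.e (K.vec ((g * z * g⁻¹) * (k * z * k⁻¹)))
  · exact hcomm k hkz hku hJ hq
  set j0 := (g * z * g⁻¹) * (k * z * k⁻¹) with hj0
  set y := K.vec j0 with hy
  have hty : K.act (g * z * g⁻¹) y = y := by
    have hinv : (g * z * g⁻¹) * j0 * (g * z * g⁻¹)⁻¹ = j0⁻¹ := by
      rw [hj0, mul_inv_rev (g * z * g⁻¹) (k * z * k⁻¹), K.conj_z_inv g, K.conj_z_inv k, ← mul_assoc (g * z * g⁻¹) (g * z * g⁻¹), K.conj_sq g, one_mul]
    rw [hy, ← K.act_vec hz hJ, hinv, K.vec_inv hJ]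
  have hyn : bb y n = false := by
    rw [hrfx, rfx] at hty
    cases hb : bb y n
    · rfl
    · rw [hb] at hty
      exact absurd (add_eq_left.1 hty) (K.n_ne h1 h2 hz hu hqn hrfx)
  obtain ⟨w, -, hw⟩ := (bb_nondeg n).resolve_left (K.n_ne h1 h2 hz hu hqn hrfx)
  set l := K.lift w with hl
  have hlJ : l ∈ O2c z := K.lift_mem w
  have hb' : (g * z * g⁻¹) * (l * k * z * (l * k)⁻¹) = mv (g * z * g⁻¹) l * (l * j0 * l⁻¹) := by rw [hj0]; unfold mv; group
  have hfJ : mv (g * z * g⁻¹) l ∈ O2c z := mul_mem (conj_O2c hz hlJ) (inv_mem hlJ)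
  have hcJ := conj_O2c (K.J_comm_z hlJ) hJ
  have he : l * k * z * (l * k)⁻¹ = l * (k * z * k⁻¹) * l⁻¹ := by group
  have hz' : Commute (l * k * z * (l * k)⁻¹) z := by
    rw [he]
    exact ((K.J_comm_z hlJ).mul_left hkz).mul_left (K.J_comm_z hlJ).inv_left
  have hu' : ¬ Commute (l * k * z * (l * k)⁻¹) u := fun h => hku (by
    rw [show k * z * k⁻¹ = l⁻¹ * (l * k * z * (l * k)⁻¹) * l by group]
    exact ((K.J_comm_u hlJ).inv_left.mul_left h).mul_left (K.J_comm_u hlJ))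
  obtain ⟨j, hj, hje⟩ := hcomm (l * k) hz' hu' (by rw [hb']; exact mul_mem hfJ hcJ) (by
    rw [hb', K.vec_mul hfJ hcJ, K.vec_mul (conj_O2c hz hlJ) (inv_mem hlJ), K.vec_inv hlJ, K.act_vec hz hlJ,
      K.vec_conj (K.J_comm_z hlJ) (K.J_comm_u hlJ) hJ, K.img_J hlJ, hl, K.vec_lift, hrfx, rfx,
      show bb w n = true by rw [bb_comm]; exact hw]
    show qe K.e (w + n + w + y) = false
    rw [show w + n + w + y = n + y by rw [add_comm w n, add_assoc n, W8.add_self, add_zero],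
      qe_add, hqn, hq, bb_comm, hyn]
    rfl)
  refine ⟨j * l, mul_mem hj hlJ, ?_⟩
  rw [← hje]; group

omit hqn in
theorem img_conj_outer {d : G} (hdz : Commute d z) (hdu : Commute d u)
    (hu' : Commute ((g * z * g⁻¹) * d * (g * z * g⁻¹)⁻¹) u) (v : W8) :
    K.img ((g * z * g⁻¹) * d * (g * z * g⁻¹)⁻¹) v = rfx n (K.img d (rfx n v)) := by
  rw [← K.act_img ((hz.mul_left hdz).mul_left hz.inv_left) hu', K.act_mul (hz.mul_left hdz) hz.inv_left,
    K.act_mul hz hdz, K.conj_z_inv g, hrfx, hrfx, K.act_img hdz hdu]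

omit hqn in
theorem conj_outer_comm {d : G} (hdz : Commute d z) (hdu : Commute d u) :
    Commute ((g * z * g⁻¹) * d * (g * z * g⁻¹)⁻¹) u := by
  rcases K.perm _ hz with e | e
  · exact absurd (mul_inv_eq_iff_eq_mul.1 e) hu
  · have h := conj_commute (g * z * g⁻¹) (hdu.mul_right hdz)
    have e2 : (g * z * g⁻¹) * (u * z) * (g * z * g⁻¹)⁻¹ = u := by
      calc (g * z * g⁻¹) * (u * z) * (g * z * g⁻¹)⁻¹ = ((g * z * g⁻¹) * u * (g * z * g⁻¹)⁻¹) * ((g * z * g⁻¹) * z * (g * z * g⁻¹)⁻¹) := by group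
        _ = u * z * z := by rw [e, hz.eq, mul_inv_cancel_right]
        _ = u := by rw [mul_assoc, K.zz, mul_one]
    rwa [e2] at h

/-- The natural shape does not occur, and in the split shape the vector is of the two simple kinds. -/
theorem split_vector : ISplit K.I ∧ ¬ (qe true (S.sixp n) = false ∧ S.sixp n ≠ 0) := by
  have hR : K.R = K.I := K.inner_only (g * z * g⁻¹) hz hu
  have hnorm : ∀ k ∈ K.I, ∃ k' ∈ K.I, ∀ v, k' v = rfx n (k (rfx n v)) := by
    intro k hk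
    obtain ⟨d, hdz, hdu, rfl⟩ := (K.img_range k).1 (K.I_le hk)
    have hu' := K.conj_outer_comm h1 h2 hz hu hrfx hdz hdu
    exact ⟨_, hR ▸ K.img_mem ((hz.mul_left hdz).mul_left hz.inv_left) hu',
      K.img_conj_outer h1 h2 hz hu hrfx hdz hdu hu'⟩
  rcases K.shape with ⟨he, hN⟩ | hS
  · exfalso
    rcases nat_rfx n with h | ⟨p, hp, h⟩
    · rw [he, h] at hqn
      exact absurd hqn (by decide)
    obtain ⟨k', hk', hk⟩ := hnorm _ (by
      haveI := hN.simple
      exact tv_mem_of_simple hN.le hN.card p hp)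
    refine h (List.map_congr_left fun v _ => ?_)
    show rfx n (tv p (rfx n (W8.sig v))) = W8.sig (rfx n (tv p (rfx n v)))
    have e := (hN.le hk').sig rfl v
    rw [hk, hk] at e
    exact e
  · refine ⟨hS, fun ⟨hq6, hne⟩ => ?_⟩
    -- the reflection preserves the plane
    have hplane : ∀ p ∈ vecs [0, 64, 128, 192], rfx n p ∈ vecs [0, 64, 128, 192] := by
      intro p hp
      refine (S.plane_only (rfx n p)).resolve_right ?_
      rintro ⟨r, hr, s, hs, hrs⟩
      haveI := hS.simple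
      obtain ⟨k', hk', hk⟩ := hnorm _ (pair_mem_of_simple hS.le hS.card r s hr hs)
      have e := hk p
      rw [hS.fix_plane hk' hp] at e
      refine hrs ?_
      have e' := congrArg (rfx n) e
      rw [rfx_inv] at e'
      exact e'.symm
    by_cases hb : ∃ p ∈ vecs [0, 64, 128, 192], bb p n = true
    · obtain ⟨p, hp, hpn⟩ := hb
      have h := hplane p hp
      rw [rfx, hpn, if_pos rfl] at h
      have hn := S.plane_add _ h _ hp
      rw [show p + n + p = n by rw [add_comm p n, add_assoc, W8.add_self, add_zero]] at hn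
      obtain ⟨h6, -⟩ := S.proj_unique 0 zero_six n hn
      rw [zero_add] at h6
      exact hne h6
    · push Not at hb
      have h6 : n ∈ six := S.six_perp n fun p hp => by rw [bb_comm]; simpa using hb p hp
      obtain ⟨h6', -⟩ := S.proj_unique n h6 0 (by decide +kernel)
      rw [add_zero] at h6'
      rw [h6', ← qe_six K.e n h6, hqn] at hq6
      exact absurd hq6 (by decide)

end Co

end Cfsg.Agent.FiTwentyTwoByTwo
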