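import Cfsg.Agent.Lib.FiTwentyTwoByTwo.FrameFacts
import Cfsg.Agent.Lib.ZStar.CentralWeaklyClosed

/-!
# The quotient of `C(u)` by `⟨u⟩` and the image of `z` in it
-/

set_option autoImplicit false
set_option linter.unusedSectionVars false

namespace Cfsg.Agent.FiTwentyTwoByTwo

open Subgroup Cfsg.Agent.ThreeTransp.U62Cent

universe u'

variable {G : Type u'} [Group G]

instance zpowers_cent_normal (u : G) : ((zpowers u).subgroupOf (centralizer ({u} : Set G))).Normal :=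
  ⟨fun n hn g => mem_subgroupOf.2 (by
    obtain ⟨k, hk⟩ := mem_zpowers_iff.1 (mem_subgroupOf.1 hn)
    have hg : Commute (g : G) ((n : G)) := hk ▸ (mem_cent.1 g.2).zpow_right k
    simp only [coe_mul, InvMemClass.coe_inv]
    rw [hg.eq, mul_inv_cancel_right]
    exact mem_subgroupOf.1 hn)⟩

/-- `C(u)/⟨u⟩` -/
abbrev QU (u : G) : Type u' :=
  ↥(centralizer ({u} : Set G)) ⧸ (zpowers u).subgroupOf (centralizer ({u} : Set G))

/-- the projection -/
abbrev pr (u : G) : ↥(centralizer ({u} : Set G)) →* QU u :=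
  QuotientGroup.mk' ((zpowers u).subgroupOf (centralizer ({u} : Set G)))

variable [Finite G] {z u : G}

namespace Frame

variable (F : Frame z u)

include F

theorem z_mem_cH : z ∈ cH z u := F.J_le_cH F.z_mem

/-- the image of `z` -/
noncomputable def zX : QU u := pr u ⟨z, (mem_inf.1 F.z_mem_cH).2⟩

theorem pr_eq_one {c : ↥(centralizer ({u} : Set G))} : pr u c = 1 ↔ (c : G) = 1 ∨ (c : G) = u := by
  rw [QuotientGroup.mk'_apply, QuotientGroup.eq_one_iff, mem_subgroupOf]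
  constructor
  · intro h
    obtain ⟨k, hk⟩ := mem_zpowers_iff.1 h
    rcases Int.even_or_odd k with ⟨m, rfl⟩ | ⟨m, rfl⟩
    · left
      rw [← hk, zpow_add, ← (Commute.refl u).mul_zpow, F.uu, one_zpow]
    · right
      rw [← hk, zpow_add, zpow_mul, zpow_one, zpow_two, F.uu, one_zpow, one_mul]
  · rintro (h | h) <;> rw [h]
    exacts [one_mem _, mem_zpowers u]

theorem pr_eq {c d : ↥(centralizer ({u} : Set G))} : pr u c = pr u d ↔ (d : G) = c ∨ (d : G) = c * u := by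
  rw [show pr u c = pr u d ↔ pr u (c⁻¹ * d) = 1 by rw [map_mul, map_inv, inv_mul_eq_one], F.pr_eq_one]
  simp only [coe_mul, InvMemClass.coe_inv, inv_mul_eq_iff_eq_mul, mul_one]

theorem zX_ne : F.zX ≠ 1 := fun e => by
  rcases F.pr_eq_one.1 e with h | h
  exacts [F.z_ne h, F.u_ne h.symm]

theorem zX_orderOf : orderOf F.zX = 2 := by
  refine orderOf_eq_prime ?_ F.zX_ne
  rw [pow_two, zX, ← map_mul, show (⟨z, (mem_inf.1 F.z_mem_cH).2⟩ : ↥(centralizer ({u} : Set G))) *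
    ⟨z, (mem_inf.1 F.z_mem_cH).2⟩ = 1 from Subtype.ext F.zz, map_one]

theorem rho_mem (c : ↥(cH z u)) : pr u ⟨c, (mem_inf.1 c.2).2⟩ ∈ centralizer ({F.zX} : Set (QU u)) := by
  refine mem_cent.2 ?_
  show pr u _ * F.zX = F.zX * pr u _
  rw [zX, ← map_mul, ← map_mul]
  exact congrArg _ (Subtype.ext (mem_cH.1 c.2).1.eq)

/-- `C(z) ∩ C(u)` onto the centraliser of the image of `z` -/
noncomputable def rho : ↥(cH z u) →* ↥(centralizer ({F.zX} : Set (QU u))) where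
  toFun c := ⟨pr u ⟨c, (mem_inf.1 c.2).2⟩, F.rho_mem c⟩
  map_one' := Subtype.ext (map_one (pr u))
  map_mul' a b := Subtype.ext (map_mul (pr u) ⟨a, (mem_inf.1 a.2).2⟩ ⟨b, (mem_inf.1 b.2).2⟩)

theorem rho_apply (c : ↥(cH z u)) : ((F.rho c : ↥(centralizer ({F.zX} : Set (QU u)))) : QU u) =
    pr u ⟨c, (mem_inf.1 c.2).2⟩ := rfl

theorem mem_cent_zX {c : ↥(centralizer ({u} : Set G))} (h : pr u c ∈ centralizer ({F.zX} : Set (QU u))) :
    (c : G) ∈ cH z u := by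
  have hu : Commute (c : G) u := mem_cent.1 c.2
  refine mem_cH.2 ⟨?_, hu⟩
  have h1 : pr u c * F.zX * (pr u c)⁻¹ = F.zX := by rw [(mem_cent.1 h).eq, mul_inv_cancel_right]
  rw [zX, ← map_inv, ← map_mul, ← map_mul] at h1
  rcases F.pr_eq.1 h1 with e | e <;> simp only [coe_mul, InvMemClass.coe_inv] at e
  · exact mul_inv_eq_iff_eq_mul.1 e.symm
  · exfalso
    refine (F.not_conj (c : G)).2 ?_
    calc (c : G) * z * (c : G)⁻¹ = (c : G) * z * (c : G)⁻¹ * u * u := by rw [mul_assoc _ u u, F.uu, mul_one]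
      _ = z * u := by rw [← e]
      _ = u * z := F.comm_zu.eq.symm

theorem rho_surj : Function.Surjective F.rho := by
  rintro ⟨y, hy⟩
  obtain ⟨c, rfl⟩ := QuotientGroup.mk'_surjective _ y
  exact ⟨⟨c, F.mem_cent_zX hy⟩, rfl⟩

theorem rho_eq_one {c : ↥(cH z u)} : F.rho c = 1 ↔ (c : G) = 1 ∨ (c : G) = u := by
  rw [← Subtype.coe_inj, rho_apply, coe_one, F.pr_eq_one]

theorem J_pgroup : IsPGroup 2 ↥(O2c z) := by
  haveI : Fact (Nat.Prime 2) := ⟨Nat.prime_two⟩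
  exact IsPGroup.of_card (n := 10) (by rw [F.card]; norm_num)

/-- The 2-core of the centraliser in the quotient is the image of the core. -/
theorem rho_mem_pCore {c : ↥(cH z u)} :
    F.rho c ∈ Cfsg.pCore 2 ↥(centralizer ({F.zX} : Set (QU u))) ↔ (c : G) ∈ O2c z := by
  haveI : Fact (Nat.Prime 2) := ⟨Nat.prime_two⟩
  constructor
  · intro h
    set N := (Cfsg.pCore 2 ↥(centralizer ({F.zX} : Set (QU u)))).comap F.rho with hN
    haveI : (Cfsg.pCore 2 ↥(centralizer ({F.zX} : Set (QU u)))).Normal := inferInstance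
    haveI hNn : N.Normal := Normal.comap inferInstance F.rho
    have hk : IsPGroup 2 ↥F.rho.ker := fun x => ⟨1, by
      refine Subtype.ext (Subtype.ext ?_)
      show ((x : ↥(cH z u)) : G) ^ 2 ^ 1 = 1
      rw [pow_one, pow_two]
      rcases F.rho_eq_one.1 x.2 with e | e <;> rw [e]
      exacts [one_mul 1, F.uu]⟩
    have hp : IsPGroup 2 ↥N := (Cfsg.Agent.Cores.pCore_isPGroup 2).comap_of_ker_isPGroup _ hk
    refine F.le_J (P := N.map (cH z u).subtype) (map_subtype_le _) ?_ (hp.map _) ⟨c, h, rfl⟩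
    rintro h hh _ ⟨n, hn, rfl⟩
    exact ⟨_, hNn.conj_mem n hn ⟨h, hh⟩, rfl⟩
  · intro h
    haveI hJn : ((O2c z).subgroupOf (cH z u)).Normal := ⟨fun n hn g => mem_subgroupOf.2 (by
      simp only [coe_mul, InvMemClass.coe_inv]
      exact conj_O2c (mem_cH.1 g.2).1 (mem_subgroupOf.1 hn))⟩
    have hle : (O2c z).subgroupOf (cH z u) ≤ Cfsg.pCore 2 ↥(cH z u) :=
      Cfsg.Agent.Cores.le_pCore (F.J_pgroup.of_equiv (subgroupOfEquivOfLe F.J_le_cH).symm)
    exact Cfsg.Agent.Cores.map_pCore_le F.rho_surj 2 (mem_map_of_mem _ (hle (mem_subgroupOf.2 h)))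

theorem mem_O2c_zX {y : QU u} :
    y ∈ O2c F.zX ↔ ∃ c : ↥(centralizer ({u} : Set G)), (c : G) ∈ O2c z ∧ pr u c = y := by
  constructor
  · rintro ⟨y, hy, rfl⟩
    obtain ⟨c, rfl⟩ := F.rho_surj y
    exact ⟨_, F.rho_mem_pCore.1 hy, rfl⟩
  · rintro ⟨c, hc, rfl⟩
    exact ⟨_, (F.rho_mem_pCore (c := ⟨c, F.J_le_cH hc⟩)).2 hc, rfl⟩

theorem extra_equiv : ∃ E : Subgroup G, Cfsg.IsExtraspecial 2 ↥E ∧ Nat.card ↥E = 512 ∧
    Nonempty (↥E ≃* ↥(Cfsg.pCore 2 ↥(centralizer ({F.zX} : Set (QU u))))) := by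
  obtain ⟨E, hE, hEx, hc, -, huE, hdec⟩ := F.compl
  refine ⟨E, hEx, hc, ⟨?_⟩⟩
  let f : ↥E →* ↥(Cfsg.pCore 2 ↥(centralizer ({F.zX} : Set (QU u)))) :=
    { toFun := fun x => ⟨F.rho ⟨x, F.J_le_cH (hE x.2)⟩, F.rho_mem_pCore.2 (hE x.2)⟩
      map_one' := Subtype.ext (map_one F.rho)
      map_mul' := fun a b => Subtype.ext (map_mul F.rho ⟨a, F.J_le_cH (hE a.2)⟩ ⟨b, F.J_le_cH (hE b.2)⟩) }
  refine MulEquiv.ofBijective f ⟨(injective_iff_map_eq_one f).2 fun x hx => ?_, ?_⟩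
  · rcases F.rho_eq_one.1 (congrArg Subtype.val hx) with e | e
    · exact Subtype.ext e
    · exact absurd ((show (x : G) = u from e) ▸ x.2) huE
  · rintro ⟨y, hy⟩
    obtain ⟨⟨c, hc⟩, rfl⟩ := F.rho_surj y
    have hcJ := F.rho_mem_pCore.1 hy
    rcases hdec c hcJ with h | h
    · exact ⟨⟨c, h⟩, rfl⟩
    · refine ⟨⟨u * c, h⟩, Subtype.ext (Subtype.ext ?_)⟩
      show pr u _ = pr u _
      refine F.pr_eq.2 (Or.inr ?_)
      show c = u * c * u
      rw [mul_assoc, (F.u_cent c hcJ).eq, ← mul_assoc, F.uu, one_mul]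

theorem extra_zX : Cfsg.IsExtraspecial 2 ↥(Cfsg.pCore 2 ↥(centralizer ({F.zX} : Set (QU u)))) ∧
    Nat.card ↥(Cfsg.pCore 2 ↥(centralizer ({F.zX} : Set (QU u)))) = 2 ^ 9 := by
  obtain ⟨E, hEx, hc, ⟨e⟩⟩ := F.extra_equiv
  exact ⟨Cfsg.Agent.LargeExtra.isExtraspecial_of_equiv hEx e, by
    rw [← Nat.card_congr e.toEquiv, hc]; norm_num⟩

theorem cent_zX :
    centralizer ((Cfsg.pCore 2 ↥(centralizer ({F.zX} : Set (QU u)))) :
      Set ↥(centralizer ({F.zX} : Set (QU u)))) ≤ Cfsg.pCore 2 ↥(centralizer ({F.zX} : Set (QU u))) := by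
  intro y hy
  obtain ⟨⟨c, hc⟩, rfl⟩ := F.rho_surj y
  refine F.rho_mem_pCore.2 (F.faith (mem_cH.1 hc).1 fun j hj => ?_)
  have e := mem_centralizer_iff.1 hy _ ((F.rho_mem_pCore (c := ⟨j, F.J_le_cH hj⟩)).2 hj)
  rw [← map_mul, ← map_mul] at e
  rcases F.pr_eq.1 (congrArg Subtype.val e) with h | h <;>
    simp only [coe_mul] at h
  · exact Or.inl (by rw [h]; group)
  · refine Or.inr (Or.inr (Or.inl ?_))
    rw [h, mul_assoc j c u, (mem_cH.1 hc).2.eq, ← mul_assoc, (F.u_cent j hj).eq]; group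

theorem quot_iso {S : Type*} [Group S] (φ : ↥(cH z u) →* S) (hφ : Function.Surjective φ)
    (hk : ∀ c, φ c = 1 ↔ (c : G) ∈ O2c z) :
    Nonempty ((↥(centralizer ({F.zX} : Set (QU u))) ⧸ Cfsg.pCore 2 ↥(centralizer ({F.zX} : Set (QU u)))) ≃* S) := by
  let χ := (QuotientGroup.mk' (Cfsg.pCore 2 ↥(centralizer ({F.zX} : Set (QU u))))).comp F.rho
  have hχ : Function.Surjective χ := (QuotientGroup.mk'_surjective _).comp F.rho_surj
  have hker : χ.ker = φ.ker := by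
    ext c
    rw [MonoidHom.mem_ker, MonoidHom.mem_ker, hk, ← F.rho_mem_pCore, MonoidHom.comp_apply,
      QuotientGroup.mk'_apply, QuotientGroup.eq_one_iff]
  exact ⟨(QuotientGroup.quotientKerEquivOfSurjective χ hχ).symm.trans
    ((QuotientGroup.quotientMulEquivOfEq hker).trans (QuotientGroup.quotientKerEquivOfSurjective φ hφ))⟩

/-- If `zX` is of the first type in the quotient, so is `u`. -/
theorem TI_of_quot (h : centralizer ({F.zX} : Set (QU u)) ⊔ Cfsg.oddCore (QU u) = ⊤) : TI z u := by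
  haveI : Fact (Nat.Prime 2) := ⟨Nat.prime_two⟩
  intro c hc
  have hmem : pr u ⟨c, mem_cent.2 hc⟩ ∈ centralizer ({F.zX} : Set (QU u)) ⊔ Cfsg.oddCore (QU u) := by
    rw [h]; exact mem_top _
  obtain ⟨y, hy, o, ho, hyo⟩ := mem_sup_of_normal_right.1 hmem
  obtain ⟨k, rfl⟩ := QuotientGroup.mk'_surjective _ y
  obtain ⟨o1, rfl⟩ := QuotientGroup.mk'_surjective _ o
  have hk : (k : G) ∈ cH z u := F.mem_cent_zX hy
  -- lifting the odd core
  set O := Cfsg.oddCore ↥(centralizer ({u} : Set G)) with hO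
  set π := QuotientGroup.mk' O with hπ
  set D := ((zpowers u).subgroupOf (centralizer ({u} : Set G))).map π with hD
  haveI : D.Normal := Normal.map inferInstance π (QuotientGroup.mk'_surjective O)
  have hDc : D ≤ Subgroup.center (↥(centralizer ({u} : Set G)) ⧸ O) := by
    rintro _ ⟨n, hn, rfl⟩
    refine mem_center_iff.2 fun w => ?_
    obtain ⟨w, rfl⟩ := QuotientGroup.mk'_surjective O w
    rw [← map_mul, ← map_mul]
    obtain ⟨i, hi⟩ := mem_zpowers_iff.1 (mem_subgroupOf.1 hn)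
    refine congrArg π (Subtype.ext ?_)
    show (w : G) * (n : G) = (n : G) * (w : G)
    rw [← hi]
    exact ((mem_cent.1 w.2).zpow_right i).eq
  have hNp : IsPGroup 2 ↥((zpowers u).subgroupOf (centralizer ({u} : Set G))) := fun x => ⟨1, by
    refine Subtype.ext (Subtype.ext ?_)
    show ((x : ↥(centralizer ({u} : Set G))) : G) ^ 2 ^ 1 = 1
    rw [pow_one, pow_two]
    rcases F.pr_eq_one.1 ((QuotientGroup.eq_one_iff _).2 x.2) with e | e <;> rw [e]
    exacts [one_mul 1, F.uu]⟩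
  have hbot := Cfsg.Agent.ZStar.CentralWeaklyClosed.oddCore_quotient_central
    InvChar.Core.oddCore_quotient_oddCore_eq_bot D hDc (hNp.map π)
  let χ : QU u →* (↥(centralizer ({u} : Set G)) ⧸ O) ⧸ D := QuotientGroup.lift ((zpowers u).subgroupOf (centralizer ({u} : Set G))) ((QuotientGroup.mk' D).comp π) fun n hn =>
    (QuotientGroup.eq_one_iff _).2 (mem_map_of_mem π hn)
  have hχ : Function.Surjective χ := fun y => by
    obtain ⟨y, rfl⟩ := QuotientGroup.mk'_surjective D y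
    obtain ⟨w, rfl⟩ := QuotientGroup.mk'_surjective O y
    exact ⟨pr u w, rfl⟩
  have h1 : χ (pr u o1) = 1 := by
    have := Cfsg.Agent.Cores.map_pPrimeCore_le hχ 2 (mem_map_of_mem χ ho)
    rw [show Cfsg.pPrimeCore 2 ((↥(centralizer ({u} : Set G)) ⧸ O) ⧸ D) = ⊥ from hbot, mem_bot] at this
    exact this
  obtain ⟨n, hn, hno⟩ := (QuotientGroup.eq_one_iff _).1 (show QuotientGroup.mk' D (π o1) = 1 from h1)
  have ho' : n⁻¹ * o1 ∈ O := (QuotientGroup.eq (s := O)).1 hno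
  have hpn : pr u o1 = pr u (n⁻¹ * o1) := by
    rw [map_mul, map_inv, show pr u n = 1 from (QuotientGroup.eq_one_iff _).2 hn, inv_one, one_mul]
  rw [hpn, ← map_mul] at hyo
  have hin : (((n⁻¹ * o1 : ↥(centralizer ({u} : Set G)))) : G) ∈ oCore u := ⟨_, ho', rfl⟩
  obtain ⟨hkz, hku⟩ := mem_cH.1 hk
  rcases F.pr_eq.1 hyo with e | e
  · exact ⟨k, _, hkz, hku, hin, e⟩
  · refine ⟨(k : G) * u, _, hkz.mul_left F.comm_zu, hku.mul_left (Commute.refl u), hin, e.trans ?_⟩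
    have hou : Commute (((n⁻¹ * o1 : ↥(centralizer ({u} : Set G)))) : G) u := mem_cent.1 (n⁻¹ * o1).2
    show (k : G) * ((n⁻¹ * o1 : ↥(centralizer ({u} : Set G))) : G) * u = (k : G) * u * ((n⁻¹ * o1 : ↥(centralizer ({u} : Set G))) : G)
    rw [mul_assoc, hou.eq, ← mul_assoc]

end Frame

end Cfsg.Agent.FiTwentyTwoByTwo
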