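import Cfsg.Agent.Lib.FiTwentyTwoByTwo.Move

/-!
# Commuting involutions with a large common fixed space
-/

set_option autoImplicit false
set_option linter.unusedSectionVars false
set_option maxRecDepth 100000

namespace Cfsg.Agent.FiTwentyTwoByTwo

open Cfsg.Agent.ThreeTransp.U62Cent Cfsg.Agent.ThreeTransp.U62Cent.W8

/-- two commuting involutions of the group -/
structure Rng.Pair (R : Rng) (t s : Equiv.Perm W8) : Prop where
  tR : t ∈ R.R
  sR : s ∈ R.R
  t2 : t * t = 1
  s2 : s * s = 1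
  t1 : t ≠ 1
  s1 : s ≠ 1
  ne : t ≠ s
  comm : Commute t s

theorem fix_inter_mul {t s : Equiv.Perm W8} (hs : s * s = 1) (hc : Commute t s) :
    fixV t ∩ fixV (t * s) = fixV t ∩ fixV s := by
  ext v
  simp only [Set.mem_inter_iff, fixV, Set.mem_setOf_eq, Equiv.Perm.mul_apply]
  refine and_congr_right fun hv => ⟨fun h => ?_, fun h => by rw [h, hv]⟩
  have h1 : t (s v) = s (t v) := congrArg (fun g : Equiv.Perm W8 => g v) hc.eq
  rw [h1, hv] at h
  exact h

namespace Rng.Pair

variable {R : Rng} {t s : Equiv.Perm W8} (P : R.Pair t s)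

include P

theorem symm : R.Pair s t := ⟨P.sR, P.tR, P.s2, P.t2, P.s1, P.t1, P.ne.symm, P.comm.symm⟩

theorem mulR : R.Pair t (t * s) :=
  ⟨P.tR, mul_mem P.tR P.sR, P.t2, by rw [P.comm.symm.mul_mul_mul_comm, P.t2, P.s2, one_mul], P.t1,
    fun e => P.ne (by rw [mul_eq_one_iff_eq_inv.1 e, inv_eq_of_mul_eq_one_right P.s2]),
    fun e => P.s1 (mul_eq_left.1 e.symm), (Commute.refl t).mul_right P.comm⟩

theorem mul_eq : t * (t * s) = s := by rw [← mul_assoc, P.t2, one_mul]

theorem commute_apply (v : W8) : s (t v) = t (s v) :=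
  congrArg (fun g : Equiv.Perm W8 => g v) P.comm.eq.symm

/-- two semilinear involutions with a linear product have a small common fixed space -/
theorem nat_outer (he : R.e = true) (hN : INat R.I) (ht : t ∉ R.I) (hs : s ∉ R.I)
    (h : (fixV (t * s)).ncard ≤ 2 * (fixV t ∩ fixV s).ncard) : False := by
  have hI : t * s ∈ R.I := (R.mul_mem_iff t P.tR s P.sR).2 (iff_of_false ht hs)
  have hlin := hN.le hI
  have hne : t * s ≠ 1 := fun e => P.ne (by
    rw [mul_eq_one_iff_eq_inv.1 e, inv_eq_of_mul_eq_one_right P.s2])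
  have h2 : t * s * (t * s) = 1 := P.mulR.s2
  have h16 : 16 ≤ (fixV (t * s)).ncard := by
    rcases INat'.fix_cases hN hI h2 hne with e | e <;> omega
  set C := fixV t ∩ fixV s with hC
  have hCfix : ∀ v ∈ C, (t * s) v = v := fun v hv => by
    rw [Equiv.Perm.mul_apply, hv.2, hv.1]
  have hzero : ∀ c ∈ C, ∀ c' ∈ C, c = W8.sig c' → c' = 0 := by
    intro c hc c' hc' e
    have h1 := R.semi he hN t P.tR ht c'
    rw [← e, hc.1, hc'.1, e] at h1
    -- `σ c' = σ² c'`
    rw [W8.sig_sig] at h1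
    exact left_eq_add.1 h1
  have hinj : (C ×ˢ C).ncard ≤ (fixV (t * s)).ncard := by
    refine Set.ncard_le_ncard_of_injOn (fun p => p.1 + W8.sig p.2) ?_ ?_ (Set.toFinite _)
    · rintro ⟨a, b⟩ ⟨ha, hb⟩
      show (t * s) (a + W8.sig b) = a + W8.sig b
      rw [hlin.add, hlin.sig rfl, hCfix a ha, hCfix b hb]
    · rintro ⟨a, b⟩ ⟨ha, hb⟩ ⟨a', b'⟩ ⟨ha', hb'⟩ e
      have hadd : ∀ {v w}, v ∈ C → w ∈ C → v + w ∈ C := fun {v w} hv hw =>
        ⟨by show t (v + w) = v + w; rw [(R.iso t P.tR).add, hv.1, hw.1],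
          by show s (v + w) = v + w; rw [(R.iso s P.sR).add, hv.2, hw.2]⟩
      have e1 : a + a' = W8.sig (b + b') := by
        rw [W8.sig_add]
        have e' : a + W8.sig b = a' + W8.sig b' := e
        calc a + a' = (a + W8.sig b) + (W8.sig b + a') := by
              rw [add_assoc, ← add_assoc (W8.sig b), W8.add_self, zero_add]
          _ = (a' + W8.sig b') + (W8.sig b + a') := by rw [e']
          _ = (a' + a') + (W8.sig b + W8.sig b') := by abel
          _ = _ := by rw [W8.add_self, zero_add]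
      have hb0 := hzero _ (hadd ha ha') _ (hadd hb hb') e1
      have hbb : b = b' := W8.eq_of_add hb0
      subst hbb
      exact Prod.ext (add_right_cancel e) rfl
  rw [Set.ncard_prod] at hinj
  nlinarith

theorem nat_sig_inv (hN : INat R.I) (ht : t ∈ R.I) (hs : s ∈ R.I) :
    ∀ v ∈ fixV t ∩ fixV s, W8.sig v ∈ fixV t ∩ fixV s := fun v hv =>
  ⟨by show t (W8.sig v) = W8.sig v; rw [(hN.le ht).sig rfl, hv.1],
    by show s (W8.sig v) = W8.sig v; rw [(hN.le hs).sig rfl, hv.2]⟩

end Rng.Pair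

/-- a set containing `0` and invariant under the scalar has cardinality one modulo three -/
theorem sig_ncard {S : Set W8} (h0 : (0 : W8) ∈ S) (hs : ∀ v ∈ S, W8.sig v ∈ S) : S.ncard % 3 = 1 := by
  classical
  haveI : Fact (Nat.Prime 3) := ⟨Nat.prime_three⟩
  let f : Equiv.Perm ↥S :=
    { toFun := fun v => ⟨W8.sig v, hs _ v.2⟩
      invFun := fun v => ⟨W8.sig (W8.sig v), hs _ (hs _ v.2)⟩
      left_inv := fun v => Subtype.ext (W8.sig_three v)
      right_inv := fun v => Subtype.ext (W8.sig_three v) }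
  have hf : f ^ 3 = 1 := Equiv.ext fun v => Subtype.ext (W8.sig_three v)
  have hp : IsPGroup 3 ↥(Subgroup.zpowers f) := fun g => ⟨1, by
    obtain ⟨k, hk⟩ := Subgroup.mem_zpowers_iff.1 g.2
    refine Subtype.ext ?_
    rw [SubgroupClass.coe_pow, ← hk, pow_one, ← zpow_natCast, ← zpow_mul, mul_comm, zpow_mul,
      zpow_natCast, hf, one_zpow]
    rfl⟩
  have h := hp.card_modEq_card_fixedPoints ↥S
  have hfix : MulAction.fixedPoints ↥(Subgroup.zpowers f) ↥S = {⟨0, h0⟩} := by
    ext v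
    simp only [MulAction.mem_fixedPoints, Set.mem_singleton_iff]
    constructor
    · intro hv
      have e : W8.sig (v : W8) = v := congrArg Subtype.val (hv ⟨f, Subgroup.mem_zpowers f⟩)
      have e2 := W8.sig_sig (v : W8)
      rw [e, e, W8.add_self] at e2
      exact Subtype.ext e2
    · rintro rfl ⟨g, hg⟩
      obtain ⟨k, rfl⟩ := Subgroup.mem_zpowers_iff.1 hg
      have hz : W8.sig (0 : W8) = 0 := additive_zero W8.sig_add
      exact Equiv.Perm.zpow_apply_eq_self_of_apply_eq_self (Subtype.ext hz) k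
  rw [hfix, Nat.card_coe_set_eq] at h
  simp only [Set.ncard_singleton, Nat.card_eq_fintype_card, Fintype.card_unique] at h
  rw [← Nat.card_coe_set_eq] at *
  simpa [Nat.ModEq] using h

namespace Rng.Pair

variable {R : Rng} {t s : Equiv.Perm W8} (P : R.Pair t s)

include P

/-- The natural shape: only two elements of the second class with the same fixed space remain. -/
theorem natural (he : R.e = true) (hN : INat R.I)
    (ht : (fixV t).ncard ≤ 2 * (fixV t ∩ fixV s).ncard) (hs : (fixV s).ncard ≤ 2 * (fixV t ∩ fixV s).ncard)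
    (hts : (fixV (t * s)).ncard ≤ 2 * (fixV t ∩ fixV s).ncard) :
    t ∈ R.I ∧ s ∈ R.I ∧ fixV t = fixV s ∧ (fixV t).ncard = 16 := by
  have hst : s * t = t * s := P.comm.eq.symm
  obtain ⟨htI, hsI⟩ : t ∈ R.I ∧ s ∈ R.I := by
    by_cases ht' : t ∈ R.I <;> by_cases hs' : s ∈ R.I
    · exact ⟨ht', hs'⟩
    · have hts' : s * t ∉ R.I := fun h => hs' (((R.mul_mem_iff s P.sR t P.tR).1 h).2 ht')
      refine absurd ?_ id
      refine P.symm.mulR.nat_outer he hN hs' hts' ?_
      rw [P.symm.mul_eq, fix_inter_mul P.t2 P.comm.symm, Set.inter_comm]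
      exact ht
    · have hts' : t * s ∉ R.I := fun h => ht' (((R.mul_mem_iff t P.tR s P.sR).1 h).2 hs')
      refine absurd ?_ id
      refine P.mulR.nat_outer he hN ht' hts' ?_
      rw [P.mul_eq, fix_inter_mul P.s2 P.comm]
      exact hs
    · exact absurd hts (fun h => P.nat_outer he hN ht' hs' h)
  have h0 : (0 : W8) ∈ fixV t ∩ fixV s :=
    ⟨(R.iso t P.tR).map_zero, (R.iso s P.sR).map_zero⟩
  have hmod := sig_ncard h0 (P.nat_sig_inv hN htI hsI)
  have key : ∀ {w : Equiv.Perm W8}, w ∈ R.I → w * w = 1 → w ≠ 1 → fixV t ∩ fixV s ⊆ fixV w →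
      (fixV w).ncard ≤ 2 * (fixV t ∩ fixV s).ncard → fixV t ∩ fixV s = fixV w := by
    intro w hw h2 hne hsub hle
    have hd : (fixV t ∩ fixV s).ncard ∣ 256 := by
      let A : AddSubgroup W8 :=
        { carrier := fixV t ∩ fixV s, zero_mem' := h0
          add_mem' := fun {a b} ha hb => ⟨by show t (a + b) = a + b; rw [(R.iso t P.tR).add, ha.1, hb.1],
            by show s (a + b) = a + b; rw [(R.iso s P.sR).add, ha.2, hb.2]⟩
          neg_mem' := fun {v} hv => by rwa [neg_eq] }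
      have := A.card_addSubgroup_dvd_card
      rw [show Nat.card W8 = 256 by show Nat.card (Fin 256) = 256; simp] at this
      rwa [← Nat.card_coe_set_eq]
    have hle' := Set.ncard_le_ncard hsub (Set.toFinite _)
    refine Set.eq_of_subset_of_ncard_le hsub ?_ (Set.toFinite _)
    rcases INat'.fix_cases hN hw h2 hne with e | e <;> rw [e] at hle hle' ⊢ <;>
      interval_cases hk : (fixV t ∩ fixV s).ncard <;> omega
  have e1 := key htI P.t2 P.t1 Set.inter_subset_left ht
  have e2 := key hsI P.s2 P.s1 Set.inter_subset_right hs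
  have e := e1.symm.trans e2
  refine ⟨htI, hsI, e, (INat'.fix_cases hN htI P.t2 P.t1).resolve_left fun h64 => ?_⟩
  -- two transvections with one fixed space are equal
  obtain ⟨y, hy, hc⟩ := hN.classes htI P.t2 P.t1
  rcases hc with hc | hc
  swap
  · have : (fixV t).ncard = 16 := by
      rw [← Set.ncard_image_of_injective (fixV t) y.injective, ← N.ncard_fix1]
      congr 1
      ext x
      constructor
      · rintro ⟨x, hx, rfl⟩; exact (transport_fix hc).1 hx
      · intro hx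
        exact ⟨y.symm x, (transport_fix hc).2 (by rw [Equiv.apply_symm_apply]; exact hx),
          y.apply_symm_apply x⟩
    omega
  have hsI' : y * s * y⁻¹ ∈ R.I := mul_mem (mul_mem hy hsI) (inv_mem hy)
  rcases N.fix0_group (hN.le hsI') (fun v hv => by
    have h1 : t (y⁻¹ v) = y⁻¹ v := (transport_fix hc).2 (by
      rw [Equiv.Perm.inv_def, Equiv.apply_symm_apply]; exact (N.C0_iff v).2 hv)
    have h2 : s (y⁻¹ v) = y⁻¹ v := (show y⁻¹ v ∈ fixV s by rw [← e]; exact h1)
    show y (s (y⁻¹ v)) = v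
    rw [h2]; simp) with e' | e'
  · exact P.s1 (by rwa [mul_inv_eq_one, mul_eq_left] at e')
  · have : y * s * y⁻¹ = y * t * y⁻¹ := Equiv.ext fun v => (e' v).trans (hc v).symm
    exact P.ne (mul_left_cancel (mul_right_cancel this)).symm

/-- the common fixed vectors in the six-dimensional part -/
def C6 (_P : R.Pair t s) : Set W8 := fixV t ∩ fixV s ∩ sixV

theorem split_refl (hS : ISplit R.I) (hq : ∀ x ∈ P.C6, (∃ v ∈ sixV, t v + v = x) → qe R.e x = false)
    (hI : t ∉ R.I) : (fixV t ∩ sixV).ncard = 8 ∧ ∀ v ∈ sixV, t v = v → ∃ w ∈ sixV, t w + w = v := by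
  refine (R.outer_six hS P.tR hI P.t2).resolve_left ?_
  rintro ⟨-, n, hn, hqn, hcases, y, hy, hyn⟩
  have ht := R.inv_of P.tR P.t2
  refine absurd (hq n ⟨⟨ht.im_fix ⟨y, hyn⟩, ?_⟩, hn⟩ ⟨y, hy, hyn⟩) (by rw [hqn]; decide)
  have hsy : s y ∈ sixV := R.six_map hS s P.sR y hy
  have h1 : s n = t (s y) + s y := by
    rw [← hyn, (R.iso s P.sR).add, P.commute_apply]
  show s n = n
  rcases hcases _ hsy with e | e
  · exfalso
    rw [e] at h1
    have h0 : n = 0 := (R.iso s P.sR).injective (h1.trans (R.iso s P.sR).map_zero.symm)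
    rw [h0, qe_zero] at hqn
    exact absurd hqn (by decide)
  · rw [h1, e]

theorem split_outer (hS : ISplit R.I) (hq : ∀ x ∈ P.C6, (∃ v ∈ sixV, t v + v = x) → qe R.e x = false)
    (ht : t ∉ R.I) (hs : s ∉ R.I) (h : (fixV (t * s) ∩ sixV).ncard ≤ 2 * P.C6.ncard) : False := by
  obtain ⟨h8, him⟩ := P.split_refl hS hq ht
  have hI : t * s ∈ R.I := (R.mul_mem_iff t P.tR s P.sR).2 (iff_of_false ht hs)
  rw [ISplit'.fix_six hS hI P.mulR.s2 P.mulR.s1] at h
  have e : P.C6 = fixV t ∩ sixV := Set.eq_of_subset_of_ncard_le (fun v hv => ⟨hv.1.1, hv.2⟩)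
    (by omega) (Set.toFinite _)
  have hti := R.iso t P.tR
  have := six_singular_le (S := fixV t ∩ sixV) Set.inter_subset_right
    (fun v hv w hw => ⟨by show t (v + w) = v + w; rw [hti.add, hv.1, hw.1], add_six hv.2 hw.2⟩)
    (fun v hv => by
      rw [← R.qe_six' hv.2]
      exact hq v (by rw [e]; exact hv) (him v hv.2 hv.1))
  omega

theorem split_same (hS : ISplit R.I) (htI : t ∈ R.I) (hsI : s ∈ R.I)
    (h : P.C6 = fixV t ∩ sixV) : False := by
  obtain ⟨Q, y, hy, hc⟩ := S.classes_rep hS htI P.t2 P.t1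
  have hsI' : y * s * y⁻¹ ∈ R.I := mul_mem (mul_mem hy hsI) (inv_mem hy)
  have hD : ∀ v ∈ Q.D, (y * s * y⁻¹ : Equiv.Perm W8) v = v := fun v hv => by
    obtain ⟨h6, hC⟩ := Q.D_sub v hv
    have h1 : t (y⁻¹ v) = y⁻¹ v := (transport_fix hc).2 (by
      rw [Equiv.Perm.inv_def, Equiv.apply_symm_apply]; exact (Q.C_iff v).2 hC)
    have h2 : y⁻¹ v ∈ P.C6 := by
      rw [h]; exact ⟨h1, ISplit'.six_map hS (inv_mem hy) h6⟩
    show y (s (y⁻¹ v)) = v
    rw [show s (y⁻¹ v) = y⁻¹ v from h2.1.2]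
    simp
  rcases Q.fix_group (hS.le hsI') (Q.eq_C_of_D (hS.le hsI') hD) with e | e | ⟨e2, e⟩
  · exact P.s1 (by rwa [mul_inv_eq_one, mul_eq_left] at e)
  · have : y * s * y⁻¹ = y * t * y⁻¹ := Equiv.ext fun v => (e v).trans (hc v).symm
    exact P.ne (mul_left_cancel (mul_right_cancel this)).symm
  · have := hS.even_rank hsI' (k := 1) (by rw [pow_one, pow_two]; exact e2)
    rw [this] at e
    exact absurd e (by decide)

theorem split (hS : ISplit R.I)
    (hqt : ∀ x ∈ P.C6, (∃ v ∈ sixV, t v + v = x) → qe R.e x = false)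
    (hqs : ∀ x ∈ P.C6, (∃ v ∈ sixV, s v + v = x) → qe R.e x = false)
    (hqts : ∀ x ∈ P.C6, (∃ v ∈ sixV, (t * s) v + v = x) → qe R.e x = false)
    (ht : (fixV t ∩ sixV).ncard ≤ 2 * P.C6.ncard) (hs : (fixV s ∩ sixV).ncard ≤ 2 * P.C6.ncard)
    (hts : (fixV (t * s) ∩ sixV).ncard ≤ 2 * P.C6.ncard) :
    t ∈ R.I ∧ s ∈ R.I ∧ P.C6.ncard = 8 := by
  have hst : s * t = t * s := P.comm.eq.symm
  have c1 : P.symm.C6 = P.C6 := by
    unfold C6; rw [Set.inter_comm (fixV s)]
  have c2 : P.mulR.C6 = P.C6 := by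
    unfold C6; rw [fix_inter_mul P.s2 P.comm]
  have c3 : P.symm.mulR.C6 = P.C6 := by
    unfold C6; rw [fix_inter_mul P.t2 P.comm.symm, Set.inter_comm (fixV s)]
  obtain ⟨htI, hsI⟩ : t ∈ R.I ∧ s ∈ R.I := by
    by_cases ht' : t ∈ R.I <;> by_cases hs' : s ∈ R.I
    · exact ⟨ht', hs'⟩
    · have hts' : s * t ∉ R.I := fun h => hs' (((R.mul_mem_iff s P.sR t P.tR).1 h).2 ht')
      refine absurd ?_ id
      refine P.symm.mulR.split_outer hS ?_ hs' hts' ?_
      · rw [c3]; exact hqs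
      · rw [c3, P.symm.mul_eq]; exact ht
    · have hts' : t * s ∉ R.I := fun h => ht' (((R.mul_mem_iff t P.tR s P.sR).1 h).2 hs')
      refine absurd ?_ id
      refine P.mulR.split_outer hS ?_ ht' hts' ?_
      · rw [c2]; exact hqt
      · rw [c2, P.mul_eq]; exact hs
    · exact absurd hts fun h => P.split_outer hS hqt ht' hs' h
  have h16 := ISplit'.fix_six hS htI P.t2 P.t1
  have h16' := ISplit'.fix_six hS hsI P.s2 P.s1
  refine ⟨htI, hsI, ?_⟩
  have hsub : P.C6 ⊆ fixV t ∩ sixV := fun v hv => ⟨hv.1.1, hv.2⟩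
  have hle := Set.ncard_le_ncard hsub (Set.toFinite _)
  have hd : P.C6.ncard ∣ 256 := by
    let A : AddSubgroup W8 :=
      { carrier := P.C6
        zero_mem' := ⟨⟨(R.iso t P.tR).map_zero, (R.iso s P.sR).map_zero⟩, zero_six⟩
        add_mem' := fun {a b} ha hb => ⟨⟨by show t (a + b) = a + b; rw [(R.iso t P.tR).add, ha.1.1, hb.1.1],
          by show s (a + b) = a + b; rw [(R.iso s P.sR).add, ha.1.2, hb.1.2]⟩, add_six ha.2 hb.2⟩
        neg_mem' := fun {v} hv => by rwa [neg_eq] }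
    have := A.card_addSubgroup_dvd_card
    rw [show Nat.card W8 = 256 by show Nat.card (Fin 256) = 256; simp] at this
    rwa [← Nat.card_coe_set_eq]
  by_contra h8
  have hC16 : P.C6.ncard = 16 := by
    rw [h16] at ht hle
    interval_cases hk : P.C6.ncard <;> omega
  have e1 : P.C6 = fixV t ∩ sixV := Set.eq_of_subset_of_ncard_le hsub (by omega) (Set.toFinite _)
  -- two inner involutions with the same fixed space in the six-part are equal
  exact P.split_same hS htI hsI e1

end Rng.Pair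

end Cfsg.Agent.FiTwentyTwoByTwo
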