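import Cfsg.Agent.Lib.FiTwentyTwoByTwo.Build
import Cfsg.Agent.Lib.FiTwentyTwoByTwo.Isolated
import Cfsg.Agent.S3231

/-!
# The two possible types of the central elements
-/

set_option autoImplicit false
set_option linter.unusedSectionVars false

namespace Cfsg.Agent.FiTwentyTwoByTwo

open Subgroup Cfsg.Agent.ThreeTransp.U62Cent

universe u' v w

variable {G : Type u'} [Group G] [Finite G] {z u : G}

theorem Frame.co_faith (F : Frame z u) (K : Co z u) :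
    ∀ c, Commute c z → (∀ v, K.act c v = v) → Commute c u := fun c hc h =>
  F.u_cent c (F.faith hc fun j hj => by
    refine (K.vec_eq_zero (mul_mem (conj_O2c hc hj) (inv_mem hj))).1 ?_
    rw [K.vec_mul (conj_O2c hc hj) (inv_mem hj), K.vec_inv hj, K.act_vec hc hj, h, W8.add_self])

variable {F₃ : Type v} [Field F₃] [Fintype F₃] {F₄ : Type w} [Field F₄] [Fintype F₄]

/-- case B: data, and the type of `u` -/
theorem Frame.type_B (F : Frame z u) (h3 : Fintype.card F₃ = 3) (h4 : Fintype.card F₄ = 4)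
    [(Cfsg.pCore 2 ↥(centralizer ({z} : Set G))).Normal]
    (e : (↥(centralizer ({z} : Set G)) ⧸ Cfsg.pCore 2 ↥(centralizer ({z} : Set G))) ≃*
      MulAut (Cfsg.PSp 2 F₃))
    (hB : ∃ c, Commute c z ∧ ¬ Commute c u) :
    Nonempty (Co z u) ∧ Nat.card ↥(cH z u) = 26542080 ∧
      (TI z u ∨ Nonempty (QU u ≃* Cfsg.PSU 6 F₄ 2)) := by
  obtain ⟨hs, hS, hA, hinj⟩ := psp_facts h3 h4
  obtain ⟨φ, hφ, hk⟩ := exists_aut_hom e
  obtain ⟨ψ, hψ, hψk⟩ := F.hom_B hs hS hA hinj φ hφ hk hB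
  obtain ⟨iso⟩ := F.quot_iso ψ hψ hψk
  obtain ⟨hex, hc⟩ := F.extra_zX
  haveI : (Cfsg.pCore 2 ↥(centralizer ({F.zX} : Set (QU u)))).Normal := inferInstance
  obtain ⟨M⟩ := exists_coord F.zX_orderOf h3 h4 hex hc F.cent_zX iso
  refine ⟨⟨mkCo F M.toPre (rngB M) rfl rfl fun _ _ _ => rfl⟩,
    by rw [Frame.card_of_hom hS F.card F.J_le_cH ψ hψ hψk], ?_⟩
  rcases Cfsg.Agent.S3230.result F.zX F.zX_orderOf h3 h4 hex hc F.cent_zX iso with h | h
  exacts [Or.inr h, Or.inl (F.TI_of_quot h)]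

/-- case A: data, and the type of `u` -/
theorem Frame.type_A (F : Frame z u) (h3 : Fintype.card F₃ = 3) (h4 : Fintype.card F₄ = 4)
    [(Cfsg.pCore 2 ↥(centralizer ({z} : Set G))).Normal]
    (e : (↥(centralizer ({z} : Set G)) ⧸ Cfsg.pCore 2 ↥(centralizer ({z} : Set G))) ≃*
      MulAut (Cfsg.PSp 2 F₃))
    (hA : ∀ c, Commute c z → Commute c u) :
    Nonempty (Co z u) ∧ (TI z u ∨ ∃ X₀ : Subgroup (QU u), X₀.index = 2 ∧
      Nonempty (↥X₀ ≃* Cfsg.PSU 6 F₄ 2) ∧ centralizer (X₀ : Set (QU u)) = ⊥) := by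
  obtain ⟨φ, hφ, hk⟩ := exists_aut_hom e
  obtain ⟨ψ, hψ, hψk⟩ := F.hom_A φ hφ hk hA
  obtain ⟨iso⟩ := F.quot_iso ψ hψ hψk
  obtain ⟨hex, hc⟩ := F.extra_zX
  haveI : (Cfsg.pCore 2 ↥(centralizer ({F.zX} : Set (QU u)))).Normal := inferInstance
  obtain ⟨M⟩ := exists_acoord F.zX_orderOf h3 h4 hex hc F.cent_zX iso
  refine ⟨⟨mkCo F M.toPre (rngA M) rfl rfl fun c hc hn => absurd (hA c hc) hn⟩, ?_⟩
  rcases Cfsg.Agent.S3231.result F.zX F.zX_orderOf h3 h4 hex hc F.cent_zX iso with h | h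
  exacts [Or.inr h, Or.inl (F.TI_of_quot h)]

/-- a field of order four in the lowest universe -/
theorem card_gf4 : ∃ (F : Type) (_ : Field F) (_ : Fintype F), Fintype.card F = 4 := by
  haveI : Fact (Nat.Prime 2) := ⟨Nat.prime_two⟩
  letI := Fintype.ofFinite (GaloisField 2 2)
  exact ⟨GaloisField 2 2, inferInstance, inferInstance, by
    rw [← Nat.card_eq_fintype_card, GaloisField.card 2 2 (by norm_num)]; norm_num⟩

end Cfsg.Agent.FiTwentyTwoByTwo
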