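import Cfsg.Agent.Lib.FiTwentyTwoByTwo.Triple

/-!
# The centraliser of an involution on its fixed space
-/

set_option autoImplicit false
set_option linter.unusedSectionVars false
set_option maxRecDepth 100000

namespace Cfsg.Agent.FiTwentyTwoByTwo

open Cfsg.Agent.ThreeTransp.U62Cent Cfsg.Agent.ThreeTransp.U62Cent.W8

/-- an additive functional on the fixed space, trivial on commutators and invariant, vanishes on the
span of commutators and of differences `k x + x` -/
theorem psi_gen {g : Equiv.Perm W8} (hg : IsInv true g ∨ IsInv false g) {f : W8 → Bool}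
    (hadd : ∀ v w, g v = v → g w = w → f (v + w) = xor (f v) (f w)) :
    ∀ {l : List W8}, (∀ v ∈ l, g v = v ∧ f v = false) → ∀ v ∈ rspan l, g v = v ∧ f v = false := by
  have hga : ∀ v w, g (v + w) = g v + g w := by rcases hg with h | h <;> exact h.iso.add
  have h00 : g 0 = 0 ∧ f 0 = false := ⟨additive_zero hga, by
    have := hadd 0 0 (additive_zero hga) (additive_zero hga)
    rw [add_zero] at this
    simpa using this⟩
  intro l
  induction l with
  | nil => intro _ v hv; rw [List.mem_singleton.1 hv]; exact h00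
  | cons a l ih =>
    intro h v hv
    have ih' := ih fun x hx => h x (List.mem_cons_of_mem _ hx)
    simp only [rspan] at hv
    split at hv
    · exact ih' v hv
    · rcases List.mem_append.1 hv with hv | hv
      · exact ih' v hv
      · obtain ⟨w, hw, rfl⟩ := List.mem_map.1 hv
        obtain ⟨ha1, ha2⟩ := h a List.mem_cons_self
        obtain ⟨hw1, hw2⟩ := ih' w hw
        exact ⟨by rw [hga, ha1, hw1], by rw [hadd a w ha1 hw1, ha2, hw2]; rfl⟩

variable {I : Subgroup (Equiv.Perm W8)}

/-- In the natural shape an invariant functional on the fixed space of an inner involution is trivial. -/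
theorem psi_nat (hN : INat I) {g : Equiv.Perm W8} (hgI : g ∈ I) (h2 : g * g = 1) (hne : g ≠ 1)
    {f : W8 → Bool} (hadd : ∀ v w, g v = v → g w = w → f (v + w) = xor (f v) (f w))
    (him : ∀ y, f (g y + y) = false)
    (hinv : ∀ k ∈ I, k * g = g * k → ∀ v, g v = v → f (k v) = f v) :
    ∀ v, g v = v → f v = false := by
  have hi := hN.le hgI
  have hgv : IsInv true g := ⟨⟨hi.add, hi.q, fun h => absurd h (by decide)⟩, h2⟩
  obtain ⟨y, hy, hc⟩ := hN.classes hgI h2 hne
  have hyi := hN.le (inv_mem hy)
  have back : ∀ {r : W8 → W8}, (∀ v, (y * g * y⁻¹ : Equiv.Perm W8) v = r v) → ∀ v, g (y⁻¹ v) = y⁻¹ (r v) :=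
    fun hr v => by rw [← hr]; simp
  -- the base change
  have imz : ∀ {r : W8 → W8}, (∀ v, (y * g * y⁻¹ : Equiv.Perm W8) v = r v) →
      ∀ x, f (y⁻¹ (r x + x)) = false := fun {r} hr x => by
    rw [hyi.add, ← back hr]; exact him _
  intro v hv
  have hv' : v = y⁻¹ (y v) := by simp
  rcases hc with hc | hc
  · obtain ⟨hcomm, hC, hL, hspan⟩ := Tables.psiN0
    have hgen : ∀ x ∈ Tables.genN0.map (y⁻¹ : Equiv.Perm W8), g x = x ∧ f x = false := by
      intro x hx
      obtain ⟨z, hz, rfl⟩ := List.mem_map.1 hx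
      simp only [Tables.genN0, List.mem_append, List.mem_flatMap, List.mem_map] at hz
      rcases hz with hz | ⟨p, hp, w, hw, rfl⟩
      · obtain ⟨x, hx⟩ := N.L0_iff.2 _ (hL z hz)
        rw [← hx]
        refine ⟨?_, imz hc x⟩
        rw [hyi.add, ← back hc]; exact hgv.im_fix ⟨_, rfl⟩
      · obtain ⟨hok, hcm⟩ := hcomm p hp
        obtain ⟨k, hk, hkw⟩ := hN.word hok
        have hka : ∀ u, k (N.a0 u) = N.a0 (k u) := fun u => by
          have := W8.basis_add u (f := fun u => wT [p] (N.a0 u)) (g := fun u => N.a0 (wT [p] u))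
            (fun a b => by simp only [N.a0_add, wT_add]) (fun a b => by simp only [N.a0_add, wT_add])
            (List.map_inj_left.1 hcm)
          rw [hkw]; exact this
        have hw0 : N.a0 w = w := (N.C0_iff w).2 (hC w hw)
        have hgw : g (y⁻¹ w) = y⁻¹ w := by rw [back hc, hw0]
        have hgk : g (y⁻¹ (k w)) = y⁻¹ (k w) := by rw [back hc, ← hka, hw0]
        have hcg : y⁻¹ * k * y * g = g * (y⁻¹ * k * y) := Equiv.ext fun u => by
          have hyu : y (g u) = N.a0 (y u) := by rw [← hc]; simp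
          show y⁻¹ (k (y (g u))) = g (y⁻¹ (k (y u)))
          rw [hyu, hka, back hc]
        have hinv' := hinv _ (mul_mem (mul_mem (inv_mem hy) hk) hy) hcg _ hgw
        simp only [Equiv.Perm.mul_apply, Equiv.Perm.inv_def, Equiv.apply_symm_apply] at hinv'
        rw [show wT [p] w = k w by rw [hkw], hyi.add]
        refine ⟨by rw [hgv.iso.add, hgk, hgw], ?_⟩
        rw [hadd _ _ hgk hgw]
        simp only [Equiv.Perm.inv_def] at hinv' ⊢
        rw [hinv', Bool.xor_self]
    have hmem : v ∈ rspan (Tables.genN0.map (y⁻¹ : Equiv.Perm W8)) := by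
      rw [mem_rspan_iff, ← span_map hyi.add, List.mem_map]
      exact ⟨y v, (mem_rspan_iff _ _).1 (hspan _ ((N.C0_iff _).1 ((transport_fix hc).1 hv))), hv'.symm⟩
    exact (psi_gen (Or.inl hgv) hadd hgen v hmem).2
  · obtain ⟨-, x, hx⟩ := N.L1_iff.2.2 _ ((N.L1_iff.1 _).1 ((transport_fix hc).1 hv))
    rw [hv', ← hx]
    exact imz hc x

/-- In the split shape the same holds on the six-dimensional part. -/
theorem psi_split (hS : ISplit I) {g : Equiv.Perm W8} (hgI : g ∈ I) (h2 : g * g = 1) (hne : g ≠ 1)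
    {f : W8 → Bool} (hadd : ∀ v w, g v = v → g w = w → f (v + w) = xor (f v) (f w))
    (him : ∀ y, f (g y + y) = false)
    (hinv : ∀ k ∈ I, k * g = g * k → ∀ v, g v = v → f (k v) = f v) :
    ∀ v ∈ sixV, g v = v → f v = false := by
  have hi := (hS.le hgI).1
  have hgv : IsInv true g := ⟨hi, h2⟩
  obtain ⟨y, hy, hc⟩ := hS.classes hgI h2 hne
  have hyi := (hS.le (inv_mem hy)).1
  -- one generator at a time
  have key : ∀ {r : W8 → W8} {D : List W8}, (∀ a b, r (a + b) = r a + r b) →
      (∀ v, (y * g * y⁻¹ : Equiv.Perm W8) v = r v) → (∀ v ∈ six, (r v = v ↔ v ∈ D)) →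
      ∀ {ws : List (List ℕ)} {ls xs : List W8},
      (∀ w ∈ ws, okF w = true ∧ cols (fun v => wF w (r v)) = cols (fun v => r (wF w v))) →
      (∀ x ∈ xs, r x = x) → (∀ l ∈ ls, ∃ x, r x + x = l) →
      (∀ v ∈ D, v ∈ rspan (ls ++ ws.flatMap fun w => xs.map fun x => wF w x + x)) →
      ∀ v ∈ sixV, g v = v → f v = false := by
    intro r D hradd hr hD ws ls xs hws hxs hls hspan v hv6 hv
    have back : ∀ v, g (y⁻¹ v) = y⁻¹ (r v) := fun v => by rw [← hr]; simp
    have hgen : ∀ x ∈ (ls ++ ws.flatMap fun w => xs.map fun x => wF w x + x).map (y⁻¹ : Equiv.Perm W8),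
        g x = x ∧ f x = false := by
      intro x hx
      obtain ⟨z, hz, rfl⟩ := List.mem_map.1 hx
      simp only [List.mem_append, List.mem_flatMap, List.mem_map] at hz
      rcases hz with hz | ⟨w, hw, x, hxmem, rfl⟩
      · obtain ⟨x, rfl⟩ := hls z hz
        rw [hyi.add, ← back]
        exact ⟨hgv.im_fix ⟨_, rfl⟩, him _⟩
      · obtain ⟨hok, hcm⟩ := hws w hw
        obtain ⟨k, hk, hkw⟩ := hS.word hok
        have hka : ∀ u, k (r u) = r (k u) := fun u => by
          have := W8.basis_add u (f := fun u => wF w (r u)) (g := fun u => r (wF w u))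
            (fun a b => by simp only [hradd, wF_add]) (fun a b => by simp only [hradd, wF_add])
            (List.map_inj_left.1 hcm)
          rw [hkw]; exact this
        have hgw : g (y⁻¹ x) = y⁻¹ x := by rw [back, hxs x hxmem]
        have hgk : g (y⁻¹ (k x)) = y⁻¹ (k x) := by rw [back, ← hka, hxs x hxmem]
        have hcg : y⁻¹ * k * y * g = g * (y⁻¹ * k * y) := Equiv.ext fun u => by
          have hyu : y (g u) = r (y u) := by rw [← hr]; simp
          show y⁻¹ (k (y (g u))) = g (y⁻¹ (k (y u)))
          rw [hyu, hka, back]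
        have hinv' := hinv _ (mul_mem (mul_mem (inv_mem hy) hk) hy) hcg _ hgw
        simp only [Equiv.Perm.mul_apply, Equiv.Perm.inv_def, Equiv.apply_symm_apply] at hinv'
        rw [show wF w x = k x by rw [hkw], hyi.add]
        refine ⟨by rw [hgv.iso.add, hgk, hgw], ?_⟩
        rw [hadd _ _ hgk hgw]
        simp only [Equiv.Perm.inv_def] at hinv' ⊢
        rw [hinv', Bool.xor_self]
    have h6 : y v ∈ six := ISplit'.six_map hS hy hv6
    refine (psi_gen (Or.inl hgv) hadd hgen v ?_).2
    rw [mem_rspan_iff, ← span_map hyi.add, List.mem_map]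
    exact ⟨y v, (mem_rspan_iff _ _).1 (hspan _ ((hD _ h6).1 ((transport_fix hr).1 hv))), by simp⟩
  rcases hc with hc | hc
  · obtain ⟨hcomm, hxs, hls, hspan⟩ := Tables.psiS0
    refine key (wF_add _) hc S.D0_iff (ws := [[42, 1]]) (ls := vecs [17, 5]) (xs := vecs [1, 42])
      (fun w hw => by rw [List.mem_singleton.1 hw]; exact hcomm)
      (fun x hx => (S.D0_iff x (S.D0_sub x (hxs x hx)).1).2 (hxs x hx))
      (fun l hl => S.L0_iff.2 l (hls l hl)) fun v hv => ?_
    simpa [Tables.genS0] using hspan v hv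
  · obtain ⟨hcomm, hxs, hls, hspan⟩ := Tables.psiS1
    refine key (wF_add _) hc S.D1_iff (ws := [[16, 1], [32, 1]]) (ls := vecs [1, 4]) (xs := vecs [16, 32])
      (fun w hw => ?_)
      (fun x hx => (S.D1_iff x (S.D1_sub x (hxs x hx)).1).2 (hxs x hx))
      (fun l hl => S.L1_iff.2 l (hls l hl)) fun v hv => ?_
    · simp only [List.mem_cons, List.not_mem_nil, or_false] at hw
      rcases hw with rfl | rfl <;> exact hcomm _ (by simp)
    · simpa [Tables.genS1] using hspan v hv

/-- Two involutions of the second class with one fixed space are told apart by an element of order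
three centralising the first. -/
theorem Rng.Pair.natural_witness {R : Rng} {t s : Equiv.Perm W8} (P : R.Pair t s) (hN : INat R.I)
    (htI : t ∈ R.I) (hsI : s ∈ R.I) (hF : fixV t = fixV s) (h16 : (fixV t).ncard = 16) :
    ∃ h ∈ R.I, h * (h * h) = 1 ∧ h * t = t * h ∧ h * s ≠ s * h := by
  obtain ⟨y, hy, hc⟩ := hN.classes htI P.t2 P.t1
  have hsize : ∀ {r : W8 → W8} (g : Equiv.Perm W8), (∀ v, (y * g * y⁻¹ : Equiv.Perm W8) v = r v) →
      (fixV g).ncard = {v | r v = v}.ncard := fun {r} g hr => by
    rw [← Set.ncard_image_of_injective (fixV g) y.injective]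
    congr 1
    ext x
    constructor
    · rintro ⟨x, hx, rfl⟩; exact (transport_fix hr).1 hx
    · intro hx
      exact ⟨y.symm x, (transport_fix hr).2 (by rw [Equiv.apply_symm_apply]; exact hx),
        y.apply_symm_apply x⟩
  rcases hc with hc | hc
  · rw [hsize t hc, N.ncard_fix0] at h16; omega
  set s' := y * s * y⁻¹ with hs'
  have hs'I : s' ∈ R.I := mul_mem (mul_mem hy hsI) (inv_mem hy)
  have hi := hN.le hs'I
  have hfixL : ∀ v ∈ N.L1, s' v = v := fun v hv => by
    have h1 : t (y⁻¹ v) = y⁻¹ v := (transport_fix hc).2 (by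
      rw [Equiv.Perm.inv_def, Equiv.apply_symm_apply]; exact (N.L1_iff.1 v).2 hv)
    show y (s (y⁻¹ v)) = v
    rw [show s (y⁻¹ v) = y⁻¹ v from (show y⁻¹ v ∈ fixV s by rw [← hF]; exact h1)]
    simp
  have hm := search_sound (l := N.fixList1) hi fun p hp => by
    simp only [N.fixList1, List.mem_cons, List.not_mem_nil, or_false] at hp
    rcases hp with rfl | rfl | rfl | rfl
    iterate 2 exact span_all _
    · exact List.mem_singleton.2 (hfixL _ N.fix1.2.2.1)
    · exact List.mem_singleton.2 (hfixL _ N.fix1.2.2.2)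
  have hcand : Tables.cand1 ((N.fixList1.map Prod.fst).map s') = cols s' := by
    rw [cols, ← show Tables.cand1 (N.fixList1.map Prod.fst) = basis from Tables.cand1_id.trans (List.map_id _)]
    simp only [Tables.cand1, List.map_map]
    refine List.map_congr_left fun c _ => ?_
    simp only [Function.comp_apply, app, ← List.map_map, ← appFrom_map hi.add]
    congr 1
    simp only [List.map_append, List.map_map]
    congr 1
    exact List.map_congr_left fun v _ => (hi.sig rfl v.1).symm
  obtain ⟨⟨hok, hw3, hwc⟩, hall⟩ := Tables.fix1_witness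
  have h := List.all_eq_true.1 hall _ hm
  rw [hcand] at h
  simp only [Bool.or_eq_true, beq_iff_eq, bne_iff_ne] at h
  rcases h with ((e | e) | e) | e
  · have : s' = 1 := perm_ext hi.add (one_mem _) e
    exact absurd (by rwa [hs', mul_inv_eq_one, mul_eq_left] at this) P.s1
  · have : y * s * y⁻¹ = y * t * y⁻¹ := Equiv.ext fun v => by
      rw [hc v]
      exact W8.basis_add v hi.add N.a1_add (List.map_inj_left.1 e)
    exact absurd (mul_left_cancel (mul_right_cancel this)).symm P.ne
  · exfalso
    refine e ?_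
    have e16 : {v | s' v = v}.ncard = 16 := by
      rw [← hsize s (fun v => rfl), ← hF, h16]
    rw [← e16, List.countP_eq_length_filter,
      ← List.toFinset_card_of_nodup (span_basis_nodup.filter _), ← Set.ncard_coe_finset]
    congr 1
    ext v
    simp only [List.coe_toFinset, List.mem_filter, beq_iff_eq, Set.mem_setOf_eq]
    have happ : app (cols s') v = s' v := (eq_app hi.add v).symm
    rw [happ]
    exact ⟨fun h => h.2, fun h => ⟨span_all v, h⟩⟩
  · obtain ⟨k, hk, hkw⟩ := hN.word hok
    have hk3 : k * (k * k) = 1 := by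
      refine perm_ext (mul_mem (hN.add hk) (mul_mem (hN.add hk) (hN.add hk))) (one_mem _) ?_
      rw [show cols (1 : Equiv.Perm W8) = cols id from rfl, ← hw3]
      refine List.map_congr_left fun v _ => ?_
      show k (k (k v)) = wT _ v
      rw [wT_append, wT_append, hkw]
    have hka : ∀ u, k (N.a1 u) = N.a1 (k u) := fun u => by
      rw [hkw]
      exact W8.basis_add u (f := fun u => wT _ (N.a1 u)) (g := fun u => N.a1 (wT _ u))
        (fun a b => by simp only [N.a1_add, wT_add]) (fun a b => by simp only [N.a1_add, wT_add])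
        (List.map_inj_left.1 hwc)
    refine ⟨y⁻¹ * k * y, mul_mem (mul_mem (inv_mem hy) hk) hy, ?_, ?_, fun ec => e ?_⟩
    · calc y⁻¹ * k * y * (y⁻¹ * k * y * (y⁻¹ * k * y)) = y⁻¹ * (k * (k * k)) * y := by group
        _ = 1 := by rw [hk3]; group
    · refine Equiv.ext fun u => ?_
      have hyu : y (t u) = N.a1 (y u) := by rw [← hc]; simp
      show y⁻¹ (k (y (t u))) = t (y⁻¹ (k (y u)))
      rw [hyu, hka, ← hc]; simp
    · have e' : k * s' = s' * k := by
        calc k * s' = y * (y⁻¹ * k * y * s) * y⁻¹ := by rw [hs']; group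
          _ = y * (s * (y⁻¹ * k * y)) * y⁻¹ := by rw [ec]
          _ = _ := by rw [hs']; group
      rw [← hkw, ← cols_mul (hN.add hs'I), ← cols_mul (hN.add hk), e']

end Cfsg.Agent.FiTwentyTwoByTwo
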